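import Cfsg.Agent.H0.Sz.D.C0
import Cfsg.Agent.H0.Sz.D.C1
import Cfsg.Agent.H0.Sz.D.C2
import Cfsg.Agent.H0.Sz.D.C3

/-! Generated by tools/h0/suz/genD.py. -/

set_option maxRecDepth 100000
set_option maxHeartbeats 0

namespace H0.Sz
open H16 H0.TR H0.Am H0.Fi
open scoped commutatorElement

theorem md {G : Type*} [Group G] (e : gen H16.Suz.g 7 ≃* G) :
    ∃ (_ : MulAction G (Fin 1782)) (g : ℕ → G), Md g (ptF 1782) H16.Suz.P 1782 7 H16.Suz.B 448345497600 ∧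
      ∀ k < 7, (e.symm (g k)).1 = H16.Suz.g k :=
  exists_md H16.Suz.act (ptF_inj 1782) H16.Suz.card H16.Suz.isBase md_b e
theorem F_m_0 : ∀ i < 1782, (matEnt (wdsP H16.Suz.P F_W) F_P (nat_lit 0)) i = 0 := allZ_sound0 F_m_0_0
theorem F_m_1 : ∀ i < 1782, (matEnt (wdsP H16.Suz.P F_W) F_P (nat_lit 1)) i = 0 := allZ_sound0 F_m_1_0
theorem F_m_2 : ∀ i < 1782, (matEnt (wdsP H16.Suz.P F_W) F_P (nat_lit 2)) i = 0 := allZ_sound0 F_m_2_0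
theorem F_m_3 : ∀ i < 1782, (matEnt (wdsP H16.Suz.P F_W) F_P (nat_lit 3)) i = 0 := allZ_sound0 F_m_3_0
theorem F_m_4 : ∀ i < 1782, (matEnt (wdsP H16.Suz.P F_W) F_P (nat_lit 4)) i = 0 := allZ_sound0 F_m_4_0
theorem F_m_5 : ∀ i < 1782, (matEnt (wdsP H16.Suz.P F_W) F_P (nat_lit 5)) i = 0 := allZ_sound0 F_m_5_0
theorem F_m_6 : ∀ i < 1782, (matEnt (wdsP H16.Suz.P F_W) F_P (nat_lit 6)) i = 0 := allZ_sound0 F_m_6_0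
theorem F_m_7 : ∀ i < 1782, (matEnt (wdsP H16.Suz.P F_W) F_P (nat_lit 7)) i = 0 := allZ_sound0 F_m_7_0
theorem F_m_8 : ∀ i < 1782, (matEnt (wdsP H16.Suz.P F_W) F_P (nat_lit 8)) i = 0 := allZ_sound0 F_m_8_0
theorem F_m_9 : ∀ i < 1782, (matEnt (wdsP H16.Suz.P F_W) F_P (nat_lit 9)) i = 0 := allZ_sound0 F_m_9_0
theorem F_m_10 : ∀ i < 1782, (matEnt (wdsP H16.Suz.P F_W) F_P (nat_lit 10)) i = 0 := allZ_sound0 F_m_10_0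
theorem F_m_11 : ∀ i < 1782, (matEnt (wdsP H16.Suz.P F_W) F_P (nat_lit 11)) i = 0 := allZ_sound0 F_m_11_0
theorem F_m_12 : ∀ i < 1782, (matEnt (wdsP H16.Suz.P F_W) F_P (nat_lit 12)) i = 0 := allZ_sound0 F_m_12_0
theorem F_m_13 : ∀ i < 1782, (matEnt (wdsP H16.Suz.P F_W) F_P (nat_lit 13)) i = 0 := allZ_sound0 F_m_13_0
theorem F_m_14 : ∀ i < 1782, (matEnt (wdsP H16.Suz.P F_W) F_P (nat_lit 14)) i = 0 := allZ_sound0 F_m_14_0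
theorem F_m_15 : ∀ i < 1782, (matEnt (wdsP H16.Suz.P F_W) F_P (nat_lit 15)) i = 0 := allZ_sound0 F_m_15_0
theorem F_m_16 : ∀ i < 1782, (matEnt (wdsP H16.Suz.P F_W) F_P (nat_lit 16)) i = 0 := allZ_sound0 F_m_16_0
theorem F_m_17 : ∀ i < 1782, (matEnt (wdsP H16.Suz.P F_W) F_P (nat_lit 17)) i = 0 := allZ_sound0 F_m_17_0
theorem F_m_18 : ∀ i < 1782, (matEnt (wdsP H16.Suz.P F_W) F_P (nat_lit 18)) i = 0 := allZ_sound0 F_m_18_0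
theorem F_m_19 : ∀ i < 1782, (matEnt (wdsP H16.Suz.P F_W) F_P (nat_lit 19)) i = 0 := allZ_sound0 F_m_19_0
theorem F_m_20 : ∀ i < 1782, (matEnt (wdsP H16.Suz.P F_W) F_P (nat_lit 20)) i = 0 := allZ_sound0 F_m_20_0
theorem F_m : ∀ k < 21, ∀ i < 1782, (matEnt (wdsP H16.Suz.P F_W) F_P) k i = 0 :=
  letters_glue (letters_glue (letters_glue (letters_glue (letters_glue (letters_glue (letters_glue (letters_glue (letters_glue (letters_glue (letters_glue (letters_glue (letters_glue (letters_glue (letters_glue (letters_glue (letters_glue (letters_glue (letters_glue (letters_glue (letters_glue (letters_nil) F_m_0) F_m_1) F_m_2) F_m_3) F_m_4) F_m_5) F_m_6) F_m_7) F_m_8) F_m_9) F_m_10) F_m_11) F_m_12) F_m_13) F_m_14) F_m_15) F_m_16) F_m_17) F_m_18) F_m_19) F_m_20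
theorem F_act {G Ω : Type*} [Group G] [MulAction G Ω] {g : ℕ → G} {pt : ℕ → Ω}
    (M : Md g pt H16.Suz.P 1782 7 H16.Suz.B 448345497600) : Act (wds g F_W) pt F_P 1782 21 :=
  act_mat (M.wact F_lt) F_m
theorem Q_act {G Ω : Type*} [Group G] [MulAction G Ω] {g : ℕ → G} {pt : ℕ → Ω}
    (M : Md g pt H16.Suz.P 1782 7 H16.Suz.B 448345497600) : Act (rl [0, 1, 2, 3, 18, 19, 20] (wds g F_W)) pt (rl [nat_lit 0, nat_lit 1, nat_lit 2, nat_lit 3, nat_lit 18, nat_lit 19, nat_lit 20] F_P) 1782 7 :=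
  (F_act M).rl (by decide)
theorem O_act {G Ω : Type*} [Group G] [MulAction G Ω] {g : ℕ → G} {pt : ℕ → Ω}
    (M : Md g pt H16.Suz.P 1782 7 H16.Suz.B 448345497600) : Act (rl [7, 8, 14, 15, 16, 17] (wds g F_W)) pt (rl [nat_lit 7, nat_lit 8, nat_lit 14, nat_lit 15, nat_lit 16, nat_lit 17] F_P) 1782 6 :=
  (F_act M).rl (by decide)
theorem P0_act {G Ω : Type*} [Group G] [MulAction G Ω] {g : ℕ → G} {pt : ℕ → Ω}
    (M : Md g pt H16.Suz.P 1782 7 H16.Suz.B 448345497600) : Act (rl [7, 8, 14, 15, 3, 4, 0, 1] (wds g F_W)) pt (rl [nat_lit 7, nat_lit 8, nat_lit 14, nat_lit 15, nat_lit 3, nat_lit 4, nat_lit 0, nat_lit 1] F_P) 1782 8 :=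
  (F_act M).rl (by decide)
theorem E_act {G Ω : Type*} [Group G] [MulAction G Ω] {g : ℕ → G} {pt : ℕ → Ω}
    (M : Md g pt H16.Suz.P 1782 7 H16.Suz.B 448345497600) : Act (rl [0, 1, 3, 4] (wds g F_W)) pt (rl [nat_lit 0, nat_lit 1, nat_lit 3, nat_lit 4] F_P) 1782 4 :=
  (F_act M).rl (by decide)
theorem HH_act {G Ω : Type*} [Group G] [MulAction G Ω] {g : ℕ → G} {pt : ℕ → Ω}
    (M : Md g pt H16.Suz.P 1782 7 H16.Suz.B 448345497600) : Act (rl [0, 1, 2, 3, 4, 5, 6, 7, 8, 10, 11, 12, 13] (wds g F_W)) pt (rl [nat_lit 0, nat_lit 1, nat_lit 2, nat_lit 3, nat_lit 4, nat_lit 5, nat_lit 6, nat_lit 7, nat_lit 8, nat_lit 10, nat_lit 11, nat_lit 12, nat_lit 13] F_P) 1782 13 :=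
  (F_act M).rl (by decide)
theorem pcQl0_e : ∀ i < 63, (dent pcQl0 (wdsP (rl [nat_lit 0, nat_lit 1, nat_lit 2, nat_lit 3, nat_lit 18, nat_lit 19, nat_lit 20] F_P) pcQe) (nat_lit 1782)) i = 0 := allZ_sound0 pcQl0_e_0
theorem pcQl0_ok : DOK pcQl0 (wdsP (rl [nat_lit 0, nat_lit 1, nat_lit 2, nat_lit 3, nat_lit 18, nat_lit 19, nat_lit 20] F_P) pcQe) 1782 := ⟨pcQl0_h, pcQl0_e⟩
theorem pcQl1_e : ∀ i < 1, (dent pcQl1 (wdsP (rl [nat_lit 0, nat_lit 1, nat_lit 2, nat_lit 3, nat_lit 18, nat_lit 19, nat_lit 20] F_P) pcQe) (nat_lit 1782)) i = 0 := allZ_sound0 pcQl1_e_0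
theorem pcQl1_ok : DOK pcQl1 (wdsP (rl [nat_lit 0, nat_lit 1, nat_lit 2, nat_lit 3, nat_lit 18, nat_lit 19, nat_lit 20] F_P) pcQe) 1782 := ⟨pcQl1_h, pcQl1_e⟩
theorem pcQ_low {G Ω : Type*} [Group G] [MulAction G Ω] {g : ℕ → G} {pt : ℕ → Ω}
    (M : Md g pt H16.Suz.P 1782 7 H16.Suz.B 448345497600) : SLow (gi (wds (rl [0, 1, 2, 3, 18, 19, 20] (wds g F_W)) pcQe)) pt 1782 [pcQl0, pcQl1] :=
  ((SLow.nil).cons pcQl1_ok (((Q_act M).mono (by decide : 7 ≤ 7)).wds pcQ_e 20) pcQ_f1).cons pcQl0_ok (((Q_act M).mono (by decide : 7 ≤ 7)).wds pcQ_e 20) pcQ_f0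
theorem pcQ {G Ω : Type*} [Group G] [MulAction G Ω] {g : ℕ → G} {pt : ℕ → Ω}
    (M : Md g pt H16.Suz.P 1782 7 H16.Suz.B 448345497600) : PC0 (rl [0, 1, 2, 3, 18, 19, 20] (wds g F_W)) 7 2 ∧ Nat.card (gen (rl [0, 1, 2, 3, 18, 19, 20] (wds g F_W)) 7) = 2 ^ 7 :=
  have := M.fin
  have h := (M.sm.of_act ((Q_act M).mono (by decide : 7 ≤ 7))).pc0 (by decide) pcQ_p
  ⟨h, le_antisymm (h.card_le' le_rfl) (pcQ_c ▸ ((pcQ_low M).card_ge M.inj).trans (Subgroup.card_le_of_le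
    (by rw [gen_gi]; exact gen_le.2 fun k _ => evA_mem_gen _ (nth_lt pcQ_e k))))⟩
theorem esQ {G Ω : Type*} [Group G] [MulAction G Ω] {g : ℕ → G} {pt : ℕ → Ω}
    (M : Md g pt H16.Suz.P 1782 7 H16.Suz.B 448345497600) : ∀ a < 7, ∀ b < 7, ⁅(rl [0, 1, 2, 3, 18, 19, 20] (wds g F_W)) a, (rl [0, 1, 2, 3, 18, 19, 20] (wds g F_W)) b⁆ ∈ Subgroup.zpowers ((rl [0, 1, 2, 3, 18, 19, 20] (wds g F_W)) 0) :=
  H0.Fi.es_sound M (Q_act M) esQ_k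
theorem cQth_act {G Ω : Type*} [Group G] [MulAction G Ω] {g : ℕ → G} {pt : ℕ → Ω}
    (M : Md g pt H16.Suz.P 1782 7 H16.Suz.B 448345497600) : Act (wds g cQth_W) pt cQth_P 1782 15 :=
  M.wact cQth_lt
theorem cQtl0_e : ∀ i < 1781, (dent cQtl0 cQth_P (nat_lit 1782)) i = 0 := allZ_sound0 cQtl0_e_0
theorem cQtl0_ok : DOK cQtl0 cQth_P 1782 := ⟨cQtl0_h, cQtl0_e⟩
theorem cQtl1_e : ∀ i < 415, (dent cQtl1 cQth_P (nat_lit 1782)) i = 0 := allZ_sound0 cQtl1_e_0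
theorem cQtl1_ok : DOK cQtl1 cQth_P 1782 := ⟨cQtl1_h, cQtl1_e⟩
theorem cQtl2_e : ∀ i < 99, (dent cQtl2 cQth_P (nat_lit 1782)) i = 0 := allZ_sound0 cQtl2_e_0
theorem cQtl2_ok : DOK cQtl2 cQth_P 1782 := ⟨cQtl2_h, cQtl2_e⟩
theorem cQtl3_e : ∀ i < 62, (dent cQtl3 cQth_P (nat_lit 1782)) i = 0 := allZ_sound0 cQtl3_e_0
theorem cQtl3_ok : DOK cQtl3 cQth_P 1782 := ⟨cQtl3_h, cQtl3_e⟩
theorem cQtl4_e : ∀ i < 3, (dent cQtl4 cQth_P (nat_lit 1782)) i = 0 := allZ_sound0 cQtl4_e_0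
theorem cQtl4_ok : DOK cQtl4 cQth_P 1782 := ⟨cQtl4_h, cQtl4_e⟩
theorem cQtl5_e : ∀ i < 23, (dent cQtl5 cQth_P (nat_lit 1782)) i = 0 := allZ_sound0 cQtl5_e_0
theorem cQtl5_ok : DOK cQtl5 cQth_P 1782 := ⟨cQtl5_h, cQtl5_e⟩
theorem cQt_low {G Ω : Type*} [Group G] [MulAction G Ω] {g : ℕ → G} {pt : ℕ → Ω}
    (M : Md g pt H16.Suz.P 1782 7 H16.Suz.B 448345497600) : SLow (gi (wds g cQth_W)) pt 1782 [cQtl0, cQtl1, cQtl2, cQtl3, cQtl4, cQtl5] :=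
  ((((((SLow.nil).cons cQtl5_ok (cQth_act M) cQt_f5).cons cQtl4_ok (cQth_act M) cQt_f4).cons cQtl3_ok (cQth_act M) cQt_f3).cons cQtl2_ok (cQth_act M) cQt_f2).cons cQtl1_ok (cQth_act M) cQt_f1).cons cQtl0_ok (cQth_act M) cQt_f0
theorem cQt_S0 {G Ω : Type*} [Group G] [MulAction G Ω] {g : ℕ → G} {pt : ℕ → Ω}
    (M : Md g pt H16.Suz.P 1782 7 H16.Suz.B 448345497600) : Stage ⊤ (wds g cQth_W) pt 1782 [cQtl0, cQtl1, cQtl2, cQtl3, cQtl4, cQtl5] [] :=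
  M.stage (cQt_low M) cQt_c
theorem cQt_S1 {G Ω : Type*} [Group G] [MulAction G Ω] {g : ℕ → G} {pt : ℕ → Ω}
    (M : Md g pt H16.Suz.P 1782 7 H16.Suz.B 448345497600) : Stage ⊤ (wds g cQth_W) pt 1782 [cQtl1, cQtl2, cQtl3, cQtl4, cQtl5] [cQtl0.Pt 0] :=
  (cQt_S0 M).next
theorem cQt_S2 {G Ω : Type*} [Group G] [MulAction G Ω] {g : ℕ → G} {pt : ℕ → Ω}
    (M : Md g pt H16.Suz.P 1782 7 H16.Suz.B 448345497600) : Stage ⊤ (wds g cQth_W) pt 1782 [cQtl2, cQtl3, cQtl4, cQtl5] [cQtl1.Pt 0, cQtl0.Pt 0] :=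
  (cQt_S1 M).next
theorem cQt_S3 {G Ω : Type*} [Group G] [MulAction G Ω] {g : ℕ → G} {pt : ℕ → Ω}
    (M : Md g pt H16.Suz.P 1782 7 H16.Suz.B 448345497600) : Stage ⊤ (wds g cQth_W) pt 1782 [cQtl3, cQtl4, cQtl5] [cQtl2.Pt 0, cQtl1.Pt 0, cQtl0.Pt 0] :=
  (cQt_S2 M).next
theorem cQt_S4 {G Ω : Type*} [Group G] [MulAction G Ω] {g : ℕ → G} {pt : ℕ → Ω}
    (M : Md g pt H16.Suz.P 1782 7 H16.Suz.B 448345497600) : Stage ⊤ (wds g cQth_W) pt 1782 [cQtl4, cQtl5] [cQtl3.Pt 0, cQtl2.Pt 0, cQtl1.Pt 0, cQtl0.Pt 0] :=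
  (cQt_S3 M).next
theorem cQt_S5 {G Ω : Type*} [Group G] [MulAction G Ω] {g : ℕ → G} {pt : ℕ → Ω}
    (M : Md g pt H16.Suz.P 1782 7 H16.Suz.B 448345497600) : Stage ⊤ (wds g cQth_W) pt 1782 [cQtl5] [cQtl4.Pt 0, cQtl3.Pt 0, cQtl2.Pt 0, cQtl1.Pt 0, cQtl0.Pt 0] :=
  (cQt_S4 M).next
theorem cQt_S6 {G Ω : Type*} [Group G] [MulAction G Ω] {g : ℕ → G} {pt : ℕ → Ω}
    (M : Md g pt H16.Suz.P 1782 7 H16.Suz.B 448345497600) : Stage ⊤ (wds g cQth_W) pt 1782 [] [cQtl5.Pt 0, cQtl4.Pt 0, cQtl3.Pt 0, cQtl2.Pt 0, cQtl1.Pt 0, cQtl0.Pt 0] :=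
  (cQt_S5 M).next
theorem cQe_act {G Ω : Type*} [Group G] [MulAction G Ω] {g : ℕ → G} {pt : ℕ → Ω}
    (M : Md g pt H16.Suz.P 1782 7 H16.Suz.B 448345497600) : Act (wds g cQe_W) pt cQe_P 1782 1 :=
  M.wact cQe_lt
theorem cQc0_e : ∀ i < 1, (dent cQc0 cQe_P (nat_lit 1782)) i = 0 := allZ_sound0 cQc0_e_0
theorem cQc0_ok : DOK cQc0 cQe_P 1782 := ⟨cQc0_h, cQc0_e⟩
theorem cQtn0_1 : ∀ i < 1782, (cQtn0.ent H16.Suz.P cQth_P (rl [nat_lit 0, nat_lit 1, nat_lit 2, nat_lit 3, nat_lit 18, nat_lit 19, nat_lit 20] F_P) (rl [nat_lit 0, nat_lit 1, nat_lit 2, nat_lit 3, nat_lit 18, nat_lit 19, nat_lit 20] F_P) cQe_P (nat_lit 7) (nat_lit 7) H16.Suz.B cQtl0 [cQtl1, cQtl2, cQtl3, cQtl4, cQtl5] (memO cQc0)) i = 0 := allZ_sound0 cQtn0_1_0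
theorem cQtn0_t {G Ω : Type*} [Group G] [MulAction G Ω] {g : ℕ → G} {pt : ℕ → Ω}
    (M : Md g pt H16.Suz.P 1782 7 H16.Suz.B 448345497600) : TrO (gen (wds g cQth_W) cQtl0.K) (rl [0, 1, 2, 3, 18, 19, 20] (wds g F_W)) (rl [0, 1, 2, 3, 18, 19, 20] (wds g F_W)) 7 pt 1782 (cQtl0.Pt 0) (memO cQc0) :=
  node M (cQt_S0 M) (cQth_act M) (Q_act M) (Q_act M) cQtn0 ((cQe_act M).mono (by decide)) (fun _ _ => trivial) cQtn0_0 cQtn0_1 (List.forall_mem_nil _)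
theorem cQ {G Ω : Type*} [Group G] [MulAction G Ω] {g : ℕ → G} {pt : ℕ → Ω}
    (M : Md g pt H16.Suz.P 1782 7 H16.Suz.B 448345497600) : Cen ⊤ (rl [0, 1, 2, 3, 18, 19, 20] (wds g F_W)) 7 (wds g cQe_W) pt 1782 [cQc0] :=
  (cQt_S0 M).top ▸ Cen.lev M (cQt_S0 M) (Cen.triv (cQt_S1 M) (Cen.triv (cQt_S2 M) (Cen.triv (cQt_S3 M) (Cen.triv (cQt_S4 M) (Cen.triv (cQt_S5 M) (Cen.bot) (forced (cQt_S5 M) (cQth_act M) (Q_act M) _ _ cQ_f5)) (forced (cQt_S4 M) (cQth_act M) (Q_act M) _ _ cQ_f4)) (forced (cQt_S3 M) (cQth_act M) (Q_act M) _ _ cQ_f3)) (forced (cQt_S2 M) (cQth_act M) (Q_act M) _ _ cQ_f2)) (forced (cQt_S1 M) (cQth_act M) (Q_act M) _ _ cQ_f1)) (cQtn0_t M) (Q_act M) (cQe_act M) (fun _ _ => trivial) cQc0_ok cQ_f0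
theorem cQ_eq {G Ω : Type*} [Group G] [MulAction G Ω] {g : ℕ → G} {pt : ℕ → Ω}
    (M : Md g pt H16.Suz.P 1782 7 H16.Suz.B 448345497600) : Subgroup.centralizer (gen (rl [0, 1, 2, 3, 18, 19, 20] (wds g F_W)) 7) = gen (wds g cQe_W) 1 ∧ Nat.card (gen (wds g cQe_W) 1) = 2 :=
  cQ_c.1 ▸ cQ_c.2 ▸ ⟨(cQ M).cent, (cQ M).card M.inj⟩
theorem Z_act {G Ω : Type*} [Group G] [MulAction G Ω] {g : ℕ → G} {pt : ℕ → Ω}
    (M : Md g pt H16.Suz.P 1782 7 H16.Suz.B 448345497600) : Act (rl [0] (wds g F_W)) pt (rl [nat_lit 0] F_P) 1782 1 :=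
  (F_act M).rl (by decide)
theorem cZth_act {G Ω : Type*} [Group G] [MulAction G Ω] {g : ℕ → G} {pt : ℕ → Ω}
    (M : Md g pt H16.Suz.P 1782 7 H16.Suz.B 448345497600) : Act (wds g cZth_W) pt cZth_P 1782 16 :=
  M.wact cZth_lt
theorem cZtl0_e : ∀ i < 1781, (dent cZtl0 cZth_P (nat_lit 1782)) i = 0 := allZ_sound0 cZtl0_e_0
theorem cZtl0_ok : DOK cZtl0 cZth_P 1782 := ⟨cZtl0_h, cZtl0_e⟩
theorem cZtl1_e : ∀ i < 415, (dent cZtl1 cZth_P (nat_lit 1782)) i = 0 := allZ_sound0 cZtl1_e_0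
theorem cZtl1_ok : DOK cZtl1 cZth_P 1782 := ⟨cZtl1_h, cZtl1_e⟩
theorem cZtl2_e : ∀ i < 314, (dent cZtl2 cZth_P (nat_lit 1782)) i = 0 := allZ_sound0 cZtl2_e_0
theorem cZtl2_ok : DOK cZtl2 cZth_P 1782 := ⟨cZtl2_h, cZtl2_e⟩
theorem cZtl3_e : ∀ i < 9, (dent cZtl3 cZth_P (nat_lit 1782)) i = 0 := allZ_sound0 cZtl3_e_0
theorem cZtl3_ok : DOK cZtl3 cZth_P 1782 := ⟨cZtl3_h, cZtl3_e⟩
theorem cZtl4_e : ∀ i < 7, (dent cZtl4 cZth_P (nat_lit 1782)) i = 0 := allZ_sound0 cZtl4_e_0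
theorem cZtl4_ok : DOK cZtl4 cZth_P 1782 := ⟨cZtl4_h, cZtl4_e⟩
theorem cZtl5_e : ∀ i < 5, (dent cZtl5 cZth_P (nat_lit 1782)) i = 0 := allZ_sound0 cZtl5_e_0
theorem cZtl5_ok : DOK cZtl5 cZth_P 1782 := ⟨cZtl5_h, cZtl5_e⟩
theorem cZtl6_e : ∀ i < 1, (dent cZtl6 cZth_P (nat_lit 1782)) i = 0 := allZ_sound0 cZtl6_e_0
theorem cZtl6_ok : DOK cZtl6 cZth_P 1782 := ⟨cZtl6_h, cZtl6_e⟩
theorem cZtl7_e : ∀ i < 1, (dent cZtl7 cZth_P (nat_lit 1782)) i = 0 := allZ_sound0 cZtl7_e_0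
theorem cZtl7_ok : DOK cZtl7 cZth_P 1782 := ⟨cZtl7_h, cZtl7_e⟩
theorem cZt_low {G Ω : Type*} [Group G] [MulAction G Ω] {g : ℕ → G} {pt : ℕ → Ω}
    (M : Md g pt H16.Suz.P 1782 7 H16.Suz.B 448345497600) : SLow (gi (wds g cZth_W)) pt 1782 [cZtl0, cZtl1, cZtl2, cZtl3, cZtl4, cZtl5, cZtl6, cZtl7] :=
  ((((((((SLow.nil).cons cZtl7_ok (cZth_act M) cZt_f7).cons cZtl6_ok (cZth_act M) cZt_f6).cons cZtl5_ok (cZth_act M) cZt_f5).cons cZtl4_ok (cZth_act M) cZt_f4).cons cZtl3_ok (cZth_act M) cZt_f3).cons cZtl2_ok (cZth_act M) cZt_f2).cons cZtl1_ok (cZth_act M) cZt_f1).cons cZtl0_ok (cZth_act M) cZt_f0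
theorem cZt_S0 {G Ω : Type*} [Group G] [MulAction G Ω] {g : ℕ → G} {pt : ℕ → Ω}
    (M : Md g pt H16.Suz.P 1782 7 H16.Suz.B 448345497600) : Stage ⊤ (wds g cZth_W) pt 1782 [cZtl0, cZtl1, cZtl2, cZtl3, cZtl4, cZtl5, cZtl6, cZtl7] [] :=
  M.stage (cZt_low M) cZt_c
theorem cZt_S1 {G Ω : Type*} [Group G] [MulAction G Ω] {g : ℕ → G} {pt : ℕ → Ω}
    (M : Md g pt H16.Suz.P 1782 7 H16.Suz.B 448345497600) : Stage ⊤ (wds g cZth_W) pt 1782 [cZtl1, cZtl2, cZtl3, cZtl4, cZtl5, cZtl6, cZtl7] [cZtl0.Pt 0] :=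
  (cZt_S0 M).next
theorem cZt_S2 {G Ω : Type*} [Group G] [MulAction G Ω] {g : ℕ → G} {pt : ℕ → Ω}
    (M : Md g pt H16.Suz.P 1782 7 H16.Suz.B 448345497600) : Stage ⊤ (wds g cZth_W) pt 1782 [cZtl2, cZtl3, cZtl4, cZtl5, cZtl6, cZtl7] [cZtl1.Pt 0, cZtl0.Pt 0] :=
  (cZt_S1 M).next
theorem cZt_S3 {G Ω : Type*} [Group G] [MulAction G Ω] {g : ℕ → G} {pt : ℕ → Ω}
    (M : Md g pt H16.Suz.P 1782 7 H16.Suz.B 448345497600) : Stage ⊤ (wds g cZth_W) pt 1782 [cZtl3, cZtl4, cZtl5, cZtl6, cZtl7] [cZtl2.Pt 0, cZtl1.Pt 0, cZtl0.Pt 0] :=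
  (cZt_S2 M).next
theorem cZt_S4 {G Ω : Type*} [Group G] [MulAction G Ω] {g : ℕ → G} {pt : ℕ → Ω}
    (M : Md g pt H16.Suz.P 1782 7 H16.Suz.B 448345497600) : Stage ⊤ (wds g cZth_W) pt 1782 [cZtl4, cZtl5, cZtl6, cZtl7] [cZtl3.Pt 0, cZtl2.Pt 0, cZtl1.Pt 0, cZtl0.Pt 0] :=
  (cZt_S3 M).next
theorem cZt_S5 {G Ω : Type*} [Group G] [MulAction G Ω] {g : ℕ → G} {pt : ℕ → Ω}
    (M : Md g pt H16.Suz.P 1782 7 H16.Suz.B 448345497600) : Stage ⊤ (wds g cZth_W) pt 1782 [cZtl5, cZtl6, cZtl7] [cZtl4.Pt 0, cZtl3.Pt 0, cZtl2.Pt 0, cZtl1.Pt 0, cZtl0.Pt 0] :=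
  (cZt_S4 M).next
theorem cZt_S6 {G Ω : Type*} [Group G] [MulAction G Ω] {g : ℕ → G} {pt : ℕ → Ω}
    (M : Md g pt H16.Suz.P 1782 7 H16.Suz.B 448345497600) : Stage ⊤ (wds g cZth_W) pt 1782 [cZtl6, cZtl7] [cZtl5.Pt 0, cZtl4.Pt 0, cZtl3.Pt 0, cZtl2.Pt 0, cZtl1.Pt 0, cZtl0.Pt 0] :=
  (cZt_S5 M).next
theorem cZt_S7 {G Ω : Type*} [Group G] [MulAction G Ω] {g : ℕ → G} {pt : ℕ → Ω}
    (M : Md g pt H16.Suz.P 1782 7 H16.Suz.B 448345497600) : Stage ⊤ (wds g cZth_W) pt 1782 [cZtl7] [cZtl6.Pt 0, cZtl5.Pt 0, cZtl4.Pt 0, cZtl3.Pt 0, cZtl2.Pt 0, cZtl1.Pt 0, cZtl0.Pt 0] :=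
  (cZt_S6 M).next
theorem cZt_S8 {G Ω : Type*} [Group G] [MulAction G Ω] {g : ℕ → G} {pt : ℕ → Ω}
    (M : Md g pt H16.Suz.P 1782 7 H16.Suz.B 448345497600) : Stage ⊤ (wds g cZth_W) pt 1782 [] [cZtl7.Pt 0, cZtl6.Pt 0, cZtl5.Pt 0, cZtl4.Pt 0, cZtl3.Pt 0, cZtl2.Pt 0, cZtl1.Pt 0, cZtl0.Pt 0] :=
  (cZt_S7 M).next
theorem cZe_act {G Ω : Type*} [Group G] [MulAction G Ω] {g : ℕ → G} {pt : ℕ → Ω}
    (M : Md g pt H16.Suz.P 1782 7 H16.Suz.B 448345497600) : Act (wds g cZe_W) pt cZe_P 1782 8 :=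
  M.wact cZe_lt
theorem cZc7_e : ∀ i < 1, (dent cZc7 cZe_P (nat_lit 1782)) i = 0 := allZ_sound0 cZc7_e_0
theorem cZc7_ok : DOK cZc7 cZe_P 1782 := ⟨cZc7_h, cZc7_e⟩
theorem cZtn0_1 : ∀ i < 2, (cZtn0.ent H16.Suz.P cZth_P (rl [nat_lit 0] F_P) (rl [nat_lit 0] F_P) cZe_P (nat_lit 7) (nat_lit 1) H16.Suz.B cZtl7 [] (memO cZc7)) i = 0 := allZ_sound0 cZtn0_1_0
theorem cZtn0_t {G Ω : Type*} [Group G] [MulAction G Ω] {g : ℕ → G} {pt : ℕ → Ω}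
    (M : Md g pt H16.Suz.P 1782 7 H16.Suz.B 448345497600) : TrO (gen (wds g cZth_W) cZtl7.K) (rl [0] (wds g F_W)) (rl [0] (wds g F_W)) 1 pt 1782 (cZtl7.Pt 0) (memO cZc7) :=
  node M (cZt_S7 M) (cZth_act M) (Z_act M) (Z_act M) cZtn0 ((cZe_act M).mono (by decide)) (fun _ _ => trivial) cZtn0_0 cZtn0_1 (List.forall_mem_nil _)
theorem cZc6_e : ∀ i < 1, (dent cZc6 cZe_P (nat_lit 1782)) i = 0 := allZ_sound0 cZc6_e_0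
theorem cZc6_ok : DOK cZc6 cZe_P 1782 := ⟨cZc6_h, cZc6_e⟩
theorem cZtn1_1 : ∀ i < 2, (cZtn1.ent H16.Suz.P cZth_P (rl [nat_lit 0] F_P) (rl [nat_lit 0] F_P) cZe_P (nat_lit 7) (nat_lit 1) H16.Suz.B cZtl6 [cZtl7] (memO cZc6)) i = 0 := allZ_sound0 cZtn1_1_0
theorem cZtn1_t {G Ω : Type*} [Group G] [MulAction G Ω] {g : ℕ → G} {pt : ℕ → Ω}
    (M : Md g pt H16.Suz.P 1782 7 H16.Suz.B 448345497600) : TrO (gen (wds g cZth_W) cZtl6.K) (rl [0] (wds g F_W)) (rl [0] (wds g F_W)) 1 pt 1782 (cZtl6.Pt 0) (memO cZc6) :=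
  node M (cZt_S6 M) (cZth_act M) (Z_act M) (Z_act M) cZtn1 ((cZe_act M).mono (by decide)) (fun _ _ => trivial) cZtn1_0 cZtn1_1 (List.forall_mem_nil _)
theorem cZc5_e : ∀ i < 5, (dent cZc5 cZe_P (nat_lit 1782)) i = 0 := allZ_sound0 cZc5_e_0
theorem cZc5_ok : DOK cZc5 cZe_P 1782 := ⟨cZc5_h, cZc5_e⟩
theorem cZtn2_1 : ∀ i < 6, (cZtn2.ent H16.Suz.P cZth_P (rl [nat_lit 0] F_P) (rl [nat_lit 0] F_P) cZe_P (nat_lit 7) (nat_lit 1) H16.Suz.B cZtl5 [cZtl6, cZtl7] (memO cZc5)) i = 0 := allZ_sound0 cZtn2_1_0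
theorem cZtn2_t {G Ω : Type*} [Group G] [MulAction G Ω] {g : ℕ → G} {pt : ℕ → Ω}
    (M : Md g pt H16.Suz.P 1782 7 H16.Suz.B 448345497600) : TrO (gen (wds g cZth_W) cZtl5.K) (rl [0] (wds g F_W)) (rl [0] (wds g F_W)) 1 pt 1782 (cZtl5.Pt 0) (memO cZc5) :=
  node M (cZt_S5 M) (cZth_act M) (Z_act M) (Z_act M) cZtn2 ((cZe_act M).mono (by decide)) (fun _ _ => trivial) cZtn2_0 cZtn2_1 (List.forall_mem_nil _)
theorem cZtn3y1378_act {G Ω : Type*} [Group G] [MulAction G Ω] {g : ℕ → G} {pt : ℕ → Ω}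
    (M : Md g pt H16.Suz.P 1782 7 H16.Suz.B 448345497600) : Act (wds g cZtn3y1378_W) pt cZtn3y1378_P 1782 1 :=
  M.wact cZtn3y1378_lt
theorem cZtr4k_act {G Ω : Type*} [Group G] [MulAction G Ω] {g : ℕ → G} {pt : ℕ → Ω}
    (M : Md g pt H16.Suz.P 1782 7 H16.Suz.B 448345497600) : Act (wds g cZtr4k_W) pt cZtr4k_P 1782 2 :=
  M.wact cZtr4k_lt
theorem cZtn4y28_act {G Ω : Type*} [Group G] [MulAction G Ω] {g : ℕ → G} {pt : ℕ → Ω}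
    (M : Md g pt H16.Suz.P 1782 7 H16.Suz.B 448345497600) : Act (wds g cZtn4y28_W) pt cZtn4y28_P 1782 1 :=
  M.wact cZtn4y28_lt
theorem cZtr5k_act {G Ω : Type*} [Group G] [MulAction G Ω] {g : ℕ → G} {pt : ℕ → Ω}
    (M : Md g pt H16.Suz.P 1782 7 H16.Suz.B 448345497600) : Act (wds g cZtr5k_W) pt cZtr5k_P 1782 2 :=
  M.wact cZtr5k_lt
theorem cZtn5y148_act {G Ω : Type*} [Group G] [MulAction G Ω] {g : ℕ → G} {pt : ℕ → Ω}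
    (M : Md g pt H16.Suz.P 1782 7 H16.Suz.B 448345497600) : Act (wds g cZtn5y148_W) pt cZtn5y148_P 1782 1 :=
  M.wact cZtn5y148_lt
theorem cZtr6k_act {G Ω : Type*} [Group G] [MulAction G Ω] {g : ℕ → G} {pt : ℕ → Ω}
    (M : Md g pt H16.Suz.P 1782 7 H16.Suz.B 448345497600) : Act (wds g cZtr6k_W) pt cZtr6k_P 1782 2 :=
  M.wact cZtr6k_lt
theorem cZtn6_1 : ∀ i < 2, (cZtn6.ent H16.Suz.P cZth_P (rl [nat_lit 0] F_P) cZtn5y148_P cZtr6k_P (nat_lit 7) (nat_lit 1) H16.Suz.B cZtl7 [] (fun _ => nat_lit 1)) i = 0 := allZ_sound0 cZtn6_1_0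
theorem cZtn6_t {G Ω : Type*} [Group G] [MulAction G Ω] {g : ℕ → G} {pt : ℕ → Ω}
    (M : Md g pt H16.Suz.P 1782 7 H16.Suz.B 448345497600) : TrO (gen (wds g cZth_W) cZtl7.K) (rl [0] (wds g F_W)) (wds g cZtn5y148_W) 1 pt 1782 (cZtl7.Pt 0) (fun _ => nat_lit 1) :=
  node M (cZt_S7 M) (cZth_act M) (Z_act M) (cZtn5y148_act M) cZtn6 ((cZtr6k_act M).mono (by decide)) (fun _ _ => trivial) cZtn6_0 cZtn6_1 (List.forall_mem_nil _)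
theorem cZtr6 {G Ω : Type*} [Group G] [MulAction G Ω] {g : ℕ → G} {pt : ℕ → Ω}
    (M : Md g pt H16.Suz.P 1782 7 H16.Suz.B 448345497600) : Ref (gen (wds g cZth_W) (topK [cZtl7])) (rl [0] (wds g F_W)) (wds g cZtn5y148_W) 1 :=
  (cZtn6_t M).ref
theorem cZtn5_1 : ∀ i < 2, (cZtn5.ent H16.Suz.P cZth_P (rl [nat_lit 0] F_P) cZtn4y28_P cZtr5k_P (nat_lit 7) (nat_lit 1) H16.Suz.B cZtl6 [cZtl7] (fun _ => nat_lit 1)) i = 0 := allZ_sound0 cZtn5_1_0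
theorem cZtn5_t {G Ω : Type*} [Group G] [MulAction G Ω] {g : ℕ → G} {pt : ℕ → Ω}
    (M : Md g pt H16.Suz.P 1782 7 H16.Suz.B 448345497600) : TrO (gen (wds g cZth_W) cZtl6.K) (rl [0] (wds g F_W)) (wds g cZtn4y28_W) 1 pt 1782 (cZtl6.Pt 0) (fun _ => nat_lit 1) :=
  node M (cZt_S6 M) (cZth_act M) (Z_act M) (cZtn4y28_act M) cZtn5 ((cZtr5k_act M).mono (by decide)) (fun _ _ => trivial) cZtn5_0 cZtn5_1 (List.forall_mem_cons.2 ⟨cZtr6 M, List.forall_mem_nil _⟩)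
theorem cZtr5 {G Ω : Type*} [Group G] [MulAction G Ω] {g : ℕ → G} {pt : ℕ → Ω}
    (M : Md g pt H16.Suz.P 1782 7 H16.Suz.B 448345497600) : Ref (gen (wds g cZth_W) (topK [cZtl6, cZtl7])) (rl [0] (wds g F_W)) (wds g cZtn4y28_W) 1 :=
  (cZtn5_t M).ref
theorem cZtn4_1 : ∀ i < 6, (cZtn4.ent H16.Suz.P cZth_P (rl [nat_lit 0] F_P) cZtn3y1378_P cZtr4k_P (nat_lit 7) (nat_lit 1) H16.Suz.B cZtl5 [cZtl6, cZtl7] (fun _ => nat_lit 1)) i = 0 := allZ_sound0 cZtn4_1_0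
theorem cZtn4_t {G Ω : Type*} [Group G] [MulAction G Ω] {g : ℕ → G} {pt : ℕ → Ω}
    (M : Md g pt H16.Suz.P 1782 7 H16.Suz.B 448345497600) : TrO (gen (wds g cZth_W) cZtl5.K) (rl [0] (wds g F_W)) (wds g cZtn3y1378_W) 1 pt 1782 (cZtl5.Pt 0) (fun _ => nat_lit 1) :=
  node M (cZt_S5 M) (cZth_act M) (Z_act M) (cZtn3y1378_act M) cZtn4 ((cZtr4k_act M).mono (by decide)) (fun _ _ => trivial) cZtn4_0 cZtn4_1 (List.forall_mem_cons.2 ⟨cZtr5 M, List.forall_mem_nil _⟩)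
theorem cZtr4 {G Ω : Type*} [Group G] [MulAction G Ω] {g : ℕ → G} {pt : ℕ → Ω}
    (M : Md g pt H16.Suz.P 1782 7 H16.Suz.B 448345497600) : Ref (gen (wds g cZth_W) (topK [cZtl5, cZtl6, cZtl7])) (rl [0] (wds g F_W)) (wds g cZtn3y1378_W) 1 :=
  (cZtn4_t M).ref
theorem cZtn3_1 : ∀ i < 8, (cZtn3.ent H16.Suz.P cZth_P (rl [nat_lit 0] F_P) (rl [nat_lit 0] F_P) cZe_P (nat_lit 7) (nat_lit 1) H16.Suz.B cZtl4 [cZtl5, cZtl6, cZtl7] (fun w => Nat.xor w (cZtl4.Pt (nat_lit 0)))) i = 0 := allZ_sound0 cZtn3_1_0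
theorem cZtn3_t {G Ω : Type*} [Group G] [MulAction G Ω] {g : ℕ → G} {pt : ℕ → Ω}
    (M : Md g pt H16.Suz.P 1782 7 H16.Suz.B 448345497600) : TrO (gen (wds g cZth_W) cZtl4.K) (rl [0] (wds g F_W)) (rl [0] (wds g F_W)) 1 pt 1782 (cZtl4.Pt 0) (fun w => Nat.xor w (cZtl4.Pt (nat_lit 0))) :=
  node M (cZt_S4 M) (cZth_act M) (Z_act M) (Z_act M) cZtn3 ((cZe_act M).mono (by decide)) (fun _ _ => trivial) cZtn3_0 cZtn3_1 (List.forall_mem_cons.2 ⟨cZtr4 M, List.forall_mem_nil _⟩)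
theorem cZc3_e : ∀ i < 7, (dent cZc3 cZe_P (nat_lit 1782)) i = 0 := allZ_sound0 cZc3_e_0
theorem cZc3_ok : DOK cZc3 cZe_P 1782 := ⟨cZc3_h, cZc3_e⟩
theorem cZtn7_1 : ∀ i < 10, (cZtn7.ent H16.Suz.P cZth_P (rl [nat_lit 0] F_P) (rl [nat_lit 0] F_P) cZe_P (nat_lit 7) (nat_lit 1) H16.Suz.B cZtl3 [cZtl4, cZtl5, cZtl6, cZtl7] (memO cZc3)) i = 0 := allZ_sound0 cZtn7_1_0
theorem cZtn7_t {G Ω : Type*} [Group G] [MulAction G Ω] {g : ℕ → G} {pt : ℕ → Ω}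
    (M : Md g pt H16.Suz.P 1782 7 H16.Suz.B 448345497600) : TrO (gen (wds g cZth_W) cZtl3.K) (rl [0] (wds g F_W)) (rl [0] (wds g F_W)) 1 pt 1782 (cZtl3.Pt 0) (memO cZc3) :=
  node M (cZt_S3 M) (cZth_act M) (Z_act M) (Z_act M) cZtn7 ((cZe_act M).mono (by decide)) (fun _ _ => trivial) cZtn7_0 cZtn7_1 (List.forall_mem_nil _)
theorem cZc2_e : ∀ i < 9, (dent cZc2 cZe_P (nat_lit 1782)) i = 0 := allZ_sound0 cZc2_e_0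
theorem cZc2_ok : DOK cZc2 cZe_P 1782 := ⟨cZc2_h, cZc2_e⟩
theorem cZtn8y444_act {G Ω : Type*} [Group G] [MulAction G Ω] {g : ℕ → G} {pt : ℕ → Ω}
    (M : Md g pt H16.Suz.P 1782 7 H16.Suz.B 448345497600) : Act (wds g cZtn8y444_W) pt cZtn8y444_P 1782 1 :=
  M.wact cZtn8y444_lt
theorem cZtr9k_act {G Ω : Type*} [Group G] [MulAction G Ω] {g : ℕ → G} {pt : ℕ → Ω}
    (M : Md g pt H16.Suz.P 1782 7 H16.Suz.B 448345497600) : Act (wds g cZtr9k_W) pt cZtr9k_P 1782 3 :=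
  M.wact cZtr9k_lt
theorem cZtn9_1 : ∀ i < 10, (cZtn9.ent H16.Suz.P cZth_P (rl [nat_lit 0] F_P) cZtn8y444_P cZtr9k_P (nat_lit 7) (nat_lit 1) H16.Suz.B cZtl3 [cZtl4, cZtl5, cZtl6, cZtl7] (fun _ => nat_lit 1)) i = 0 := allZ_sound0 cZtn9_1_0
theorem cZtn9_t {G Ω : Type*} [Group G] [MulAction G Ω] {g : ℕ → G} {pt : ℕ → Ω}
    (M : Md g pt H16.Suz.P 1782 7 H16.Suz.B 448345497600) : TrO (gen (wds g cZth_W) cZtl3.K) (rl [0] (wds g F_W)) (wds g cZtn8y444_W) 1 pt 1782 (cZtl3.Pt 0) (fun _ => nat_lit 1) :=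
  node M (cZt_S3 M) (cZth_act M) (Z_act M) (cZtn8y444_act M) cZtn9 ((cZtr9k_act M).mono (by decide)) (fun _ _ => trivial) cZtn9_0 cZtn9_1 (List.forall_mem_nil _)
theorem cZtr9 {G Ω : Type*} [Group G] [MulAction G Ω] {g : ℕ → G} {pt : ℕ → Ω}
    (M : Md g pt H16.Suz.P 1782 7 H16.Suz.B 448345497600) : Ref (gen (wds g cZth_W) (topK [cZtl3, cZtl4, cZtl5, cZtl6, cZtl7])) (rl [0] (wds g F_W)) (wds g cZtn8y444_W) 1 :=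
  (cZtn9_t M).ref
theorem cZtn8_1 : ∀ i < 315, (cZtn8.ent H16.Suz.P cZth_P (rl [nat_lit 0] F_P) (rl [nat_lit 0] F_P) cZe_P (nat_lit 7) (nat_lit 1) H16.Suz.B cZtl2 [cZtl3, cZtl4, cZtl5, cZtl6, cZtl7] (memO cZc2)) i = 0 := allZ_sound0 cZtn8_1_0
theorem cZtn8_t {G Ω : Type*} [Group G] [MulAction G Ω] {g : ℕ → G} {pt : ℕ → Ω}
    (M : Md g pt H16.Suz.P 1782 7 H16.Suz.B 448345497600) : TrO (gen (wds g cZth_W) cZtl2.K) (rl [0] (wds g F_W)) (rl [0] (wds g F_W)) 1 pt 1782 (cZtl2.Pt 0) (memO cZc2) :=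
  node M (cZt_S2 M) (cZth_act M) (Z_act M) (Z_act M) cZtn8 ((cZe_act M).mono (by decide)) (fun _ _ => trivial) cZtn8_0 cZtn8_1 (List.forall_mem_cons.2 ⟨cZtr9 M, List.forall_mem_nil _⟩)
theorem cZc1_e : ∀ i < 31, (dent cZc1 cZe_P (nat_lit 1782)) i = 0 := allZ_sound0 cZc1_e_0
theorem cZc1_ok : DOK cZc1 cZe_P 1782 := ⟨cZc1_h, cZc1_e⟩
theorem cZtn10_1 : ∀ i < 416, (cZtn10.ent H16.Suz.P cZth_P (rl [nat_lit 0] F_P) (rl [nat_lit 0] F_P) cZe_P (nat_lit 7) (nat_lit 1) H16.Suz.B cZtl1 [cZtl2, cZtl3, cZtl4, cZtl5, cZtl6, cZtl7] (memO cZc1)) i = 0 := allZ_sound0 cZtn10_1_0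
theorem cZtn10_t {G Ω : Type*} [Group G] [MulAction G Ω] {g : ℕ → G} {pt : ℕ → Ω}
    (M : Md g pt H16.Suz.P 1782 7 H16.Suz.B 448345497600) : TrO (gen (wds g cZth_W) cZtl1.K) (rl [0] (wds g F_W)) (rl [0] (wds g F_W)) 1 pt 1782 (cZtl1.Pt 0) (memO cZc1) :=
  node M (cZt_S1 M) (cZth_act M) (Z_act M) (Z_act M) cZtn10 ((cZe_act M).mono (by decide)) (fun _ _ => trivial) cZtn10_0 cZtn10_1 (List.forall_mem_nil _)
theorem cZc0_e : ∀ i < 53, (dent cZc0 cZe_P (nat_lit 1782)) i = 0 := allZ_sound0 cZc0_e_0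
theorem cZc0_ok : DOK cZc0 cZe_P 1782 := ⟨cZc0_h, cZc0_e⟩
theorem cZtn11_1 : ∀ i < 1782, (cZtn11.ent H16.Suz.P cZth_P (rl [nat_lit 0] F_P) (rl [nat_lit 0] F_P) cZe_P (nat_lit 7) (nat_lit 1) H16.Suz.B cZtl0 [cZtl1, cZtl2, cZtl3, cZtl4, cZtl5, cZtl6, cZtl7] (memO cZc0)) i = 0 := allZ_sound0 cZtn11_1_0
theorem cZtn11_t {G Ω : Type*} [Group G] [MulAction G Ω] {g : ℕ → G} {pt : ℕ → Ω}
    (M : Md g pt H16.Suz.P 1782 7 H16.Suz.B 448345497600) : TrO (gen (wds g cZth_W) cZtl0.K) (rl [0] (wds g F_W)) (rl [0] (wds g F_W)) 1 pt 1782 (cZtl0.Pt 0) (memO cZc0) :=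
  node M (cZt_S0 M) (cZth_act M) (Z_act M) (Z_act M) cZtn11 ((cZe_act M).mono (by decide)) (fun _ _ => trivial) cZtn11_0 cZtn11_1 (List.forall_mem_nil _)
theorem cZ {G Ω : Type*} [Group G] [MulAction G Ω] {g : ℕ → G} {pt : ℕ → Ω}
    (M : Md g pt H16.Suz.P 1782 7 H16.Suz.B 448345497600) : Cen ⊤ (rl [0] (wds g F_W)) 1 (wds g cZe_W) pt 1782 [cZc0, cZc1, cZc2, cZc3, cZc5, cZc6, cZc7] :=
  (cZt_S0 M).top ▸ Cen.lev M (cZt_S0 M) (Cen.lev M (cZt_S1 M) (Cen.lev M (cZt_S2 M) (Cen.lev M (cZt_S3 M) (Cen.triv (cZt_S4 M) (Cen.lev M (cZt_S5 M) (Cen.lev M (cZt_S6 M) (Cen.lev M (cZt_S7 M) (Cen.bot) (cZtn0_t M) (Z_act M) (cZe_act M) (fun _ _ => trivial) cZc7_ok cZ_f7) (cZtn1_t M) (Z_act M) (cZe_act M) (fun _ _ => trivial) cZc6_ok cZ_f6) (cZtn2_t M) (Z_act M) (cZe_act M) (fun _ _ => trivial) cZc5_ok cZ_f5) (cZtn3_t M)) (cZtn7_t M)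 (Z_act M) (cZe_act M) (fun _ _ => trivial) cZc3_ok cZ_f3) (cZtn8_t M) (Z_act M) (cZe_act M) (fun _ _ => trivial) cZc2_ok cZ_f2) (cZtn10_t M) (Z_act M) (cZe_act M) (fun _ _ => trivial) cZc1_ok cZ_f1) (cZtn11_t M) (Z_act M) (cZe_act M) (fun _ _ => trivial) cZc0_ok cZ_f0
theorem cZ_card {G Ω : Type*} [Group G] [MulAction G Ω] {g : ℕ → G} {pt : ℕ → Ω}
    (M : Md g pt H16.Suz.P 1782 7 H16.Suz.B 448345497600) : Nat.card (Subgroup.centralizer {(rl [0] (wds g F_W)) 0}) = 3317760 :=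
  (cZ M).card_cent1 M.inj cZ_c.1
theorem cZ_eq {G Ω : Type*} [Group G] [MulAction G Ω] {g : ℕ → G} {pt : ℕ → Ω}
    (M : Md g pt H16.Suz.P 1782 7 H16.Suz.B 448345497600) : Subgroup.centralizer (gen (rl [0] (wds g F_W)) 1) = gen (wds g cZe_W) 8 ∧ Nat.card (gen (wds g cZe_W) 8) = 3317760 :=
  cZ_c.1 ▸ cZ_c.2 ▸ ⟨(cZ M).cent, (cZ M).card M.inj⟩
theorem cZ_le {G Ω : Type*} [Group G] [MulAction G Ω] {g : ℕ → G} {pt : ℕ → Ω}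
    (M : Md g pt H16.Suz.P 1782 7 H16.Suz.B 448345497600) : gen (wds g cZe_W) 8 ≤ gen (rl [7, 8, 14, 15, 16, 17] (wds g F_W)) 6 :=
  M.gen_le (O_act M) (cZe_act M) cZ_le_k
theorem OZ {G Ω : Type*} [Group G] [MulAction G Ω] {g : ℕ → G} {pt : ℕ → Ω}
    (M : Md g pt H16.Suz.P 1782 7 H16.Suz.B 448345497600) : gen (rl [7, 8, 14, 15, 16, 17] (wds g F_W)) 6 ≤ Subgroup.centralizer (gen (rl [0] (wds g F_W)) 1 : Set G) :=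
  H0.Fi.comm_all M (Z_act M) (O_act M) OZ_k
theorem nQ {G Ω : Type*} [Group G] [MulAction G Ω] {g : ℕ → G} {pt : ℕ → Ω}
    (M : Md g pt H16.Suz.P 1782 7 H16.Suz.B 448345497600) : gen (rl [7, 8, 14, 15, 16, 17] (wds g F_W)) 6 ≤ Subgroup.normalizer (gen (rl [0, 1, 2, 3, 18, 19, 20] (wds g F_W)) 7 : Set G) :=
  H0.Fi.norm_all M (Q_act M) (O_act M) nQ_k
theorem orbQ_e : ∀ i < 128, (H0.Fi.orbEnt (rl [nat_lit 0, nat_lit 1, nat_lit 2, nat_lit 3, nat_lit 18, nat_lit 19, nat_lit 20] F_P) (rl [nat_lit 7, nat_lit 8, nat_lit 14, nat_lit 15, nat_lit 16, nat_lit 17] F_P) (nat_lit 2) (nat_lit 7) (nat_lit 6) H16.Suz.B orbQD orbQL orbQr orbQq orbQR) i = 0 := allZ_sound0 orbQ_e_0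
theorem orbQ {G Ω : Type*} [Group G] [MulAction G Ω] {g : ℕ → G} {pt : ℕ → Ω}
    (M : Md g pt H16.Suz.P 1782 7 H16.Suz.B 448345497600) : ∀ c < 2 ^ 7, c ≠ 0 → ∃ a ∈ gen (rl [7, 8, 14, 15, 16, 17] (wds g F_W)) 6,
      a * evA (rl [0, 1, 2, 3, 18, 19, 20] (wds g F_W)) (H0.Fi.digW 2 0 7 c) * a⁻¹ = evA (rl [0, 1, 2, 3, 18, 19, 20] (wds g F_W)) (H0.Fi.digW 2 0 7 (nth 0 orbQR (orbQq c))) :=
  H0.Fi.orb_sound M (Q_act M) (O_act M) orbQ_e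
theorem O15 {G Ω : Type*} [Group G] [MulAction G Ω] {g : ℕ → G} {pt : ℕ → Ω}
    (M : Md g pt H16.Suz.P 1782 7 H16.Suz.B 448345497600) : ∀ k < 6, (rl [7, 8, 14, 15, 16, 17] (wds g F_W)) k ^ 15 = 1 :=
  H0.Fi.pw_all M (O_act M) O15_k
theorem ZS_act {G Ω : Type*} [Group G] [MulAction G Ω] {g : ℕ → G} {pt : ℕ → Ω}
    (M : Md g pt H16.Suz.P 1782 7 H16.Suz.B 448345497600) : Act (rl [0, 1] (wds g F_W)) pt (rl [nat_lit 0, nat_lit 1] F_P) 1782 2 :=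
  (F_act M).rl (by decide)
theorem cZSth_act {G Ω : Type*} [Group G] [MulAction G Ω] {g : ℕ → G} {pt : ℕ → Ω}
    (M : Md g pt H16.Suz.P 1782 7 H16.Suz.B 448345497600) : Act (wds g cZSth_W) pt cZSth_P 1782 18 :=
  M.wact cZSth_lt
theorem cZStl0_e : ∀ i < 1781, (dent cZStl0 cZSth_P (nat_lit 1782)) i = 0 := allZ_sound0 cZStl0_e_0
theorem cZStl0_ok : DOK cZStl0 cZSth_P 1782 := ⟨cZStl0_h, cZStl0_e⟩
theorem cZStl1_e : ∀ i < 1364, (dent cZStl1 cZSth_P (nat_lit 1782)) i = 0 := allZ_sound0 cZStl1_e_0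
theorem cZStl1_ok : DOK cZStl1 cZSth_P 1782 := ⟨cZStl1_h, cZStl1_e⟩
theorem cZStl2_e : ∀ i < 19, (dent cZStl2 cZSth_P (nat_lit 1782)) i = 0 := allZ_sound0 cZStl2_e_0
theorem cZStl2_ok : DOK cZStl2 cZSth_P 1782 := ⟨cZStl2_h, cZStl2_e⟩
theorem cZStl3_e : ∀ i < 2, (dent cZStl3 cZSth_P (nat_lit 1782)) i = 0 := allZ_sound0 cZStl3_e_0
theorem cZStl3_ok : DOK cZStl3 cZSth_P 1782 := ⟨cZStl3_h, cZStl3_e⟩
theorem cZStl4_e : ∀ i < 15, (dent cZStl4 cZSth_P (nat_lit 1782)) i = 0 := allZ_sound0 cZStl4_e_0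
theorem cZStl4_ok : DOK cZStl4 cZSth_P 1782 := ⟨cZStl4_h, cZStl4_e⟩
theorem cZStl5_e : ∀ i < 7, (dent cZStl5 cZSth_P (nat_lit 1782)) i = 0 := allZ_sound0 cZStl5_e_0
theorem cZStl5_ok : DOK cZStl5 cZSth_P 1782 := ⟨cZStl5_h, cZStl5_e⟩
theorem cZStl6_e : ∀ i < 5, (dent cZStl6 cZSth_P (nat_lit 1782)) i = 0 := allZ_sound0 cZStl6_e_0
theorem cZStl6_ok : DOK cZStl6 cZSth_P 1782 := ⟨cZStl6_h, cZStl6_e⟩
theorem cZStl7_e : ∀ i < 1, (dent cZStl7 cZSth_P (nat_lit 1782)) i = 0 := allZ_sound0 cZStl7_e_0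
theorem cZStl7_ok : DOK cZStl7 cZSth_P 1782 := ⟨cZStl7_h, cZStl7_e⟩
theorem cZStl8_e : ∀ i < 1, (dent cZStl8 cZSth_P (nat_lit 1782)) i = 0 := allZ_sound0 cZStl8_e_0
theorem cZStl8_ok : DOK cZStl8 cZSth_P 1782 := ⟨cZStl8_h, cZStl8_e⟩
theorem cZSt_low {G Ω : Type*} [Group G] [MulAction G Ω] {g : ℕ → G} {pt : ℕ → Ω}
    (M : Md g pt H16.Suz.P 1782 7 H16.Suz.B 448345497600) : SLow (gi (wds g cZSth_W)) pt 1782 [cZStl0, cZStl1, cZStl2, cZStl3, cZStl4, cZStl5, cZStl6, cZStl7, cZStl8] :=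
  (((((((((SLow.nil).cons cZStl8_ok (cZSth_act M) cZSt_f8).cons cZStl7_ok (cZSth_act M) cZSt_f7).cons cZStl6_ok (cZSth_act M) cZSt_f6).cons cZStl5_ok (cZSth_act M) cZSt_f5).cons cZStl4_ok (cZSth_act M) cZSt_f4).cons cZStl3_ok (cZSth_act M) cZSt_f3).cons cZStl2_ok (cZSth_act M) cZSt_f2).cons cZStl1_ok (cZSth_act M) cZSt_f1).cons cZStl0_ok (cZSth_act M) cZSt_f0
theorem cZSt_S0 {G Ω : Type*} [Group G] [MulAction G Ω] {g : ℕ → G} {pt : ℕ → Ω}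
    (M : Md g pt H16.Suz.P 1782 7 H16.Suz.B 448345497600) : Stage ⊤ (wds g cZSth_W) pt 1782 [cZStl0, cZStl1, cZStl2, cZStl3, cZStl4, cZStl5, cZStl6, cZStl7, cZStl8] [] :=
  M.stage (cZSt_low M) cZSt_c
theorem cZSt_S1 {G Ω : Type*} [Group G] [MulAction G Ω] {g : ℕ → G} {pt : ℕ → Ω}
    (M : Md g pt H16.Suz.P 1782 7 H16.Suz.B 448345497600) : Stage ⊤ (wds g cZSth_W) pt 1782 [cZStl1, cZStl2, cZStl3, cZStl4, cZStl5, cZStl6, cZStl7, cZStl8] [cZStl0.Pt 0] :=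
  (cZSt_S0 M).next
theorem cZSt_S2 {G Ω : Type*} [Group G] [MulAction G Ω] {g : ℕ → G} {pt : ℕ → Ω}
    (M : Md g pt H16.Suz.P 1782 7 H16.Suz.B 448345497600) : Stage ⊤ (wds g cZSth_W) pt 1782 [cZStl2, cZStl3, cZStl4, cZStl5, cZStl6, cZStl7, cZStl8] [cZStl1.Pt 0, cZStl0.Pt 0] :=
  (cZSt_S1 M).next
theorem cZSt_S3 {G Ω : Type*} [Group G] [MulAction G Ω] {g : ℕ → G} {pt : ℕ → Ω}
    (M : Md g pt H16.Suz.P 1782 7 H16.Suz.B 448345497600) : Stage ⊤ (wds g cZSth_W) pt 1782 [cZStl3, cZStl4, cZStl5, cZStl6, cZStl7, cZStl8] [cZStl2.Pt 0, cZStl1.Pt 0, cZStl0.Pt 0] :=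
  (cZSt_S2 M).next
theorem cZSt_S4 {G Ω : Type*} [Group G] [MulAction G Ω] {g : ℕ → G} {pt : ℕ → Ω}
    (M : Md g pt H16.Suz.P 1782 7 H16.Suz.B 448345497600) : Stage ⊤ (wds g cZSth_W) pt 1782 [cZStl4, cZStl5, cZStl6, cZStl7, cZStl8] [cZStl3.Pt 0, cZStl2.Pt 0, cZStl1.Pt 0, cZStl0.Pt 0] :=
  (cZSt_S3 M).next
theorem cZSt_S5 {G Ω : Type*} [Group G] [MulAction G Ω] {g : ℕ → G} {pt : ℕ → Ω}
    (M : Md g pt H16.Suz.P 1782 7 H16.Suz.B 448345497600) : Stage ⊤ (wds g cZSth_W) pt 1782 [cZStl5, cZStl6, cZStl7, cZStl8] [cZStl4.Pt 0, cZStl3.Pt 0, cZStl2.Pt 0, cZStl1.Pt 0, cZStl0.Pt 0] :=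
  (cZSt_S4 M).next
theorem cZSt_S6 {G Ω : Type*} [Group G] [MulAction G Ω] {g : ℕ → G} {pt : ℕ → Ω}
    (M : Md g pt H16.Suz.P 1782 7 H16.Suz.B 448345497600) : Stage ⊤ (wds g cZSth_W) pt 1782 [cZStl6, cZStl7, cZStl8] [cZStl5.Pt 0, cZStl4.Pt 0, cZStl3.Pt 0, cZStl2.Pt 0, cZStl1.Pt 0, cZStl0.Pt 0] :=
  (cZSt_S5 M).next
theorem cZSt_S7 {G Ω : Type*} [Group G] [MulAction G Ω] {g : ℕ → G} {pt : ℕ → Ω}
    (M : Md g pt H16.Suz.P 1782 7 H16.Suz.B 448345497600) : Stage ⊤ (wds g cZSth_W) pt 1782 [cZStl7, cZStl8] [cZStl6.Pt 0, cZStl5.Pt 0, cZStl4.Pt 0, cZStl3.Pt 0, cZStl2.Pt 0, cZStl1.Pt 0, cZStl0.Pt 0] :=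
  (cZSt_S6 M).next
theorem cZSt_S8 {G Ω : Type*} [Group G] [MulAction G Ω] {g : ℕ → G} {pt : ℕ → Ω}
    (M : Md g pt H16.Suz.P 1782 7 H16.Suz.B 448345497600) : Stage ⊤ (wds g cZSth_W) pt 1782 [cZStl8] [cZStl7.Pt 0, cZStl6.Pt 0, cZStl5.Pt 0, cZStl4.Pt 0, cZStl3.Pt 0, cZStl2.Pt 0, cZStl1.Pt 0, cZStl0.Pt 0] :=
  (cZSt_S7 M).next
theorem cZSt_S9 {G Ω : Type*} [Group G] [MulAction G Ω] {g : ℕ → G} {pt : ℕ → Ω}
    (M : Md g pt H16.Suz.P 1782 7 H16.Suz.B 448345497600) : Stage ⊤ (wds g cZSth_W) pt 1782 [] [cZStl8.Pt 0, cZStl7.Pt 0, cZStl6.Pt 0, cZStl5.Pt 0, cZStl4.Pt 0, cZStl3.Pt 0, cZStl2.Pt 0, cZStl1.Pt 0, cZStl0.Pt 0] :=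
  (cZSt_S8 M).next
theorem cZSe_act {G Ω : Type*} [Group G] [MulAction G Ω] {g : ℕ → G} {pt : ℕ → Ω}
    (M : Md g pt H16.Suz.P 1782 7 H16.Suz.B 448345497600) : Act (wds g cZSe_W) pt cZSe_P 1782 6 :=
  M.wact cZSe_lt
theorem cZSc8_e : ∀ i < 1, (dent cZSc8 cZSe_P (nat_lit 1782)) i = 0 := allZ_sound0 cZSc8_e_0
theorem cZSc8_ok : DOK cZSc8 cZSe_P 1782 := ⟨cZSc8_h, cZSc8_e⟩
theorem cZStn0_1 : ∀ i < 2, (cZStn0.ent H16.Suz.P cZSth_P (rl [nat_lit 0, nat_lit 1] F_P) (rl [nat_lit 0, nat_lit 1] F_P) cZSe_P (nat_lit 7) (nat_lit 2) H16.Suz.B cZStl8 [] (memO cZSc8)) i = 0 := allZ_sound0 cZStn0_1_0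
theorem cZStn0_t {G Ω : Type*} [Group G] [MulAction G Ω] {g : ℕ → G} {pt : ℕ → Ω}
    (M : Md g pt H16.Suz.P 1782 7 H16.Suz.B 448345497600) : TrO (gen (wds g cZSth_W) cZStl8.K) (rl [0, 1] (wds g F_W)) (rl [0, 1] (wds g F_W)) 2 pt 1782 (cZStl8.Pt 0) (memO cZSc8) :=
  node M (cZSt_S8 M) (cZSth_act M) (ZS_act M) (ZS_act M) cZStn0 ((cZSe_act M).mono (by decide)) (fun _ _ => trivial) cZStn0_0 cZStn0_1 (List.forall_mem_nil _)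
theorem cZSc7_e : ∀ i < 1, (dent cZSc7 cZSe_P (nat_lit 1782)) i = 0 := allZ_sound0 cZSc7_e_0
theorem cZSc7_ok : DOK cZSc7 cZSe_P 1782 := ⟨cZSc7_h, cZSc7_e⟩
theorem cZStn1_1 : ∀ i < 2, (cZStn1.ent H16.Suz.P cZSth_P (rl [nat_lit 0, nat_lit 1] F_P) (rl [nat_lit 0, nat_lit 1] F_P) cZSe_P (nat_lit 7) (nat_lit 2) H16.Suz.B cZStl7 [cZStl8] (memO cZSc7)) i = 0 := allZ_sound0 cZStn1_1_0
theorem cZStn1_t {G Ω : Type*} [Group G] [MulAction G Ω] {g : ℕ → G} {pt : ℕ → Ω}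
    (M : Md g pt H16.Suz.P 1782 7 H16.Suz.B 448345497600) : TrO (gen (wds g cZSth_W) cZStl7.K) (rl [0, 1] (wds g F_W)) (rl [0, 1] (wds g F_W)) 2 pt 1782 (cZStl7.Pt 0) (memO cZSc7) :=
  node M (cZSt_S7 M) (cZSth_act M) (ZS_act M) (ZS_act M) cZStn1 ((cZSe_act M).mono (by decide)) (fun _ _ => trivial) cZStn1_0 cZStn1_1 (List.forall_mem_nil _)
theorem cZSc6_e : ∀ i < 5, (dent cZSc6 cZSe_P (nat_lit 1782)) i = 0 := allZ_sound0 cZSc6_e_0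
theorem cZSc6_ok : DOK cZSc6 cZSe_P 1782 := ⟨cZSc6_h, cZSc6_e⟩
theorem cZStn2_1 : ∀ i < 6, (cZStn2.ent H16.Suz.P cZSth_P (rl [nat_lit 0, nat_lit 1] F_P) (rl [nat_lit 0, nat_lit 1] F_P) cZSe_P (nat_lit 7) (nat_lit 2) H16.Suz.B cZStl6 [cZStl7, cZStl8] (memO cZSc6)) i = 0 := allZ_sound0 cZStn2_1_0
theorem cZStn2_t {G Ω : Type*} [Group G] [MulAction G Ω] {g : ℕ → G} {pt : ℕ → Ω}
    (M : Md g pt H16.Suz.P 1782 7 H16.Suz.B 448345497600) : TrO (gen (wds g cZSth_W) cZStl6.K) (rl [0, 1] (wds g F_W)) (rl [0, 1] (wds g F_W)) 2 pt 1782 (cZStl6.Pt 0) (memO cZSc6) :=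
  node M (cZSt_S6 M) (cZSth_act M) (ZS_act M) (ZS_act M) cZStn2 ((cZSe_act M).mono (by decide)) (fun _ _ => trivial) cZStn2_0 cZStn2_1 (List.forall_mem_nil _)
theorem cZSc4_e : ∀ i < 7, (dent cZSc4 cZSe_P (nat_lit 1782)) i = 0 := allZ_sound0 cZSc4_e_0
theorem cZSc4_ok : DOK cZSc4 cZSe_P 1782 := ⟨cZSc4_h, cZSc4_e⟩
theorem cZStn3y538_act {G Ω : Type*} [Group G] [MulAction G Ω] {g : ℕ → G} {pt : ℕ → Ω}
    (M : Md g pt H16.Suz.P 1782 7 H16.Suz.B 448345497600) : Act (wds g cZStn3y538_W) pt cZStn3y538_P 1782 2 :=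
  M.wact cZStn3y538_lt
theorem cZStr4k_act {G Ω : Type*} [Group G] [MulAction G Ω] {g : ℕ → G} {pt : ℕ → Ω}
    (M : Md g pt H16.Suz.P 1782 7 H16.Suz.B 448345497600) : Act (wds g cZStr4k_W) pt cZStr4k_P 1782 2 :=
  M.wact cZStr4k_lt
theorem cZStn4y140_act {G Ω : Type*} [Group G] [MulAction G Ω] {g : ℕ → G} {pt : ℕ → Ω}
    (M : Md g pt H16.Suz.P 1782 7 H16.Suz.B 448345497600) : Act (wds g cZStn4y140_W) pt cZStn4y140_P 1782 2 :=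
  M.wact cZStn4y140_lt
theorem cZStr5k_act {G Ω : Type*} [Group G] [MulAction G Ω] {g : ℕ → G} {pt : ℕ → Ω}
    (M : Md g pt H16.Suz.P 1782 7 H16.Suz.B 448345497600) : Act (wds g cZStr5k_W) pt cZStr5k_P 1782 2 :=
  M.wact cZStr5k_lt
theorem cZStn5y504_act {G Ω : Type*} [Group G] [MulAction G Ω] {g : ℕ → G} {pt : ℕ → Ω}
    (M : Md g pt H16.Suz.P 1782 7 H16.Suz.B 448345497600) : Act (wds g cZStn5y504_W) pt cZStn5y504_P 1782 2 :=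
  M.wact cZStn5y504_lt
theorem cZStr6k_act {G Ω : Type*} [Group G] [MulAction G Ω] {g : ℕ → G} {pt : ℕ → Ω}
    (M : Md g pt H16.Suz.P 1782 7 H16.Suz.B 448345497600) : Act (wds g cZStr6k_W) pt cZStr6k_P 1782 2 :=
  M.wact cZStr6k_lt
theorem cZStn6_1 : ∀ i < 2, (cZStn6.ent H16.Suz.P cZSth_P (rl [nat_lit 0, nat_lit 1] F_P) cZStn5y504_P cZStr6k_P (nat_lit 7) (nat_lit 2) H16.Suz.B cZStl8 [] (fun _ => nat_lit 1)) i = 0 := allZ_sound0 cZStn6_1_0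
theorem cZStn6_t {G Ω : Type*} [Group G] [MulAction G Ω] {g : ℕ → G} {pt : ℕ → Ω}
    (M : Md g pt H16.Suz.P 1782 7 H16.Suz.B 448345497600) : TrO (gen (wds g cZSth_W) cZStl8.K) (rl [0, 1] (wds g F_W)) (wds g cZStn5y504_W) 2 pt 1782 (cZStl8.Pt 0) (fun _ => nat_lit 1) :=
  node M (cZSt_S8 M) (cZSth_act M) (ZS_act M) (cZStn5y504_act M) cZStn6 ((cZStr6k_act M).mono (by decide)) (fun _ _ => trivial) cZStn6_0 cZStn6_1 (List.forall_mem_nil _)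
theorem cZStr6 {G Ω : Type*} [Group G] [MulAction G Ω] {g : ℕ → G} {pt : ℕ → Ω}
    (M : Md g pt H16.Suz.P 1782 7 H16.Suz.B 448345497600) : Ref (gen (wds g cZSth_W) (topK [cZStl8])) (rl [0, 1] (wds g F_W)) (wds g cZStn5y504_W) 2 :=
  (cZStn6_t M).ref
theorem cZStn5_1 : ∀ i < 2, (cZStn5.ent H16.Suz.P cZSth_P (rl [nat_lit 0, nat_lit 1] F_P) cZStn4y140_P cZStr5k_P (nat_lit 7) (nat_lit 2) H16.Suz.B cZStl7 [cZStl8] (fun _ => nat_lit 1)) i = 0 := allZ_sound0 cZStn5_1_0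
theorem cZStn5_t {G Ω : Type*} [Group G] [MulAction G Ω] {g : ℕ → G} {pt : ℕ → Ω}
    (M : Md g pt H16.Suz.P 1782 7 H16.Suz.B 448345497600) : TrO (gen (wds g cZSth_W) cZStl7.K) (rl [0, 1] (wds g F_W)) (wds g cZStn4y140_W) 2 pt 1782 (cZStl7.Pt 0) (fun _ => nat_lit 1) :=
  node M (cZSt_S7 M) (cZSth_act M) (ZS_act M) (cZStn4y140_act M) cZStn5 ((cZStr5k_act M).mono (by decide)) (fun _ _ => trivial) cZStn5_0 cZStn5_1 (List.forall_mem_cons.2 ⟨cZStr6 M, List.forall_mem_nil _⟩)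
theorem cZStr5 {G Ω : Type*} [Group G] [MulAction G Ω] {g : ℕ → G} {pt : ℕ → Ω}
    (M : Md g pt H16.Suz.P 1782 7 H16.Suz.B 448345497600) : Ref (gen (wds g cZSth_W) (topK [cZStl7, cZStl8])) (rl [0, 1] (wds g F_W)) (wds g cZStn4y140_W) 2 :=
  (cZStn5_t M).ref
theorem cZStn4_1 : ∀ i < 6, (cZStn4.ent H16.Suz.P cZSth_P (rl [nat_lit 0, nat_lit 1] F_P) cZStn3y538_P cZStr4k_P (nat_lit 7) (nat_lit 2) H16.Suz.B cZStl6 [cZStl7, cZStl8] (fun _ => nat_lit 1)) i = 0 := allZ_sound0 cZStn4_1_0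
theorem cZStn4_t {G Ω : Type*} [Group G] [MulAction G Ω] {g : ℕ → G} {pt : ℕ → Ω}
    (M : Md g pt H16.Suz.P 1782 7 H16.Suz.B 448345497600) : TrO (gen (wds g cZSth_W) cZStl6.K) (rl [0, 1] (wds g F_W)) (wds g cZStn3y538_W) 2 pt 1782 (cZStl6.Pt 0) (fun _ => nat_lit 1) :=
  node M (cZSt_S6 M) (cZSth_act M) (ZS_act M) (cZStn3y538_act M) cZStn4 ((cZStr4k_act M).mono (by decide)) (fun _ _ => trivial) cZStn4_0 cZStn4_1 (List.forall_mem_cons.2 ⟨cZStr5 M, List.forall_mem_nil _⟩)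
theorem cZStr4 {G Ω : Type*} [Group G] [MulAction G Ω] {g : ℕ → G} {pt : ℕ → Ω}
    (M : Md g pt H16.Suz.P 1782 7 H16.Suz.B 448345497600) : Ref (gen (wds g cZSth_W) (topK [cZStl6, cZStl7, cZStl8])) (rl [0, 1] (wds g F_W)) (wds g cZStn3y538_W) 2 :=
  (cZStn4_t M).ref
theorem cZStn3_1 : ∀ i < 16, (cZStn3.ent H16.Suz.P cZSth_P (rl [nat_lit 0, nat_lit 1] F_P) (rl [nat_lit 0, nat_lit 1] F_P) cZSe_P (nat_lit 7) (nat_lit 2) H16.Suz.B cZStl4 [cZStl5, cZStl6, cZStl7, cZStl8] (memO cZSc4)) i = 0 := allZ_sound0 cZStn3_1_0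
theorem cZStn3_t {G Ω : Type*} [Group G] [MulAction G Ω] {g : ℕ → G} {pt : ℕ → Ω}
    (M : Md g pt H16.Suz.P 1782 7 H16.Suz.B 448345497600) : TrO (gen (wds g cZSth_W) cZStl4.K) (rl [0, 1] (wds g F_W)) (rl [0, 1] (wds g F_W)) 2 pt 1782 (cZStl4.Pt 0) (memO cZSc4) :=
  node M (cZSt_S4 M) (cZSth_act M) (ZS_act M) (ZS_act M) cZStn3 ((cZSe_act M).mono (by decide)) (fun _ _ => trivial) cZStn3_0 cZStn3_1 (List.forall_mem_cons.2 ⟨cZStr4 M, List.forall_mem_nil _⟩)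
theorem cZSc2_e : ∀ i < 9, (dent cZSc2 cZSe_P (nat_lit 1782)) i = 0 := allZ_sound0 cZSc2_e_0
theorem cZSc2_ok : DOK cZSc2 cZSe_P 1782 := ⟨cZSc2_h, cZSc2_e⟩
theorem cZStn7_1 : ∀ i < 20, (cZStn7.ent H16.Suz.P cZSth_P (rl [nat_lit 0, nat_lit 1] F_P) (rl [nat_lit 0, nat_lit 1] F_P) cZSe_P (nat_lit 7) (nat_lit 2) H16.Suz.B cZStl2 [cZStl3, cZStl4, cZStl5, cZStl6, cZStl7, cZStl8] (memO cZSc2)) i = 0 := allZ_sound0 cZStn7_1_0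
theorem cZStn7_t {G Ω : Type*} [Group G] [MulAction G Ω] {g : ℕ → G} {pt : ℕ → Ω}
    (M : Md g pt H16.Suz.P 1782 7 H16.Suz.B 448345497600) : TrO (gen (wds g cZSth_W) cZStl2.K) (rl [0, 1] (wds g F_W)) (rl [0, 1] (wds g F_W)) 2 pt 1782 (cZStl2.Pt 0) (memO cZSc2) :=
  node M (cZSt_S2 M) (cZSth_act M) (ZS_act M) (ZS_act M) cZStn7 ((cZSe_act M).mono (by decide)) (fun _ _ => trivial) cZStn7_0 cZStn7_1 (List.forall_mem_nil _)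
theorem cZSc0_e : ∀ i < 31, (dent cZSc0 cZSe_P (nat_lit 1782)) i = 0 := allZ_sound0 cZSc0_e_0
theorem cZSc0_ok : DOK cZSc0 cZSe_P 1782 := ⟨cZSc0_h, cZSc0_e⟩
theorem cZStn8_1 : ∀ i < 1782, (cZStn8.ent H16.Suz.P cZSth_P (rl [nat_lit 0, nat_lit 1] F_P) (rl [nat_lit 0, nat_lit 1] F_P) cZSe_P (nat_lit 7) (nat_lit 2) H16.Suz.B cZStl0 [cZStl1, cZStl2, cZStl3, cZStl4, cZStl5, cZStl6, cZStl7, cZStl8] (memO cZSc0)) i = 0 := allZ_sound0 cZStn8_1_0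
theorem cZStn8_t {G Ω : Type*} [Group G] [MulAction G Ω] {g : ℕ → G} {pt : ℕ → Ω}
    (M : Md g pt H16.Suz.P 1782 7 H16.Suz.B 448345497600) : TrO (gen (wds g cZSth_W) cZStl0.K) (rl [0, 1] (wds g F_W)) (rl [0, 1] (wds g F_W)) 2 pt 1782 (cZStl0.Pt 0) (memO cZSc0) :=
  node M (cZSt_S0 M) (cZSth_act M) (ZS_act M) (ZS_act M) cZStn8 ((cZSe_act M).mono (by decide)) (fun _ _ => trivial) cZStn8_0 cZStn8_1 (List.forall_mem_nil _)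
theorem cZS {G Ω : Type*} [Group G] [MulAction G Ω] {g : ℕ → G} {pt : ℕ → Ω}
    (M : Md g pt H16.Suz.P 1782 7 H16.Suz.B 448345497600) : Cen ⊤ (rl [0, 1] (wds g F_W)) 2 (wds g cZSe_W) pt 1782 [cZSc0, cZSc2, cZSc4, cZSc6, cZSc7, cZSc8] :=
  (cZSt_S0 M).top ▸ Cen.lev M (cZSt_S0 M) (Cen.triv (cZSt_S1 M) (Cen.lev M (cZSt_S2 M) (Cen.triv (cZSt_S3 M) (Cen.lev M (cZSt_S4 M) (Cen.triv (cZSt_S5 M) (Cen.lev M (cZSt_S6 M) (Cen.lev M (cZSt_S7 M) (Cen.lev M (cZSt_S8 M) (Cen.bot) (cZStn0_t M) (ZS_act M) (cZSe_act M) (fun _ _ => trivial) cZSc8_ok cZS_f8) (cZStn1_t M) (ZS_act M) (cZSe_act M) (fun _ _ => trivial) cZSc7_ok cZS_f7) (cZStn2_t M) (ZS_act M) (cZSe_act M) (fun _ _ => trivial) cZSc6_ok cZS_f6) (forced (cZSt_S5 M) (cZSth_act M) (ZS_act M) _ _ cZS_f5)) (cZStn3_t M) (ZS_act M) (cZSe_act M) (fun _ _ => trivial) cZSc4_ok cZS_f4)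 (forced (cZSt_S3 M) (cZSth_act M) (ZS_act M) _ _ cZS_f3)) (cZStn7_t M) (ZS_act M) (cZSe_act M) (fun _ _ => trivial) cZSc2_ok cZS_f2) (forced (cZSt_S1 M) (cZSth_act M) (ZS_act M) _ _ cZS_f1)) (cZStn8_t M) (ZS_act M) (cZSe_act M) (fun _ _ => trivial) cZSc0_ok cZS_f0
theorem cZS_eq {G Ω : Type*} [Group G] [MulAction G Ω] {g : ℕ → G} {pt : ℕ → Ω}
    (M : Md g pt H16.Suz.P 1782 7 H16.Suz.B 448345497600) : Subgroup.centralizer (gen (rl [0, 1] (wds g F_W)) 2) = gen (wds g cZSe_W) 6 ∧ Nat.card (gen (wds g cZSe_W) 6) = 61440 :=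
  cZS_c.1 ▸ cZS_c.2 ▸ ⟨(cZS M).cent, (cZS M).card M.inj⟩
theorem cZS_le {G Ω : Type*} [Group G] [MulAction G Ω] {g : ℕ → G} {pt : ℕ → Ω}
    (M : Md g pt H16.Suz.P 1782 7 H16.Suz.B 448345497600) : gen (wds g cZSe_W) 6 ≤ gen (rl [7, 8, 14, 15, 3, 4, 0, 1] (wds g F_W)) 8 :=
  M.gen_le (P0_act M) (cZSe_act M) cZS_le_k
theorem PZS {G Ω : Type*} [Group G] [MulAction G Ω] {g : ℕ → G} {pt : ℕ → Ω}
    (M : Md g pt H16.Suz.P 1782 7 H16.Suz.B 448345497600) : gen (rl [7, 8, 14, 15, 3, 4, 0, 1] (wds g F_W)) 8 ≤ Subgroup.centralizer (gen (rl [0, 1] (wds g F_W)) 2 : Set G) :=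
  H0.Fi.comm_all M (ZS_act M) (P0_act M) PZS_k
theorem ZSB_act {G Ω : Type*} [Group G] [MulAction G Ω] {g : ℕ → G} {pt : ℕ → Ω}
    (M : Md g pt H16.Suz.P 1782 7 H16.Suz.B 448345497600) : Act (rl [0, 1, 14] (wds g F_W)) pt (rl [nat_lit 0, nat_lit 1, nat_lit 14] F_P) 1782 3 :=
  (F_act M).rl (by decide)
theorem BZS_act {G Ω : Type*} [Group G] [MulAction G Ω] {g : ℕ → G} {pt : ℕ → Ω}
    (M : Md g pt H16.Suz.P 1782 7 H16.Suz.B 448345497600) : Act (rl [14, 0, 1] (wds g F_W)) pt (rl [nat_lit 14, nat_lit 0, nat_lit 1] F_P) 1782 3 :=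
  (F_act M).rl (by decide)
theorem cZSBth_act {G Ω : Type*} [Group G] [MulAction G Ω] {g : ℕ → G} {pt : ℕ → Ω}
    (M : Md g pt H16.Suz.P 1782 7 H16.Suz.B 448345497600) : Act (wds g cZSBth_W) pt cZSBth_P 1782 18 :=
  M.wact cZSBth_lt
theorem cZSBtl0_e : ∀ i < 1781, (dent cZSBtl0 cZSBth_P (nat_lit 1782)) i = 0 := allZ_sound0 cZSBtl0_e_0
theorem cZSBtl0_ok : DOK cZSBtl0 cZSBth_P 1782 := ⟨cZSBtl0_h, cZSBtl0_e⟩
theorem cZSBtl1_e : ∀ i < 415, (dent cZSBtl1 cZSBth_P (nat_lit 1782)) i = 0 := allZ_sound0 cZSBtl1_e_0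
theorem cZSBtl1_ok : DOK cZSBtl1 cZSBth_P 1782 := ⟨cZSBtl1_h, cZSBtl1_e⟩
theorem cZSBtl2_e : ∀ i < 99, (dent cZSBtl2 cZSBth_P (nat_lit 1782)) i = 0 := allZ_sound0 cZSBtl2_e_0
theorem cZSBtl2_ok : DOK cZSBtl2 cZSBth_P 1782 := ⟨cZSBtl2_h, cZSBtl2_e⟩
theorem cZSBtl3_e : ∀ i < 62, (dent cZSBtl3 cZSBth_P (nat_lit 1782)) i = 0 := allZ_sound0 cZSBtl3_e_0
theorem cZSBtl3_ok : DOK cZSBtl3 cZSBth_P 1782 := ⟨cZSBtl3_h, cZSBtl3_e⟩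
theorem cZSBtl4_e : ∀ i < 11, (dent cZSBtl4 cZSBth_P (nat_lit 1782)) i = 0 := allZ_sound0 cZSBtl4_e_0
theorem cZSBtl4_ok : DOK cZSBtl4 cZSBth_P 1782 := ⟨cZSBtl4_h, cZSBtl4_e⟩
theorem cZSBtl5_e : ∀ i < 1, (dent cZSBtl5 cZSBth_P (nat_lit 1782)) i = 0 := allZ_sound0 cZSBtl5_e_0
theorem cZSBtl5_ok : DOK cZSBtl5 cZSBth_P 1782 := ⟨cZSBtl5_h, cZSBtl5_e⟩
theorem cZSBtl6_e : ∀ i < 1, (dent cZSBtl6 cZSBth_P (nat_lit 1782)) i = 0 := allZ_sound0 cZSBtl6_e_0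
theorem cZSBtl6_ok : DOK cZSBtl6 cZSBth_P 1782 := ⟨cZSBtl6_h, cZSBtl6_e⟩
theorem cZSBtl7_e : ∀ i < 1, (dent cZSBtl7 cZSBth_P (nat_lit 1782)) i = 0 := allZ_sound0 cZSBtl7_e_0
theorem cZSBtl7_ok : DOK cZSBtl7 cZSBth_P 1782 := ⟨cZSBtl7_h, cZSBtl7_e⟩
theorem cZSBt_low {G Ω : Type*} [Group G] [MulAction G Ω] {g : ℕ → G} {pt : ℕ → Ω}
    (M : Md g pt H16.Suz.P 1782 7 H16.Suz.B 448345497600) : SLow (gi (wds g cZSBth_W)) pt 1782 [cZSBtl0, cZSBtl1, cZSBtl2, cZSBtl3, cZSBtl4, cZSBtl5, cZSBtl6, cZSBtl7] :=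
  ((((((((SLow.nil).cons cZSBtl7_ok (cZSBth_act M) cZSBt_f7).cons cZSBtl6_ok (cZSBth_act M) cZSBt_f6).cons cZSBtl5_ok (cZSBth_act M) cZSBt_f5).cons cZSBtl4_ok (cZSBth_act M) cZSBt_f4).cons cZSBtl3_ok (cZSBth_act M) cZSBt_f3).cons cZSBtl2_ok (cZSBth_act M) cZSBt_f2).cons cZSBtl1_ok (cZSBth_act M) cZSBt_f1).cons cZSBtl0_ok (cZSBth_act M) cZSBt_f0
theorem cZSBt_S0 {G Ω : Type*} [Group G] [MulAction G Ω] {g : ℕ → G} {pt : ℕ → Ω}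
    (M : Md g pt H16.Suz.P 1782 7 H16.Suz.B 448345497600) : Stage ⊤ (wds g cZSBth_W) pt 1782 [cZSBtl0, cZSBtl1, cZSBtl2, cZSBtl3, cZSBtl4, cZSBtl5, cZSBtl6, cZSBtl7] [] :=
  M.stage (cZSBt_low M) cZSBt_c
theorem cZSBt_S1 {G Ω : Type*} [Group G] [MulAction G Ω] {g : ℕ → G} {pt : ℕ → Ω}
    (M : Md g pt H16.Suz.P 1782 7 H16.Suz.B 448345497600) : Stage ⊤ (wds g cZSBth_W) pt 1782 [cZSBtl1, cZSBtl2, cZSBtl3, cZSBtl4, cZSBtl5, cZSBtl6, cZSBtl7] [cZSBtl0.Pt 0] :=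
  (cZSBt_S0 M).next
theorem cZSBt_S2 {G Ω : Type*} [Group G] [MulAction G Ω] {g : ℕ → G} {pt : ℕ → Ω}
    (M : Md g pt H16.Suz.P 1782 7 H16.Suz.B 448345497600) : Stage ⊤ (wds g cZSBth_W) pt 1782 [cZSBtl2, cZSBtl3, cZSBtl4, cZSBtl5, cZSBtl6, cZSBtl7] [cZSBtl1.Pt 0, cZSBtl0.Pt 0] :=
  (cZSBt_S1 M).next
theorem cZSBt_S3 {G Ω : Type*} [Group G] [MulAction G Ω] {g : ℕ → G} {pt : ℕ → Ω}
    (M : Md g pt H16.Suz.P 1782 7 H16.Suz.B 448345497600) : Stage ⊤ (wds g cZSBth_W) pt 1782 [cZSBtl3, cZSBtl4, cZSBtl5, cZSBtl6, cZSBtl7] [cZSBtl2.Pt 0, cZSBtl1.Pt 0, cZSBtl0.Pt 0] :=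
  (cZSBt_S2 M).next
theorem cZSBt_S4 {G Ω : Type*} [Group G] [MulAction G Ω] {g : ℕ → G} {pt : ℕ → Ω}
    (M : Md g pt H16.Suz.P 1782 7 H16.Suz.B 448345497600) : Stage ⊤ (wds g cZSBth_W) pt 1782 [cZSBtl4, cZSBtl5, cZSBtl6, cZSBtl7] [cZSBtl3.Pt 0, cZSBtl2.Pt 0, cZSBtl1.Pt 0, cZSBtl0.Pt 0] :=
  (cZSBt_S3 M).next
theorem cZSBt_S5 {G Ω : Type*} [Group G] [MulAction G Ω] {g : ℕ → G} {pt : ℕ → Ω}
    (M : Md g pt H16.Suz.P 1782 7 H16.Suz.B 448345497600) : Stage ⊤ (wds g cZSBth_W) pt 1782 [cZSBtl5, cZSBtl6, cZSBtl7] [cZSBtl4.Pt 0, cZSBtl3.Pt 0, cZSBtl2.Pt 0, cZSBtl1.Pt 0, cZSBtl0.Pt 0] :=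
  (cZSBt_S4 M).next
theorem cZSBt_S6 {G Ω : Type*} [Group G] [MulAction G Ω] {g : ℕ → G} {pt : ℕ → Ω}
    (M : Md g pt H16.Suz.P 1782 7 H16.Suz.B 448345497600) : Stage ⊤ (wds g cZSBth_W) pt 1782 [cZSBtl6, cZSBtl7] [cZSBtl5.Pt 0, cZSBtl4.Pt 0, cZSBtl3.Pt 0, cZSBtl2.Pt 0, cZSBtl1.Pt 0, cZSBtl0.Pt 0] :=
  (cZSBt_S5 M).next
theorem cZSBt_S7 {G Ω : Type*} [Group G] [MulAction G Ω] {g : ℕ → G} {pt : ℕ → Ω}
    (M : Md g pt H16.Suz.P 1782 7 H16.Suz.B 448345497600) : Stage ⊤ (wds g cZSBth_W) pt 1782 [cZSBtl7] [cZSBtl6.Pt 0, cZSBtl5.Pt 0, cZSBtl4.Pt 0, cZSBtl3.Pt 0, cZSBtl2.Pt 0, cZSBtl1.Pt 0, cZSBtl0.Pt 0] :=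
  (cZSBt_S6 M).next
theorem cZSBt_S8 {G Ω : Type*} [Group G] [MulAction G Ω] {g : ℕ → G} {pt : ℕ → Ω}
    (M : Md g pt H16.Suz.P 1782 7 H16.Suz.B 448345497600) : Stage ⊤ (wds g cZSBth_W) pt 1782 [] [cZSBtl7.Pt 0, cZSBtl6.Pt 0, cZSBtl5.Pt 0, cZSBtl4.Pt 0, cZSBtl3.Pt 0, cZSBtl2.Pt 0, cZSBtl1.Pt 0, cZSBtl0.Pt 0] :=
  (cZSBt_S7 M).next
theorem cZSBe_act {G Ω : Type*} [Group G] [MulAction G Ω] {g : ℕ → G} {pt : ℕ → Ω}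
    (M : Md g pt H16.Suz.P 1782 7 H16.Suz.B 448345497600) : Act (wds g cZSBe_W) pt cZSBe_P 1782 2 :=
  M.wact cZSBe_lt
theorem cZSBc6_e : ∀ i < 1, (dent cZSBc6 cZSBe_P (nat_lit 1782)) i = 0 := allZ_sound0 cZSBc6_e_0
theorem cZSBc6_ok : DOK cZSBc6 cZSBe_P 1782 := ⟨cZSBc6_h, cZSBc6_e⟩
theorem cZSBtn0_1 : ∀ i < 2, (cZSBtn0.ent H16.Suz.P cZSBth_P (rl [nat_lit 0, nat_lit 1, nat_lit 14] F_P) (rl [nat_lit 0, nat_lit 1, nat_lit 14] F_P) cZSBe_P (nat_lit 7) (nat_lit 3) H16.Suz.B cZSBtl6 [cZSBtl7] (memO cZSBc6)) i = 0 := allZ_sound0 cZSBtn0_1_0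
theorem cZSBtn0_t {G Ω : Type*} [Group G] [MulAction G Ω] {g : ℕ → G} {pt : ℕ → Ω}
    (M : Md g pt H16.Suz.P 1782 7 H16.Suz.B 448345497600) : TrO (gen (wds g cZSBth_W) cZSBtl6.K) (rl [0, 1, 14] (wds g F_W)) (rl [0, 1, 14] (wds g F_W)) 3 pt 1782 (cZSBtl6.Pt 0) (memO cZSBc6) :=
  node M (cZSBt_S6 M) (cZSBth_act M) (ZSB_act M) (ZSB_act M) cZSBtn0 ((cZSBe_act M).mono (by decide)) (fun _ _ => trivial) cZSBtn0_0 cZSBtn0_1 (List.forall_mem_nil _)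
theorem cZSBc0_e : ∀ i < 9, (dent cZSBc0 cZSBe_P (nat_lit 1782)) i = 0 := allZ_sound0 cZSBc0_e_0
theorem cZSBc0_ok : DOK cZSBc0 cZSBe_P 1782 := ⟨cZSBc0_h, cZSBc0_e⟩
theorem cZSBtn1_1 : ∀ i < 1782, (cZSBtn1.ent H16.Suz.P cZSBth_P (rl [nat_lit 0, nat_lit 1, nat_lit 14] F_P) (rl [nat_lit 0, nat_lit 1, nat_lit 14] F_P) cZSBe_P (nat_lit 7) (nat_lit 3) H16.Suz.B cZSBtl0 [cZSBtl1, cZSBtl2, cZSBtl3, cZSBtl4, cZSBtl5, cZSBtl6, cZSBtl7] (memO cZSBc0)) i = 0 := allZ_sound0 cZSBtn1_1_0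
theorem cZSBtn1_t {G Ω : Type*} [Group G] [MulAction G Ω] {g : ℕ → G} {pt : ℕ → Ω}
    (M : Md g pt H16.Suz.P 1782 7 H16.Suz.B 448345497600) : TrO (gen (wds g cZSBth_W) cZSBtl0.K) (rl [0, 1, 14] (wds g F_W)) (rl [0, 1, 14] (wds g F_W)) 3 pt 1782 (cZSBtl0.Pt 0) (memO cZSBc0) :=
  node M (cZSBt_S0 M) (cZSBth_act M) (ZSB_act M) (ZSB_act M) cZSBtn1 ((cZSBe_act M).mono (by decide)) (fun _ _ => trivial) cZSBtn1_0 cZSBtn1_1 (List.forall_mem_nil _)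
theorem cZSB {G Ω : Type*} [Group G] [MulAction G Ω] {g : ℕ → G} {pt : ℕ → Ω}
    (M : Md g pt H16.Suz.P 1782 7 H16.Suz.B 448345497600) : Cen ⊤ (rl [0, 1, 14] (wds g F_W)) 3 (wds g cZSBe_W) pt 1782 [cZSBc0, cZSBc6] :=
  (cZSBt_S0 M).top ▸ Cen.lev M (cZSBt_S0 M) (Cen.triv (cZSBt_S1 M) (Cen.triv (cZSBt_S2 M) (Cen.triv (cZSBt_S3 M) (Cen.triv (cZSBt_S4 M) (Cen.triv (cZSBt_S5 M) (Cen.lev M (cZSBt_S6 M) (Cen.triv (cZSBt_S7 M) (Cen.bot) (forced (cZSBt_S7 M) (cZSBth_act M) (ZSB_act M) _ _ cZSB_f7)) (cZSBtn0_t M) (ZSB_act M) (cZSBe_act M) (fun _ _ => trivial) cZSBc6_ok cZSB_f6) (forced (cZSBt_S5 M) (cZSBth_act M) (ZSB_act M) _ _ cZSB_f5)) (forced (cZSBt_S4 M) (cZSBth_act M) (ZSB_act M) _ _ cZSB_f4)) (forced (cZSBt_S3 M) (cZSBth_act M) (ZSB_act M) _ _ cZSB_f3)) (forced (cZSBt_S2 M) (cZSBth_act M) (ZSB_act M) _ _ cZSB_f2))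 (forced (cZSBt_S1 M) (cZSBth_act M) (ZSB_act M) _ _ cZSB_f1)) (cZSBtn1_t M) (ZSB_act M) (cZSBe_act M) (fun _ _ => trivial) cZSBc0_ok cZSB_f0
theorem cZSB_eq {G Ω : Type*} [Group G] [MulAction G Ω] {g : ℕ → G} {pt : ℕ → Ω}
    (M : Md g pt H16.Suz.P 1782 7 H16.Suz.B 448345497600) : Subgroup.centralizer (gen (rl [0, 1, 14] (wds g F_W)) 3) = gen (wds g cZSBe_W) 2 ∧ Nat.card (gen (wds g cZSBe_W) 2) = 20 :=
  cZSB_c.1 ▸ cZSB_c.2 ▸ ⟨(cZSB M).cent, (cZSB M).card M.inj⟩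
theorem cZSB_le {G Ω : Type*} [Group G] [MulAction G Ω] {g : ℕ → G} {pt : ℕ → Ω}
    (M : Md g pt H16.Suz.P 1782 7 H16.Suz.B 448345497600) : gen (wds g cZSBe_W) 2 ≤ gen (rl [14, 0, 1] (wds g F_W)) 3 :=
  M.gen_le (BZS_act M) (cZSBe_act M) cZSB_le_k
theorem clA_e_0 : ∀ i < 321, (H0.Am.clsEnt (rl [nat_lit 7, nat_lit 8, nat_lit 14, nat_lit 15, nat_lit 3, nat_lit 4, nat_lit 0, nat_lit 1] F_P) (nat_lit 8) H16.Suz.B clA_W (nat_lit 321) clAT (nat_lit 0)) i = 0 := allZ_sound0 clA_e_0_0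
theorem clA_e_1 : ∀ i < 321, (H0.Am.clsEnt (rl [nat_lit 7, nat_lit 8, nat_lit 14, nat_lit 15, nat_lit 3, nat_lit 4, nat_lit 0, nat_lit 1] F_P) (nat_lit 8) H16.Suz.B clA_W (nat_lit 321) clAT (nat_lit 1)) i = 0 := allZ_sound0 clA_e_1_0
theorem clA_e_2 : ∀ i < 321, (H0.Am.clsEnt (rl [nat_lit 7, nat_lit 8, nat_lit 14, nat_lit 15, nat_lit 3, nat_lit 4, nat_lit 0, nat_lit 1] F_P) (nat_lit 8) H16.Suz.B clA_W (nat_lit 321) clAT (nat_lit 2)) i = 0 := allZ_sound0 clA_e_2_0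
theorem clA_e_3 : ∀ i < 321, (H0.Am.clsEnt (rl [nat_lit 7, nat_lit 8, nat_lit 14, nat_lit 15, nat_lit 3, nat_lit 4, nat_lit 0, nat_lit 1] F_P) (nat_lit 8) H16.Suz.B clA_W (nat_lit 321) clAT (nat_lit 3)) i = 0 := allZ_sound0 clA_e_3_0
theorem clA_e_4 : ∀ i < 321, (H0.Am.clsEnt (rl [nat_lit 7, nat_lit 8, nat_lit 14, nat_lit 15, nat_lit 3, nat_lit 4, nat_lit 0, nat_lit 1] F_P) (nat_lit 8) H16.Suz.B clA_W (nat_lit 321) clAT (nat_lit 4)) i = 0 := allZ_sound0 clA_e_4_0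
theorem clA_e_5 : ∀ i < 321, (H0.Am.clsEnt (rl [nat_lit 7, nat_lit 8, nat_lit 14, nat_lit 15, nat_lit 3, nat_lit 4, nat_lit 0, nat_lit 1] F_P) (nat_lit 8) H16.Suz.B clA_W (nat_lit 321) clAT (nat_lit 5)) i = 0 := allZ_sound0 clA_e_5_0
theorem clA_e_6 : ∀ i < 321, (H0.Am.clsEnt (rl [nat_lit 7, nat_lit 8, nat_lit 14, nat_lit 15, nat_lit 3, nat_lit 4, nat_lit 0, nat_lit 1] F_P) (nat_lit 8) H16.Suz.B clA_W (nat_lit 321) clAT (nat_lit 6)) i = 0 := allZ_sound0 clA_e_6_0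
theorem clA_e_7 : ∀ i < 321, (H0.Am.clsEnt (rl [nat_lit 7, nat_lit 8, nat_lit 14, nat_lit 15, nat_lit 3, nat_lit 4, nat_lit 0, nat_lit 1] F_P) (nat_lit 8) H16.Suz.B clA_W (nat_lit 321) clAT (nat_lit 7)) i = 0 := allZ_sound0 clA_e_7_0
theorem clA_e : ∀ k < 8, ∀ i < 321, (H0.Am.clsEnt (rl [nat_lit 7, nat_lit 8, nat_lit 14, nat_lit 15, nat_lit 3, nat_lit 4, nat_lit 0, nat_lit 1] F_P) (nat_lit 8) H16.Suz.B clA_W (nat_lit 321) clAT) k i = 0 :=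
  letters_glue (letters_glue (letters_glue (letters_glue (letters_glue (letters_glue (letters_glue (letters_glue (letters_nil) clA_e_0) clA_e_1) clA_e_2) clA_e_3) clA_e_4) clA_e_5) clA_e_6) clA_e_7
theorem clA {G Ω : Type*} [Group G] [MulAction G Ω] {g : ℕ → G} {pt : ℕ → Ω}
    (M : Md g pt H16.Suz.P 1782 7 H16.Suz.B 448345497600) {a : G} (ha : a ∈ gen (rl [7, 8, 14, 15, 3, 4, 0, 1] (wds g F_W)) 8) : ∀ i < 321, ∃ j < 321, a * wds (rl [7, 8, 14, 15, 3, 4, 0, 1] (wds g F_W)) clA_W i * a⁻¹ = wds (rl [7, 8, 14, 15, 3, 4, 0, 1] (wds g F_W)) clA_W j :=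
  H0.Am.cls_sound M (P0_act M) clA_e ha
theorem tsA : ∀ i < 321, (tstEnt (rl [nat_lit 7, nat_lit 8, nat_lit 14, nat_lit 15, nat_lit 3, nat_lit 4, nat_lit 0, nat_lit 1] F_P) 8 H16.Suz.B clA_W [[],
  [nat_lit 6],
  [nat_lit 7],
  [nat_lit 7, nat_lit 6]] 2 5) i = 0 := range_glue (range_glue (allZ_sound0 tsA_0) tsA_1) tsA_2
theorem ZSAD_act {G Ω : Type*} [Group G] [MulAction G Ω] {g : ℕ → G} {pt : ℕ → Ω}
    (M : Md g pt H16.Suz.P 1782 7 H16.Suz.B 448345497600) : Act (rl [0, 1, 7, 13] (wds g F_W)) pt (rl [nat_lit 0, nat_lit 1, nat_lit 7, nat_lit 13] F_P) 1782 4 :=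
  (F_act M).rl (by decide)
theorem cEth_act {G Ω : Type*} [Group G] [MulAction G Ω] {g : ℕ → G} {pt : ℕ → Ω}
    (M : Md g pt H16.Suz.P 1782 7 H16.Suz.B 448345497600) : Act (wds g cEth_W) pt cEth_P 1782 18 :=
  M.wact cEth_lt
theorem cEtl0_e : ∀ i < 1781, (dent cEtl0 cEth_P (nat_lit 1782)) i = 0 := allZ_sound0 cEtl0_e_0
theorem cEtl0_ok : DOK cEtl0 cEth_P 1782 := ⟨cEtl0_h, cEtl0_e⟩
theorem cEtl1_e : ∀ i < 415, (dent cEtl1 cEth_P (nat_lit 1782)) i = 0 := allZ_sound0 cEtl1_e_0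
theorem cEtl1_ok : DOK cEtl1 cEth_P 1782 := ⟨cEtl1_h, cEtl1_e⟩
theorem cEtl2_e : ∀ i < 99, (dent cEtl2 cEth_P (nat_lit 1782)) i = 0 := allZ_sound0 cEtl2_e_0
theorem cEtl2_ok : DOK cEtl2 cEth_P 1782 := ⟨cEtl2_h, cEtl2_e⟩
theorem cEtl3_e : ∀ i < 62, (dent cEtl3 cEth_P (nat_lit 1782)) i = 0 := allZ_sound0 cEtl3_e_0
theorem cEtl3_ok : DOK cEtl3 cEth_P 1782 := ⟨cEtl3_h, cEtl3_e⟩
theorem cEtl4_e : ∀ i < 11, (dent cEtl4 cEth_P (nat_lit 1782)) i = 0 := allZ_sound0 cEtl4_e_0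
theorem cEtl4_ok : DOK cEtl4 cEth_P 1782 := ⟨cEtl4_h, cEtl4_e⟩
theorem cEtl5_e : ∀ i < 7, (dent cEtl5 cEth_P (nat_lit 1782)) i = 0 := allZ_sound0 cEtl5_e_0
theorem cEtl5_ok : DOK cEtl5 cEth_P 1782 := ⟨cEtl5_h, cEtl5_e⟩
theorem cEt_low {G Ω : Type*} [Group G] [MulAction G Ω] {g : ℕ → G} {pt : ℕ → Ω}
    (M : Md g pt H16.Suz.P 1782 7 H16.Suz.B 448345497600) : SLow (gi (wds g cEth_W)) pt 1782 [cEtl0, cEtl1, cEtl2, cEtl3, cEtl4, cEtl5] :=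
  ((((((SLow.nil).cons cEtl5_ok (cEth_act M) cEt_f5).cons cEtl4_ok (cEth_act M) cEt_f4).cons cEtl3_ok (cEth_act M) cEt_f3).cons cEtl2_ok (cEth_act M) cEt_f2).cons cEtl1_ok (cEth_act M) cEt_f1).cons cEtl0_ok (cEth_act M) cEt_f0
theorem cEt_S0 {G Ω : Type*} [Group G] [MulAction G Ω] {g : ℕ → G} {pt : ℕ → Ω}
    (M : Md g pt H16.Suz.P 1782 7 H16.Suz.B 448345497600) : Stage ⊤ (wds g cEth_W) pt 1782 [cEtl0, cEtl1, cEtl2, cEtl3, cEtl4, cEtl5] [] :=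
  M.stage (cEt_low M) cEt_c
theorem cEt_S1 {G Ω : Type*} [Group G] [MulAction G Ω] {g : ℕ → G} {pt : ℕ → Ω}
    (M : Md g pt H16.Suz.P 1782 7 H16.Suz.B 448345497600) : Stage ⊤ (wds g cEth_W) pt 1782 [cEtl1, cEtl2, cEtl3, cEtl4, cEtl5] [cEtl0.Pt 0] :=
  (cEt_S0 M).next
theorem cEt_S2 {G Ω : Type*} [Group G] [MulAction G Ω] {g : ℕ → G} {pt : ℕ → Ω}
    (M : Md g pt H16.Suz.P 1782 7 H16.Suz.B 448345497600) : Stage ⊤ (wds g cEth_W) pt 1782 [cEtl2, cEtl3, cEtl4, cEtl5] [cEtl1.Pt 0, cEtl0.Pt 0] :=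
  (cEt_S1 M).next
theorem cEt_S3 {G Ω : Type*} [Group G] [MulAction G Ω] {g : ℕ → G} {pt : ℕ → Ω}
    (M : Md g pt H16.Suz.P 1782 7 H16.Suz.B 448345497600) : Stage ⊤ (wds g cEth_W) pt 1782 [cEtl3, cEtl4, cEtl5] [cEtl2.Pt 0, cEtl1.Pt 0, cEtl0.Pt 0] :=
  (cEt_S2 M).next
theorem cEt_S4 {G Ω : Type*} [Group G] [MulAction G Ω] {g : ℕ → G} {pt : ℕ → Ω}
    (M : Md g pt H16.Suz.P 1782 7 H16.Suz.B 448345497600) : Stage ⊤ (wds g cEth_W) pt 1782 [cEtl4, cEtl5] [cEtl3.Pt 0, cEtl2.Pt 0, cEtl1.Pt 0, cEtl0.Pt 0] :=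
  (cEt_S3 M).next
theorem cEt_S5 {G Ω : Type*} [Group G] [MulAction G Ω] {g : ℕ → G} {pt : ℕ → Ω}
    (M : Md g pt H16.Suz.P 1782 7 H16.Suz.B 448345497600) : Stage ⊤ (wds g cEth_W) pt 1782 [cEtl5] [cEtl4.Pt 0, cEtl3.Pt 0, cEtl2.Pt 0, cEtl1.Pt 0, cEtl0.Pt 0] :=
  (cEt_S4 M).next
theorem cEt_S6 {G Ω : Type*} [Group G] [MulAction G Ω] {g : ℕ → G} {pt : ℕ → Ω}
    (M : Md g pt H16.Suz.P 1782 7 H16.Suz.B 448345497600) : Stage ⊤ (wds g cEth_W) pt 1782 [] [cEtl5.Pt 0, cEtl4.Pt 0, cEtl3.Pt 0, cEtl2.Pt 0, cEtl1.Pt 0, cEtl0.Pt 0] :=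
  (cEt_S5 M).next
theorem cEe_act {G Ω : Type*} [Group G] [MulAction G Ω] {g : ℕ → G} {pt : ℕ → Ω}
    (M : Md g pt H16.Suz.P 1782 7 H16.Suz.B 448345497600) : Act (wds g cEe_W) pt cEe_P 1782 4 :=
  M.wact cEe_lt
theorem cEc5_e : ∀ i < 3, (dent cEc5 cEe_P (nat_lit 1782)) i = 0 := allZ_sound0 cEc5_e_0
theorem cEc5_ok : DOK cEc5 cEe_P 1782 := ⟨cEc5_h, cEc5_e⟩
theorem cEtn0_1 : ∀ i < 8, (cEtn0.ent H16.Suz.P cEth_P (rl [nat_lit 0, nat_lit 1, nat_lit 7, nat_lit 13] F_P) (rl [nat_lit 0, nat_lit 1, nat_lit 7, nat_lit 13] F_P) cEe_P (nat_lit 7) (nat_lit 4) H16.Suz.B cEtl5 [] (memO cEc5)) i = 0 := allZ_sound0 cEtn0_1_0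
theorem cEtn0_t {G Ω : Type*} [Group G] [MulAction G Ω] {g : ℕ → G} {pt : ℕ → Ω}
    (M : Md g pt H16.Suz.P 1782 7 H16.Suz.B 448345497600) : TrO (gen (wds g cEth_W) cEtl5.K) (rl [0, 1, 7, 13] (wds g F_W)) (rl [0, 1, 7, 13] (wds g F_W)) 4 pt 1782 (cEtl5.Pt 0) (memO cEc5) :=
  node M (cEt_S5 M) (cEth_act M) (ZSAD_act M) (ZSAD_act M) cEtn0 ((cEe_act M).mono (by decide)) (fun _ _ => trivial) cEtn0_0 cEtn0_1 (List.forall_mem_nil _)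
theorem cEc0_e : ∀ i < 3, (dent cEc0 cEe_P (nat_lit 1782)) i = 0 := allZ_sound0 cEc0_e_0
theorem cEc0_ok : DOK cEc0 cEe_P 1782 := ⟨cEc0_h, cEc0_e⟩
theorem cEtn1_1 : ∀ i < 1782, (cEtn1.ent H16.Suz.P cEth_P (rl [nat_lit 0, nat_lit 1, nat_lit 7, nat_lit 13] F_P) (rl [nat_lit 0, nat_lit 1, nat_lit 7, nat_lit 13] F_P) cEe_P (nat_lit 7) (nat_lit 4) H16.Suz.B cEtl0 [cEtl1, cEtl2, cEtl3, cEtl4, cEtl5] (memO cEc0)) i = 0 := allZ_sound0 cEtn1_1_0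
theorem cEtn1_t {G Ω : Type*} [Group G] [MulAction G Ω] {g : ℕ → G} {pt : ℕ → Ω}
    (M : Md g pt H16.Suz.P 1782 7 H16.Suz.B 448345497600) : TrO (gen (wds g cEth_W) cEtl0.K) (rl [0, 1, 7, 13] (wds g F_W)) (rl [0, 1, 7, 13] (wds g F_W)) 4 pt 1782 (cEtl0.Pt 0) (memO cEc0) :=
  node M (cEt_S0 M) (cEth_act M) (ZSAD_act M) (ZSAD_act M) cEtn1 ((cEe_act M).mono (by decide)) (fun _ _ => trivial) cEtn1_0 cEtn1_1 (List.forall_mem_nil _)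
theorem cE {G Ω : Type*} [Group G] [MulAction G Ω] {g : ℕ → G} {pt : ℕ → Ω}
    (M : Md g pt H16.Suz.P 1782 7 H16.Suz.B 448345497600) : Cen ⊤ (rl [0, 1, 7, 13] (wds g F_W)) 4 (wds g cEe_W) pt 1782 [cEc0, cEc5] :=
  (cEt_S0 M).top ▸ Cen.lev M (cEt_S0 M) (Cen.triv (cEt_S1 M) (Cen.triv (cEt_S2 M) (Cen.triv (cEt_S3 M) (Cen.triv (cEt_S4 M) (Cen.lev M (cEt_S5 M) (Cen.bot) (cEtn0_t M) (ZSAD_act M) (cEe_act M) (fun _ _ => trivial) cEc5_ok cE_f5) (forced (cEt_S4 M) (cEth_act M) (ZSAD_act M) _ _ cE_f4)) (forced (cEt_S3 M) (cEth_act M) (ZSAD_act M) _ _ cE_f3)) (forced (cEt_S2 M) (cEth_act M) (ZSAD_act M) _ _ cE_f2)) (forced (cEt_S1 M) (cEth_act M) (ZSAD_act M) _ _ cE_f1)) (cEtn1_t M) (ZSAD_act M) (cEe_act M) (fun _ _ => trivial) cEc0_ok cE_f0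
theorem cE_eq {G Ω : Type*} [Group G] [MulAction G Ω] {g : ℕ → G} {pt : ℕ → Ω}
    (M : Md g pt H16.Suz.P 1782 7 H16.Suz.B 448345497600) : Subgroup.centralizer (gen (rl [0, 1, 7, 13] (wds g F_W)) 4) = gen (wds g cEe_W) 4 ∧ Nat.card (gen (wds g cEe_W) 4) = 16 :=
  cE_c.1 ▸ cE_c.2 ▸ ⟨(cE M).cent, (cE M).card M.inj⟩
theorem cE_le {G Ω : Type*} [Group G] [MulAction G Ω] {g : ℕ → G} {pt : ℕ → Ω}
    (M : Md g pt H16.Suz.P 1782 7 H16.Suz.B 448345497600) : gen (wds g cEe_W) 4 ≤ gen (rl [0, 1, 3, 4] (wds g F_W)) 4 :=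
  M.gen_le (E_act M) (cEe_act M) cE_le_k
theorem EX {G Ω : Type*} [Group G] [MulAction G Ω] {g : ℕ → G} {pt : ℕ → Ω}
    (M : Md g pt H16.Suz.P 1782 7 H16.Suz.B 448345497600) : gen (rl [0, 1, 3, 4] (wds g F_W)) 4 ≤ Subgroup.centralizer (gen (rl [0, 1, 7, 13] (wds g F_W)) 4 : Set G) :=
  H0.Fi.comm_all M (ZSAD_act M) (E_act M) EX_k
theorem EE {G Ω : Type*} [Group G] [MulAction G Ω] {g : ℕ → G} {pt : ℕ → Ω}
    (M : Md g pt H16.Suz.P 1782 7 H16.Suz.B 448345497600) : gen (rl [0, 1, 3, 4] (wds g F_W)) 4 ≤ Subgroup.centralizer (gen (rl [0, 1, 3, 4] (wds g F_W)) 4 : Set G) :=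
  H0.Fi.comm_all M (E_act M) (E_act M) EE_k
theorem pcEl0_e : ∀ i < 15, (dent pcEl0 (wdsP (rl [nat_lit 0, nat_lit 1, nat_lit 3, nat_lit 4] F_P) pcEe) (nat_lit 1782)) i = 0 := allZ_sound0 pcEl0_e_0
theorem pcEl0_ok : DOK pcEl0 (wdsP (rl [nat_lit 0, nat_lit 1, nat_lit 3, nat_lit 4] F_P) pcEe) 1782 := ⟨pcEl0_h, pcEl0_e⟩
theorem pcE_low {G Ω : Type*} [Group G] [MulAction G Ω] {g : ℕ → G} {pt : ℕ → Ω}
    (M : Md g pt H16.Suz.P 1782 7 H16.Suz.B 448345497600) : SLow (gi (wds (rl [0, 1, 3, 4] (wds g F_W)) pcEe)) pt 1782 [pcEl0] :=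
  (SLow.nil).cons pcEl0_ok (((E_act M).mono (by decide : 4 ≤ 4)).wds pcE_e 7) pcE_f0
theorem pcE {G Ω : Type*} [Group G] [MulAction G Ω] {g : ℕ → G} {pt : ℕ → Ω}
    (M : Md g pt H16.Suz.P 1782 7 H16.Suz.B 448345497600) : PC0 (rl [0, 1, 3, 4] (wds g F_W)) 4 2 ∧ Nat.card (gen (rl [0, 1, 3, 4] (wds g F_W)) 4) = 2 ^ 4 :=
  have := M.fin
  have h := (M.sm.of_act ((E_act M).mono (by decide : 4 ≤ 4))).pc0 (by decide) pcE_p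
  ⟨h, le_antisymm (h.card_le' le_rfl) (pcE_c ▸ ((pcE_low M).card_ge M.inj).trans (Subgroup.card_le_of_le
    (by rw [gen_gi]; exact gen_le.2 fun k _ => evA_mem_gen _ (nth_lt pcE_e k))))⟩
theorem NE_act {G Ω : Type*} [Group G] [MulAction G Ω] {g : ℕ → G} {pt : ℕ → Ω}
    (M : Md g pt H16.Suz.P 1782 7 H16.Suz.B 448345497600) : Act (rl [9, 6, 2, 5, 7, 8] (wds g F_W)) pt (rl [nat_lit 9, nat_lit 6, nat_lit 2, nat_lit 5, nat_lit 7, nat_lit 8] F_P) 1782 6 :=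
  (F_act M).rl (by decide)
theorem nE {G Ω : Type*} [Group G] [MulAction G Ω] {g : ℕ → G} {pt : ℕ → Ω}
    (M : Md g pt H16.Suz.P 1782 7 H16.Suz.B 448345497600) : gen (rl [9, 6, 2, 5, 7, 8] (wds g F_W)) 6 ≤ Subgroup.normalizer (gen (rl [0, 1, 3, 4] (wds g F_W)) 4 : Set G) :=
  H0.Fi.norm_all M (E_act M) (NE_act M) nE_k
theorem ZAB_act {G Ω : Type*} [Group G] [MulAction G Ω] {g : ℕ → G} {pt : ℕ → Ω}
    (M : Md g pt H16.Suz.P 1782 7 H16.Suz.B 448345497600) : Act (rl [0, 7, 14] (wds g F_W)) pt (rl [nat_lit 0, nat_lit 7, nat_lit 14] F_P) 1782 3 :=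
  (F_act M).rl (by decide)
theorem ST_act {G Ω : Type*} [Group G] [MulAction G Ω] {g : ℕ → G} {pt : ℕ → Ω}
    (M : Md g pt H16.Suz.P 1782 7 H16.Suz.B 448345497600) : Act (rl [1, 2] (wds g F_W)) pt (rl [nat_lit 1, nat_lit 2] F_P) 1782 2 :=
  (F_act M).rl (by decide)
theorem cKth_act {G Ω : Type*} [Group G] [MulAction G Ω] {g : ℕ → G} {pt : ℕ → Ω}
    (M : Md g pt H16.Suz.P 1782 7 H16.Suz.B 448345497600) : Act (wds g cKth_W) pt cKth_P 1782 18 :=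
  M.wact cKth_lt
theorem cKtl0_e : ∀ i < 1781, (dent cKtl0 cKth_P (nat_lit 1782)) i = 0 := allZ_sound0 cKtl0_e_0
theorem cKtl0_ok : DOK cKtl0 cKth_P 1782 := ⟨cKtl0_h, cKtl0_e⟩
theorem cKtl1_e : ∀ i < 415, (dent cKtl1 cKth_P (nat_lit 1782)) i = 0 := allZ_sound0 cKtl1_e_0
theorem cKtl1_ok : DOK cKtl1 cKth_P 1782 := ⟨cKtl1_h, cKtl1_e⟩
theorem cKtl2_e : ∀ i < 99, (dent cKtl2 cKth_P (nat_lit 1782)) i = 0 := allZ_sound0 cKtl2_e_0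
theorem cKtl2_ok : DOK cKtl2 cKth_P 1782 := ⟨cKtl2_h, cKtl2_e⟩
theorem cKtl3_e : ∀ i < 62, (dent cKtl3 cKth_P (nat_lit 1782)) i = 0 := allZ_sound0 cKtl3_e_0
theorem cKtl3_ok : DOK cKtl3 cKth_P 1782 := ⟨cKtl3_h, cKtl3_e⟩
theorem cKtl4_e : ∀ i < 23, (dent cKtl4 cKth_P (nat_lit 1782)) i = 0 := allZ_sound0 cKtl4_e_0
theorem cKtl4_ok : DOK cKtl4 cKth_P 1782 := ⟨cKtl4_h, cKtl4_e⟩
theorem cKtl5_e : ∀ i < 3, (dent cKtl5 cKth_P (nat_lit 1782)) i = 0 := allZ_sound0 cKtl5_e_0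
theorem cKtl5_ok : DOK cKtl5 cKth_P 1782 := ⟨cKtl5_h, cKtl5_e⟩
theorem cKt_low {G Ω : Type*} [Group G] [MulAction G Ω] {g : ℕ → G} {pt : ℕ → Ω}
    (M : Md g pt H16.Suz.P 1782 7 H16.Suz.B 448345497600) : SLow (gi (wds g cKth_W)) pt 1782 [cKtl0, cKtl1, cKtl2, cKtl3, cKtl4, cKtl5] :=
  ((((((SLow.nil).cons cKtl5_ok (cKth_act M) cKt_f5).cons cKtl4_ok (cKth_act M) cKt_f4).cons cKtl3_ok (cKth_act M) cKt_f3).cons cKtl2_ok (cKth_act M) cKt_f2).cons cKtl1_ok (cKth_act M) cKt_f1).cons cKtl0_ok (cKth_act M) cKt_f0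
theorem cKt_S0 {G Ω : Type*} [Group G] [MulAction G Ω] {g : ℕ → G} {pt : ℕ → Ω}
    (M : Md g pt H16.Suz.P 1782 7 H16.Suz.B 448345497600) : Stage ⊤ (wds g cKth_W) pt 1782 [cKtl0, cKtl1, cKtl2, cKtl3, cKtl4, cKtl5] [] :=
  M.stage (cKt_low M) cKt_c
theorem cKt_S1 {G Ω : Type*} [Group G] [MulAction G Ω] {g : ℕ → G} {pt : ℕ → Ω}
    (M : Md g pt H16.Suz.P 1782 7 H16.Suz.B 448345497600) : Stage ⊤ (wds g cKth_W) pt 1782 [cKtl1, cKtl2, cKtl3, cKtl4, cKtl5] [cKtl0.Pt 0] :=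
  (cKt_S0 M).next
theorem cKt_S2 {G Ω : Type*} [Group G] [MulAction G Ω] {g : ℕ → G} {pt : ℕ → Ω}
    (M : Md g pt H16.Suz.P 1782 7 H16.Suz.B 448345497600) : Stage ⊤ (wds g cKth_W) pt 1782 [cKtl2, cKtl3, cKtl4, cKtl5] [cKtl1.Pt 0, cKtl0.Pt 0] :=
  (cKt_S1 M).next
theorem cKt_S3 {G Ω : Type*} [Group G] [MulAction G Ω] {g : ℕ → G} {pt : ℕ → Ω}
    (M : Md g pt H16.Suz.P 1782 7 H16.Suz.B 448345497600) : Stage ⊤ (wds g cKth_W) pt 1782 [cKtl3, cKtl4, cKtl5] [cKtl2.Pt 0, cKtl1.Pt 0, cKtl0.Pt 0] :=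
  (cKt_S2 M).next
theorem cKt_S4 {G Ω : Type*} [Group G] [MulAction G Ω] {g : ℕ → G} {pt : ℕ → Ω}
    (M : Md g pt H16.Suz.P 1782 7 H16.Suz.B 448345497600) : Stage ⊤ (wds g cKth_W) pt 1782 [cKtl4, cKtl5] [cKtl3.Pt 0, cKtl2.Pt 0, cKtl1.Pt 0, cKtl0.Pt 0] :=
  (cKt_S3 M).next
theorem cKt_S5 {G Ω : Type*} [Group G] [MulAction G Ω] {g : ℕ → G} {pt : ℕ → Ω}
    (M : Md g pt H16.Suz.P 1782 7 H16.Suz.B 448345497600) : Stage ⊤ (wds g cKth_W) pt 1782 [cKtl5] [cKtl4.Pt 0, cKtl3.Pt 0, cKtl2.Pt 0, cKtl1.Pt 0, cKtl0.Pt 0] :=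
  (cKt_S4 M).next
theorem cKt_S6 {G Ω : Type*} [Group G] [MulAction G Ω] {g : ℕ → G} {pt : ℕ → Ω}
    (M : Md g pt H16.Suz.P 1782 7 H16.Suz.B 448345497600) : Stage ⊤ (wds g cKth_W) pt 1782 [] [cKtl5.Pt 0, cKtl4.Pt 0, cKtl3.Pt 0, cKtl2.Pt 0, cKtl1.Pt 0, cKtl0.Pt 0] :=
  (cKt_S5 M).next
theorem cKe_act {G Ω : Type*} [Group G] [MulAction G Ω] {g : ℕ → G} {pt : ℕ → Ω}
    (M : Md g pt H16.Suz.P 1782 7 H16.Suz.B 448345497600) : Act (wds g cKe_W) pt cKe_P 1782 2 :=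
  M.wact cKe_lt
theorem cKc5_e : ∀ i < 3, (dent cKc5 cKe_P (nat_lit 1782)) i = 0 := allZ_sound0 cKc5_e_0
theorem cKc5_ok : DOK cKc5 cKe_P 1782 := ⟨cKc5_h, cKc5_e⟩
theorem cKtn0_1 : ∀ i < 4, (cKtn0.ent H16.Suz.P cKth_P (rl [nat_lit 0, nat_lit 7, nat_lit 14] F_P) (rl [nat_lit 0, nat_lit 7, nat_lit 14] F_P) cKe_P (nat_lit 7) (nat_lit 3) H16.Suz.B cKtl5 [] (memO cKc5)) i = 0 := allZ_sound0 cKtn0_1_0
theorem cKtn0_t {G Ω : Type*} [Group G] [MulAction G Ω] {g : ℕ → G} {pt : ℕ → Ω}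
    (M : Md g pt H16.Suz.P 1782 7 H16.Suz.B 448345497600) : TrO (gen (wds g cKth_W) cKtl5.K) (rl [0, 7, 14] (wds g F_W)) (rl [0, 7, 14] (wds g F_W)) 3 pt 1782 (cKtl5.Pt 0) (memO cKc5) :=
  node M (cKt_S5 M) (cKth_act M) (ZAB_act M) (ZAB_act M) cKtn0 ((cKe_act M).mono (by decide)) (fun _ _ => trivial) cKtn0_0 cKtn0_1 (List.forall_mem_nil _)
theorem cKc0_e : ∀ i < 1, (dent cKc0 cKe_P (nat_lit 1782)) i = 0 := allZ_sound0 cKc0_e_0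
theorem cKc0_ok : DOK cKc0 cKe_P 1782 := ⟨cKc0_h, cKc0_e⟩
theorem cKtn1_1 : ∀ i < 1782, (cKtn1.ent H16.Suz.P cKth_P (rl [nat_lit 0, nat_lit 7, nat_lit 14] F_P) (rl [nat_lit 0, nat_lit 7, nat_lit 14] F_P) cKe_P (nat_lit 7) (nat_lit 3) H16.Suz.B cKtl0 [cKtl1, cKtl2, cKtl3, cKtl4, cKtl5] (memO cKc0)) i = 0 := allZ_sound0 cKtn1_1_0
theorem cKtn1_t {G Ω : Type*} [Group G] [MulAction G Ω] {g : ℕ → G} {pt : ℕ → Ω}
    (M : Md g pt H16.Suz.P 1782 7 H16.Suz.B 448345497600) : TrO (gen (wds g cKth_W) cKtl0.K) (rl [0, 7, 14] (wds g F_W)) (rl [0, 7, 14] (wds g F_W)) 3 pt 1782 (cKtl0.Pt 0) (memO cKc0) :=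
  node M (cKt_S0 M) (cKth_act M) (ZAB_act M) (ZAB_act M) cKtn1 ((cKe_act M).mono (by decide)) (fun _ _ => trivial) cKtn1_0 cKtn1_1 (List.forall_mem_nil _)
theorem cK {G Ω : Type*} [Group G] [MulAction G Ω] {g : ℕ → G} {pt : ℕ → Ω}
    (M : Md g pt H16.Suz.P 1782 7 H16.Suz.B 448345497600) : Cen ⊤ (rl [0, 7, 14] (wds g F_W)) 3 (wds g cKe_W) pt 1782 [cKc0, cKc5] :=
  (cKt_S0 M).top ▸ Cen.lev M (cKt_S0 M) (Cen.triv (cKt_S1 M) (Cen.triv (cKt_S2 M) (Cen.triv (cKt_S3 M) (Cen.triv (cKt_S4 M) (Cen.lev M (cKt_S5 M) (Cen.bot) (cKtn0_t M) (ZAB_act M) (cKe_act M) (fun _ _ => trivial) cKc5_ok cK_f5) (forced (cKt_S4 M) (cKth_act M) (ZAB_act M) _ _ cK_f4)) (forced (cKt_S3 M) (cKth_act M) (ZAB_act M) _ _ cK_f3)) (forced (cKt_S2 M) (cKth_act M) (ZAB_act M) _ _ cK_f2)) (forced (cKt_S1 M) (cKth_act M) (ZAB_act M) _ _ cK_f1)) (cKtn1_t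 M) (ZAB_act M) (cKe_act M) (fun _ _ => trivial) cKc0_ok cK_f0
theorem cK_eq {G Ω : Type*} [Group G] [MulAction G Ω] {g : ℕ → G} {pt : ℕ → Ω}
    (M : Md g pt H16.Suz.P 1782 7 H16.Suz.B 448345497600) : Subgroup.centralizer (gen (rl [0, 7, 14] (wds g F_W)) 3) = gen (wds g cKe_W) 2 ∧ Nat.card (gen (wds g cKe_W) 2) = 8 :=
  cK_c.1 ▸ cK_c.2 ▸ ⟨(cK M).cent, (cK M).card M.inj⟩
theorem cK_le {G Ω : Type*} [Group G] [MulAction G Ω] {g : ℕ → G} {pt : ℕ → Ω}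
    (M : Md g pt H16.Suz.P 1782 7 H16.Suz.B 448345497600) : gen (wds g cKe_W) 2 ≤ gen (rl [1, 2] (wds g F_W)) 2 :=
  M.gen_le (ST_act M) (cKe_act M) cK_le_k
theorem rA {G Ω : Type*} [Group G] [MulAction G Ω] {g : ℕ → G} {pt : ℕ → Ω}
    (M : Md g pt H16.Suz.P 1782 7 H16.Suz.B 448345497600) : Rels (wds g F_W) RA :=
  rels_of_base (F_act M) M.ltB (M.base.mono le_top) rA_k
theorem rX {G Ω : Type*} [Group G] [MulAction G Ω] {g : ℕ → G} {pt : ℕ → Ω}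
    (M : Md g pt H16.Suz.P 1782 7 H16.Suz.B 448345497600) : Rels (wds g F_W) (XT.map (rxW 9)) :=
  rels_of_base (F_act M) M.ltB (M.base.mono le_top) rX_k
theorem r2 {G Ω : Type*} [Group G] [MulAction G Ω] {g : ℕ → G} {pt : ℕ → Ω}
    (M : Md g pt H16.Suz.P 1782 7 H16.Suz.B 448345497600) : Rels (wds g F_W) R2 :=
  rels_of_base (F_act M) M.ltB (M.base.mono le_top) r2_k
theorem rC {G Ω : Type*} [Group G] [MulAction G Ω] {g : ℕ → G} {pt : ℕ → Ω}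
    (M : Md g pt H16.Suz.P 1782 7 H16.Suz.B 448345497600) : Rels (wds g F_W) RC :=
  rels_of_base (F_act M) M.ltB (M.base.mono le_top) rC_k
theorem rD {G Ω : Type*} [Group G] [MulAction G Ω] {g : ℕ → G} {pt : ℕ → Ω}
    (M : Md g pt H16.Suz.P 1782 7 H16.Suz.B 448345497600) : Rels (wds g F_W) RD :=
  rels_of_base (F_act M) M.ltB (M.base.mono le_top) rD_k
theorem rP {G Ω : Type*} [Group G] [MulAction G Ω] {g : ℕ → G} {pt : ℕ → Ω}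
    (M : Md g pt H16.Suz.P 1782 7 H16.Suz.B 448345497600) : Rels (wds g F_W) (H16.PSuz.Rl.map (H0.PM.flat Wp)) :=
  rels_of_base (F_act M) M.ltB (M.base.mono le_top) rP_k
theorem low10e_act {G Ω : Type*} [Group G] [MulAction G Ω] {g : ℕ → G} {pt : ℕ → Ω}
    (M : Md g pt H16.Suz.P 1782 7 H16.Suz.B 448345497600) : Act (wds (wds g F_W) low10e_W) pt low10e_P 1782 6 :=
  ((F_act M).mono (by decide : 10 ≤ 21)).wds low10e_lt _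
theorem low10l0_e : ∀ i < 179, (dent low10l0 low10e_P (nat_lit 1782)) i = 0 := allZ_sound0 low10l0_e_0
theorem low10l0_ok : DOK low10l0 low10e_P 1782 := ⟨low10l0_h, low10l0_e⟩
theorem low10l1_e : ∀ i < 95, (dent low10l1 low10e_P (nat_lit 1782)) i = 0 := allZ_sound0 low10l1_e_0
theorem low10l1_ok : DOK low10l1 low10e_P 1782 := ⟨low10l1_h, low10l1_e⟩
theorem low10_low {G Ω : Type*} [Group G] [MulAction G Ω] {g : ℕ → G} {pt : ℕ → Ω}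
    (M : Md g pt H16.Suz.P 1782 7 H16.Suz.B 448345497600) : SLow (gi (wds (wds g F_W) low10e_W)) pt 1782 [low10l0, low10l1] :=
  ((SLow.nil).cons low10l1_ok (low10e_act M) low10_f1).cons low10l0_ok (low10e_act M) low10_f0
theorem low10 {G Ω : Type*} [Group G] [MulAction G Ω] {g : ℕ → G} {pt : ℕ → Ω}
    (M : Md g pt H16.Suz.P 1782 7 H16.Suz.B 448345497600) : 17280 ≤ Nat.card (gen (wds g F_W) 10) :=
  have := M.fin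
  low10_c ▸ ((low10_low M).card_ge M.inj).trans (Subgroup.card_le_of_le
    (by rw [gen_gi]; exact gen_wds_le low10e_lt _))
theorem low13e_act {G Ω : Type*} [Group G] [MulAction G Ω] {g : ℕ → G} {pt : ℕ → Ω}
    (M : Md g pt H16.Suz.P 1782 7 H16.Suz.B 448345497600) : Act (wds (wds g F_W) low13e_W) pt low13e_P 1782 6 :=
  ((F_act M).mono (by decide : 13 ≤ 21)).wds low13e_lt _
theorem low13l0_e : ∀ i < 161, (dent low13l0 low13e_P (nat_lit 1782)) i = 0 := allZ_sound0 low13l0_e_0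
theorem low13l0_ok : DOK low13l0 low13e_P 1782 := ⟨low13l0_h, low13l0_e⟩
theorem low13l1_e : ∀ i < 104, (dent low13l1 low13e_P (nat_lit 1782)) i = 0 := allZ_sound0 low13l1_e_0
theorem low13l1_ok : DOK low13l1 low13e_P 1782 := ⟨low13l1_h, low13l1_e⟩
theorem low13l2_e : ∀ i < 191, (dent low13l2 low13e_P (nat_lit 1782)) i = 0 := allZ_sound0 low13l2_e_0
theorem low13l2_ok : DOK low13l2 low13e_P 1782 := ⟨low13l2_h, low13l2_e⟩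
theorem low13l3_e : ∀ i < 5, (dent low13l3 low13e_P (nat_lit 1782)) i = 0 := allZ_sound0 low13l3_e_0
theorem low13l3_ok : DOK low13l3 low13e_P 1782 := ⟨low13l3_h, low13l3_e⟩
theorem low13_low {G Ω : Type*} [Group G] [MulAction G Ω] {g : ℕ → G} {pt : ℕ → Ω}
    (M : Md g pt H16.Suz.P 1782 7 H16.Suz.B 448345497600) : SLow (gi (wds (wds g F_W) low13e_W)) pt 1782 [low13l0, low13l1, low13l2, low13l3] :=
  ((((SLow.nil).cons low13l3_ok (low13e_act M) low13_f3).cons low13l2_ok (low13e_act M) low13_f2).cons low13l1_ok (low13e_act M) low13_f1).cons low13l0_ok (low13e_act M) low13_f0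
theorem low13 {G Ω : Type*} [Group G] [MulAction G Ω] {g : ℕ → G} {pt : ℕ → Ω}
    (M : Md g pt H16.Suz.P 1782 7 H16.Suz.B 448345497600) : 19595520 ≤ Nat.card (gen (wds g F_W) 13) :=
  have := M.fin
  low13_c ▸ ((low13_low M).card_ge M.inj).trans (Subgroup.card_le_of_le
    (by rw [gen_gi]; exact gen_wds_le low13e_lt _))
theorem OH {G Ω : Type*} [Group G] [MulAction G Ω] {g : ℕ → G} {pt : ℕ → Ω}
    (M : Md g pt H16.Suz.P 1782 7 H16.Suz.B 448345497600) : gen (rl [7, 8, 14, 15, 16, 17] (wds g F_W)) 6 ≤ gen (rl [0, 1, 2, 3, 4, 5, 6, 7, 8, 10, 11, 12, 13] (wds g F_W)) 13 :=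
  M.gen_le (HH_act M) (O_act M) OH_k
theorem syt_act {G Ω : Type*} [Group G] [MulAction G Ω] {g : ℕ → G} {pt : ℕ → Ω}
    (M : Md g pt H16.Suz.P 1782 7 H16.Suz.B 448345497600) : Act (wds g syt_W) pt syt_P 1782 13 :=
  M.wact syt_lt
theorem sy_r_0 : ∀ i < 1536, (resEnt syt_P syP syE syI (nat_lit 1782) (nat_lit 1536) (nat_lit 0)) i = 0 := allZ_sound0 sy_r_0_0
theorem sy_r_1 : ∀ i < 1536, (resEnt syt_P syP syE syI (nat_lit 1782) (nat_lit 1536) (nat_lit 1)) i = 0 := allZ_sound0 sy_r_1_0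
theorem sy_r_2 : ∀ i < 1536, (resEnt syt_P syP syE syI (nat_lit 1782) (nat_lit 1536) (nat_lit 2)) i = 0 := allZ_sound0 sy_r_2_0
theorem sy_r_3 : ∀ i < 1536, (resEnt syt_P syP syE syI (nat_lit 1782) (nat_lit 1536) (nat_lit 3)) i = 0 := allZ_sound0 sy_r_3_0
theorem sy_r_4 : ∀ i < 1536, (resEnt syt_P syP syE syI (nat_lit 1782) (nat_lit 1536) (nat_lit 4)) i = 0 := allZ_sound0 sy_r_4_0
theorem sy_r_5 : ∀ i < 1536, (resEnt syt_P syP syE syI (nat_lit 1782) (nat_lit 1536) (nat_lit 5)) i = 0 := allZ_sound0 sy_r_5_0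
theorem sy_r_6 : ∀ i < 1536, (resEnt syt_P syP syE syI (nat_lit 1782) (nat_lit 1536) (nat_lit 6)) i = 0 := allZ_sound0 sy_r_6_0
theorem sy_r_7 : ∀ i < 1536, (resEnt syt_P syP syE syI (nat_lit 1782) (nat_lit 1536) (nat_lit 7)) i = 0 := allZ_sound0 sy_r_7_0
theorem sy_r_8 : ∀ i < 1536, (resEnt syt_P syP syE syI (nat_lit 1782) (nat_lit 1536) (nat_lit 8)) i = 0 := allZ_sound0 sy_r_8_0
theorem sy_r_9 : ∀ i < 1536, (resEnt syt_P syP syE syI (nat_lit 1782) (nat_lit 1536) (nat_lit 9)) i = 0 := allZ_sound0 sy_r_9_0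
theorem sy_r_10 : ∀ i < 1536, (resEnt syt_P syP syE syI (nat_lit 1782) (nat_lit 1536) (nat_lit 10)) i = 0 := allZ_sound0 sy_r_10_0
theorem sy_r_11 : ∀ i < 1536, (resEnt syt_P syP syE syI (nat_lit 1782) (nat_lit 1536) (nat_lit 11)) i = 0 := allZ_sound0 sy_r_11_0
theorem sy_r_12 : ∀ i < 1536, (resEnt syt_P syP syE syI (nat_lit 1782) (nat_lit 1536) (nat_lit 12)) i = 0 := allZ_sound0 sy_r_12_0
theorem sy_r : ∀ k < 13, ∀ i < 1536, (resEnt syt_P syP syE syI (nat_lit 1782) (nat_lit 1536)) k i = 0 :=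
  letters_glue (letters_glue (letters_glue (letters_glue (letters_glue (letters_glue (letters_glue (letters_glue (letters_glue (letters_glue (letters_glue (letters_glue (letters_glue (letters_nil) sy_r_0) sy_r_1) sy_r_2) sy_r_3) sy_r_4) sy_r_5) sy_r_6) sy_r_7) sy_r_8) sy_r_9) sy_r_10) sy_r_11) sy_r_12
theorem sy_sm {G Ω : Type*} [Group G] [MulAction G Ω] {g : ℕ → G} {pt : ℕ → Ω}
    (M : Md g pt H16.Suz.P 1782 7 H16.Suz.B 448345497600) : Sm (wds g syt_W) (fun i => pt (syE i)) syP 1536 13 syB ∧ ∀ i < 1536, syE i < 1782 :=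
  M.res (syt_act M) (by decide) sy_r sy_b
theorem syl0_e : ∀ i < 511, (dent syl0 (wdsP syP sye) (nat_lit 1536)) i = 0 := allZ_sound0 syl0_e_0
theorem syl0_ok : DOK syl0 (wdsP syP sye) 1536 := ⟨syl0_h, syl0_e⟩
theorem syl1_e : ∀ i < 7, (dent syl1 (wdsP syP sye) (nat_lit 1536)) i = 0 := allZ_sound0 syl1_e_0
theorem syl1_ok : DOK syl1 (wdsP syP sye) 1536 := ⟨syl1_h, syl1_e⟩
theorem syl2_e : ∀ i < 1, (dent syl2 (wdsP syP sye) (nat_lit 1536)) i = 0 := allZ_sound0 syl2_e_0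
theorem syl2_ok : DOK syl2 (wdsP syP sye) 1536 := ⟨syl2_h, syl2_e⟩
theorem sy_low {G Ω : Type*} [Group G] [MulAction G Ω] {g : ℕ → G} {pt : ℕ → Ω}
    (M : Md g pt H16.Suz.P 1782 7 H16.Suz.B 448345497600) : SLow (gi (wds (wds g syt_W) sye)) (fun i => pt (syE i)) 1536 [syl0, syl1, syl2] :=
  (((SLow.nil).cons syl2_ok ((sy_sm M).1.act.wds sy_e 201) sy_f2).cons syl1_ok ((sy_sm M).1.act.wds sy_e 201) sy_f1).cons syl0_ok ((sy_sm M).1.act.wds sy_e 201) sy_f0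
theorem sy_pc {G Ω : Type*} [Group G] [MulAction G Ω] {g : ℕ → G} {pt : ℕ → Ω}
    (M : Md g pt H16.Suz.P 1782 7 H16.Suz.B 448345497600) : PC (wds g syt_W) 13 2 :=
  have := M.fin
  ((sy_sm M).1.pc0 (by decide) sy_p).pc (sy_low M) (sy_sm M).1.inj
    (fun k => evA_mem_gen _ (nth_lt sy_e k)) M.card ⟨by decide, sy_c⟩
theorem invr_act {G Ω : Type*} [Group G] [MulAction G Ω] {g : ℕ → G} {pt : ℕ → Ω}
    (M : Md g pt H16.Suz.P 1782 7 H16.Suz.B 448345497600) : Act (wds g invr_W) pt invr_P 1782 2 :=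
  M.wact invr_lt
theorem inv_0 {G Ω : Type*} [Group G] [MulAction G Ω] {g : ℕ → G} {pt : ℕ → Ω}
    (M : Md g pt H16.Suz.P 1782 7 H16.Suz.B 448345497600) : Cov (wds g syt_W) (wds g invr_W) 2 2 13 (evA (wds g syt_W) []) :=
  have := M.fin
  invT0.cov M (sy_sm M).1 (sy_sm M).2 (invr_act M) (sy_pc M) _ _ inv_c0
theorem inv {G Ω : Type*} [Group G] [MulAction G Ω] {g : ℕ → G} {pt : ℕ → Ω}
    (M : Md g pt H16.Suz.P 1782 7 H16.Suz.B 448345497600) {y : G} {e : ℕ} (hy : y ^ 2 ^ e = 1) (hq : y ^ 2 = 1) : Good (wds g invr_W) 2 y :=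
  have := M.fin
  Cov.all (sy_pc M) (inv_0 M) hy hq
theorem w7_act {G Ω : Type*} [Group G] [MulAction G Ω] {g : ℕ → G} {pt : ℕ → Ω}
    (M : Md g pt H16.Suz.P 1782 7 H16.Suz.B 448345497600) : Act (wds g w7_W) pt w7_P 1782 1 :=
  M.wact w7_lt
theorem w7a {G Ω : Type*} [Group G] [MulAction G Ω] {g : ℕ → G} {pt : ℕ → Ω}
    (M : Md g pt H16.Suz.P 1782 7 H16.Suz.B 448345497600) : (wds g w7_W) 0 ^ 7 = 1 :=
  M.pw (w7_act M) w7a_k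
theorem w7b {G Ω : Type*} [Group G] [MulAction G Ω] {g : ℕ → G} {pt : ℕ → Ω}
    (M : Md g pt H16.Suz.P 1782 7 H16.Suz.B 448345497600) : (wds g w7_W) 0 ^ 1 ≠ 1 :=
  M.npw (w7_act M) _ w7b_k
theorem DD_act {G Ω : Type*} [Group G] [MulAction G Ω] {g : ℕ → G} {pt : ℕ → Ω}
    (M : Md g pt H16.Suz.P 1782 7 H16.Suz.B 448345497600) : Act (rl [13] (wds g F_W)) pt (rl [nat_lit 13] F_P) 1782 1 :=
  (F_act M).rl (by decide)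
theorem w7c {G Ω : Type*} [Group G] [MulAction G Ω] {g : ℕ → G} {pt : ℕ → Ω}
    (M : Md g pt H16.Suz.P 1782 7 H16.Suz.B 448345497600) : gen (wds g w7_W) 1 ≤ Subgroup.centralizer (gen (rl [13] (wds g F_W)) 1 : Set G) :=
  H0.Fi.comm_all M (DD_act M) (w7_act M) w7c_k
theorem sht_act {G Ω : Type*} [Group G] [MulAction G Ω] {g : ℕ → G} {pt : ℕ → Ω}
    (M : Md g pt (rl [nat_lit 7, nat_lit 8, nat_lit 14, nat_lit 15, nat_lit 16, nat_lit 17] F_P) 1782 6 H16.Suz.B 3317760) : Act (wds g sht_W) pt sht_P 1782 13 :=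
  M.wact sht_lt
theorem sh_r_0 : ∀ i < 1152, (resEnt sht_P shP shE shI (nat_lit 1782) (nat_lit 1152) (nat_lit 0)) i = 0 := allZ_sound0 sh_r_0_0
theorem sh_r_1 : ∀ i < 1152, (resEnt sht_P shP shE shI (nat_lit 1782) (nat_lit 1152) (nat_lit 1)) i = 0 := allZ_sound0 sh_r_1_0
theorem sh_r_2 : ∀ i < 1152, (resEnt sht_P shP shE shI (nat_lit 1782) (nat_lit 1152) (nat_lit 2)) i = 0 := allZ_sound0 sh_r_2_0
theorem sh_r_3 : ∀ i < 1152, (resEnt sht_P shP shE shI (nat_lit 1782) (nat_lit 1152) (nat_lit 3)) i = 0 := allZ_sound0 sh_r_3_0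
theorem sh_r_4 : ∀ i < 1152, (resEnt sht_P shP shE shI (nat_lit 1782) (nat_lit 1152) (nat_lit 4)) i = 0 := allZ_sound0 sh_r_4_0
theorem sh_r_5 : ∀ i < 1152, (resEnt sht_P shP shE shI (nat_lit 1782) (nat_lit 1152) (nat_lit 5)) i = 0 := allZ_sound0 sh_r_5_0
theorem sh_r_6 : ∀ i < 1152, (resEnt sht_P shP shE shI (nat_lit 1782) (nat_lit 1152) (nat_lit 6)) i = 0 := allZ_sound0 sh_r_6_0
theorem sh_r_7 : ∀ i < 1152, (resEnt sht_P shP shE shI (nat_lit 1782) (nat_lit 1152) (nat_lit 7)) i = 0 := allZ_sound0 sh_r_7_0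
theorem sh_r_8 : ∀ i < 1152, (resEnt sht_P shP shE shI (nat_lit 1782) (nat_lit 1152) (nat_lit 8)) i = 0 := allZ_sound0 sh_r_8_0
theorem sh_r_9 : ∀ i < 1152, (resEnt sht_P shP shE shI (nat_lit 1782) (nat_lit 1152) (nat_lit 9)) i = 0 := allZ_sound0 sh_r_9_0
theorem sh_r_10 : ∀ i < 1152, (resEnt sht_P shP shE shI (nat_lit 1782) (nat_lit 1152) (nat_lit 10)) i = 0 := allZ_sound0 sh_r_10_0
theorem sh_r_11 : ∀ i < 1152, (resEnt sht_P shP shE shI (nat_lit 1782) (nat_lit 1152) (nat_lit 11)) i = 0 := allZ_sound0 sh_r_11_0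
theorem sh_r_12 : ∀ i < 1152, (resEnt sht_P shP shE shI (nat_lit 1782) (nat_lit 1152) (nat_lit 12)) i = 0 := allZ_sound0 sh_r_12_0
theorem sh_r : ∀ k < 13, ∀ i < 1152, (resEnt sht_P shP shE shI (nat_lit 1782) (nat_lit 1152)) k i = 0 :=
  letters_glue (letters_glue (letters_glue (letters_glue (letters_glue (letters_glue (letters_glue (letters_glue (letters_glue (letters_glue (letters_glue (letters_glue (letters_glue (letters_nil) sh_r_0) sh_r_1) sh_r_2) sh_r_3) sh_r_4) sh_r_5) sh_r_6) sh_r_7) sh_r_8) sh_r_9) sh_r_10) sh_r_11) sh_r_12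
theorem sh_sm {G Ω : Type*} [Group G] [MulAction G Ω] {g : ℕ → G} {pt : ℕ → Ω}
    (M : Md g pt (rl [nat_lit 7, nat_lit 8, nat_lit 14, nat_lit 15, nat_lit 16, nat_lit 17] F_P) 1782 6 H16.Suz.B 3317760) : Sm (wds g sht_W) (fun i => pt (shE i)) shP 1152 13 shB ∧ ∀ i < 1152, shE i < 1782 :=
  M.res (sht_act M) (by decide) sh_r sh_b
theorem shl0_e : ∀ i < 1023, (dent shl0 (wdsP shP she) (nat_lit 1152)) i = 0 := allZ_sound0 shl0_e_0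
theorem shl0_ok : DOK shl0 (wdsP shP she) 1152 := ⟨shl0_h, shl0_e⟩
theorem shl1_e : ∀ i < 3, (dent shl1 (wdsP shP she) (nat_lit 1152)) i = 0 := allZ_sound0 shl1_e_0
theorem shl1_ok : DOK shl1 (wdsP shP she) 1152 := ⟨shl1_h, shl1_e⟩
theorem shl2_e : ∀ i < 1, (dent shl2 (wdsP shP she) (nat_lit 1152)) i = 0 := allZ_sound0 shl2_e_0
theorem shl2_ok : DOK shl2 (wdsP shP she) 1152 := ⟨shl2_h, shl2_e⟩
theorem sh_low {G Ω : Type*} [Group G] [MulAction G Ω] {g : ℕ → G} {pt : ℕ → Ω}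
    (M : Md g pt (rl [nat_lit 7, nat_lit 8, nat_lit 14, nat_lit 15, nat_lit 16, nat_lit 17] F_P) 1782 6 H16.Suz.B 3317760) : SLow (gi (wds (wds g sht_W) she)) (fun i => pt (shE i)) 1152 [shl0, shl1, shl2] :=
  (((SLow.nil).cons shl2_ok ((sh_sm M).1.act.wds sh_e 62) sh_f2).cons shl1_ok ((sh_sm M).1.act.wds sh_e 62) sh_f1).cons shl0_ok ((sh_sm M).1.act.wds sh_e 62) sh_f0
theorem sh_pc {G Ω : Type*} [Group G] [MulAction G Ω] {g : ℕ → G} {pt : ℕ → Ω}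
    (M : Md g pt (rl [nat_lit 7, nat_lit 8, nat_lit 14, nat_lit 15, nat_lit 16, nat_lit 17] F_P) 1782 6 H16.Suz.B 3317760) : PC (wds g sht_W) 13 2 :=
  have := M.fin
  ((sh_sm M).1.pc0 (by decide) sh_p).pc (sh_low M) (sh_sm M).1.inj
    (fun k => evA_mem_gen _ (nth_lt sh_e k)) M.card ⟨by decide, sh_c⟩
theorem ivhr_act {G Ω : Type*} [Group G] [MulAction G Ω] {g : ℕ → G} {pt : ℕ → Ω}
    (M : Md g pt (rl [nat_lit 7, nat_lit 8, nat_lit 14, nat_lit 15, nat_lit 16, nat_lit 17] F_P) 1782 6 H16.Suz.B 3317760) : Act (wds g ivhr_W) pt ivhr_P 1782 4 :=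
  M.wact ivhr_lt
theorem ivh_0 {G Ω : Type*} [Group G] [MulAction G Ω] {g : ℕ → G} {pt : ℕ → Ω}
    (M : Md g pt (rl [nat_lit 7, nat_lit 8, nat_lit 14, nat_lit 15, nat_lit 16, nat_lit 17] F_P) 1782 6 H16.Suz.B 3317760) : Cov (wds g sht_W) (wds g ivhr_W) 2 4 13 (evA (wds g sht_W) []) :=
  have := M.fin
  ivhT0.cov M (sh_sm M).1 (sh_sm M).2 (ivhr_act M) (sh_pc M) _ _ ivh_c0
theorem ivh {G Ω : Type*} [Group G] [MulAction G Ω] {g : ℕ → G} {pt : ℕ → Ω}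
    (M : Md g pt (rl [nat_lit 7, nat_lit 8, nat_lit 14, nat_lit 15, nat_lit 16, nat_lit 17] F_P) 1782 6 H16.Suz.B 3317760) {y : G} {e : ℕ} (hy : y ^ 2 ^ e = 1) (hq : y ^ 2 = 1) : Good (wds g ivhr_W) 4 y :=
  have := M.fin
  Cov.all (sh_pc M) (ivh_0 M) hy hq
theorem Zw {G Ω : Type*} [Group G] [MulAction G Ω] {g : ℕ → G} {pt : ℕ → Ω}
    (M : Md g pt H16.Suz.P 1782 7 H16.Suz.B 448345497600) : (wds g F_W) 0 = evA (rl [7, 8, 14, 15, 16, 17] (wds g F_W)) [0, 3, 3, 4, 3, 4, 0, 3, 3, 4, 3, 4] ∧ (wds g F_W) 0 ∈ gen (rl [7, 8, 14, 15, 16, 17] (wds g F_W)) 6 :=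
  M.eqw (O_act M) (F_act M) (by decide) Zw_k
theorem pdc : ∀ i < 4, (pdEnt H16.Suz.P (rl [nat_lit 7, nat_lit 8, nat_lit 14, nat_lit 15, nat_lit 16, nat_lit 17] F_P) F_P 7 6 21 H16.Suz.B [nat_lit 0, nat_lit 3, nat_lit 3, nat_lit 4, nat_lit 3, nat_lit 4, nat_lit 0, nat_lit 3, nat_lit 3, nat_lit 4, nat_lit 3, nat_lit 4] ivhr_W [[],
  [nat_lit 2, nat_lit 6, nat_lit 5, nat_lit 3, nat_lit 1, nat_lit 2, nat_lit 1, nat_lit 6, nat_lit 4, nat_lit 2, nat_lit 0, nat_lit 2, nat_lit 2, nat_lit 5, nat_lit 3, nat_lit 0, nat_lit 2, nat_lit 4],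
  [nat_lit 6, nat_lit 5, nat_lit 3, nat_lit 4, nat_lit 3, nat_lit 5, nat_lit 4, nat_lit 2, nat_lit 6, nat_lit 5, nat_lit 6, nat_lit 4, nat_lit 6, nat_lit 2, nat_lit 1, nat_lit 3, nat_lit 1],
  [nat_lit 0, nat_lit 4, nat_lit 2, nat_lit 6, nat_lit 5, nat_lit 2, nat_lit 0, nat_lit 4, nat_lit 5, nat_lit 3, nat_lit 6, nat_lit 5, nat_lit 6, nat_lit 0, nat_lit 2, nat_lit 2, nat_lit 4, nat_lit 5]] pdd) i = 0 := allZ_sound0 pdc_0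

end H0.Sz
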