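import Cfsg.Agent.H0.Sz.L.C0
import Cfsg.Agent.H0.Sz.L.C1

/-! Generated by tools/h0/suz/genL.py. -/

set_option maxRecDepth 100000
set_option maxHeartbeats 0

namespace H0.Sz
open H16 H0.TR H0.Am H0.Fi
open scoped commutatorElement

theorem s3t_act {G Ω : Type*} [Group G] [MulAction G Ω] {g : ℕ → G} {pt : ℕ → Ω}
    (M : Md g pt (rl [nat_lit 7, nat_lit 8, nat_lit 14, nat_lit 15, nat_lit 16, nat_lit 17] H0.Sz.F_P) 1782 6 H16.Suz.B 3317760) : Act (wds g s3t_W) pt s3t_P 1782 4 :=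
  M.wact s3t_lt
theorem s3_r : ∀ k < 4, ∀ i < 351, (resEnt s3t_P s3P s3E s3I (nat_lit 1782) (nat_lit 351)) k i = 0 := allZ2_sound s3_r_a
theorem s3_sm {G Ω : Type*} [Group G] [MulAction G Ω] {g : ℕ → G} {pt : ℕ → Ω}
    (M : Md g pt (rl [nat_lit 7, nat_lit 8, nat_lit 14, nat_lit 15, nat_lit 16, nat_lit 17] H0.Sz.F_P) 1782 6 H16.Suz.B 3317760) : Sm (wds g s3t_W) (fun i => pt (s3E i)) s3P 351 4 s3B ∧ ∀ i < 351, s3E i < 1782 :=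
  M.res (s3t_act M) (by decide) s3_r s3_b
theorem s3l0_e : ∀ i < 80, (dent s3l0 (wdsP s3P s3e) (nat_lit 351)) i = 0 := allZ_sound0 s3l0_e_0
theorem s3l0_ok : DOK s3l0 (wdsP s3P s3e) 351 := ⟨s3l0_h, s3l0_e⟩
theorem s3_low {G Ω : Type*} [Group G] [MulAction G Ω] {g : ℕ → G} {pt : ℕ → Ω}
    (M : Md g pt (rl [nat_lit 7, nat_lit 8, nat_lit 14, nat_lit 15, nat_lit 16, nat_lit 17] H0.Sz.F_P) 1782 6 H16.Suz.B 3317760) : SLow (gi (wds (wds g s3t_W) s3e)) (fun i => pt (s3E i)) 351 [s3l0] :=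
  (SLow.nil).cons s3l0_ok ((s3_sm M).1.act.wds s3_e 3) s3_f0
theorem s3_pc {G Ω : Type*} [Group G] [MulAction G Ω] {g : ℕ → G} {pt : ℕ → Ω}
    (M : Md g pt (rl [nat_lit 7, nat_lit 8, nat_lit 14, nat_lit 15, nat_lit 16, nat_lit 17] H0.Sz.F_P) 1782 6 H16.Suz.B 3317760) : PC (wds g s3t_W) 4 3 :=
  have := M.fin
  ((s3_sm M).1.pc0 (by decide) s3_p).pc (s3_low M) (s3_sm M).1.inj
    (fun k => evA_mem_gen _ (nth_lt s3_e k)) M.card ⟨by decide, s3_c⟩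
theorem c3r_act {G Ω : Type*} [Group G] [MulAction G Ω] {g : ℕ → G} {pt : ℕ → Ω}
    (M : Md g pt (rl [nat_lit 7, nat_lit 8, nat_lit 14, nat_lit 15, nat_lit 16, nat_lit 17] H0.Sz.F_P) 1782 6 H16.Suz.B 3317760) : Act (wds g c3r_W) pt c3r_P 1782 4 :=
  M.wact c3r_lt
theorem c3_0 {G Ω : Type*} [Group G] [MulAction G Ω] {g : ℕ → G} {pt : ℕ → Ω}
    (M : Md g pt (rl [nat_lit 7, nat_lit 8, nat_lit 14, nat_lit 15, nat_lit 16, nat_lit 17] H0.Sz.F_P) 1782 6 H16.Suz.B 3317760) : Cov (wds g s3t_W) (wds g c3r_W) 3 4 4 (evA (wds g s3t_W) []) :=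
  have := M.fin
  c3T0.cov M (s3_sm M).1 (s3_sm M).2 (c3r_act M) (s3_pc M) _ _ c3_c0
theorem c3 {G Ω : Type*} [Group G] [MulAction G Ω] {g : ℕ → G} {pt : ℕ → Ω}
    (M : Md g pt (rl [nat_lit 7, nat_lit 8, nat_lit 14, nat_lit 15, nat_lit 16, nat_lit 17] H0.Sz.F_P) 1782 6 H16.Suz.B 3317760) {y : G} {e : ℕ} (hy : y ^ 3 ^ e = 1) (hq : y ^ 3 = 1) : Good (wds g c3r_W) 4 y :=
  have := M.fin
  Cov.all (s3_pc M) (c3_0 M) hy hq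
theorem x1_act {G Ω : Type*} [Group G] [MulAction G Ω] {g : ℕ → G} {pt : ℕ → Ω}
    (M : Md g pt H16.Suz.P 1782 7 H16.Suz.B 448345497600) : Act (wds (wds g H0.Sz.F_W) x1_W) pt x1_P 1782 7 :=
  (H0.Sz.F_act M).wds x1_lt _
theorem xq1 {G Ω : Type*} [Group G] [MulAction G Ω] {g : ℕ → G} {pt : ℕ → Ω}
    (M : Md g pt H16.Suz.P 1782 7 H16.Suz.B 448345497600) : gen (wds (wds g H0.Sz.F_W) x1_W) 6 ≤ gen (rl [0, 1, 2, 3, 18, 19, 20] (wds g H0.Sz.F_W)) 7 :=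
  M.gen_le (Q_act M) ((x1_act M).mono (by decide : 6 ≤ 7)) xq1_k
theorem xp1 {G Ω : Type*} [Group G] [MulAction G Ω] {g : ℕ → G} {pt : ℕ → Ω}
    (M : Md g pt H16.Suz.P 1782 7 H16.Suz.B 448345497600) : ∀ k < 6, (wds (wds g H0.Sz.F_W) x1_W) k ^ 2 = 1 :=
  H0.Fi.pw_all M ((x1_act M).mono (by decide : 6 ≤ 7)) xp1_k
theorem xr1 {G Ω : Type*} [Group G] [MulAction G Ω] {g : ℕ → G} {pt : ℕ → Ω}
    (M : Md g pt H16.Suz.P 1782 7 H16.Suz.B 448345497600) : (wds (wds g H0.Sz.F_W) x1_W) 6 = evA (rl [7, 8, 14, 15, 16, 17] (wds g H0.Sz.F_W)) [2, 5, 3, 3, 4, 0, 2, 4, 1, 4] ∧ (wds (wds g H0.Sz.F_W) x1_W) 6 ∈ gen (rl [7, 8, 14, 15, 16, 17] (wds g H0.Sz.F_W)) 6 :=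
  M.eqw (O_act M) (x1_act M) (by decide) xr1_k
theorem y1_act {G Ω : Type*} [Group G] [MulAction G Ω] {g : ℕ → G} {pt : ℕ → Ω}
    (M : Md g pt H16.Suz.P 1782 7 H16.Suz.B 448345497600) : Act (wds (wds (wds g H0.Sz.F_W) x1_W) y1_W) pt y1_P 1782 6 :=
  (x1_act M).wds y1_lt _
theorem yl1e_act {G Ω : Type*} [Group G] [MulAction G Ω] {g : ℕ → G} {pt : ℕ → Ω}
    (M : Md g pt H16.Suz.P 1782 7 H16.Suz.B 448345497600) : Act (wds (wds (wds (wds g H0.Sz.F_W) x1_W) y1_W) yl1e_W) pt yl1e_P 1782 6 :=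
  ((y1_act M).mono (by decide : 6 ≤ 6)).wds yl1e_lt _
theorem yl1l0_e : ∀ i < 63, (dent yl1l0 yl1e_P (nat_lit 1782)) i = 0 := allZ_sound0 yl1l0_e_0
theorem yl1l0_ok : DOK yl1l0 yl1e_P 1782 := ⟨yl1l0_h, yl1l0_e⟩
theorem yl1l1_e : ∀ i < 1, (dent yl1l1 yl1e_P (nat_lit 1782)) i = 0 := allZ_sound0 yl1l1_e_0
theorem yl1l1_ok : DOK yl1l1 yl1e_P 1782 := ⟨yl1l1_h, yl1l1_e⟩
theorem yl1_low {G Ω : Type*} [Group G] [MulAction G Ω] {g : ℕ → G} {pt : ℕ → Ω}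
    (M : Md g pt H16.Suz.P 1782 7 H16.Suz.B 448345497600) : SLow (gi (wds (wds (wds (wds g H0.Sz.F_W) x1_W) y1_W) yl1e_W)) pt 1782 [yl1l0, yl1l1] :=
  ((SLow.nil).cons yl1l1_ok (yl1e_act M) yl1_f1).cons yl1l0_ok (yl1e_act M) yl1_f0
theorem yl1 {G Ω : Type*} [Group G] [MulAction G Ω] {g : ℕ → G} {pt : ℕ → Ω}
    (M : Md g pt H16.Suz.P 1782 7 H16.Suz.B 448345497600) : 128 ≤ Nat.card (gen (wds (wds (wds g H0.Sz.F_W) x1_W) y1_W) 6) :=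
  have := M.fin
  yl1_c ▸ ((yl1_low M).card_ge M.inj).trans (Subgroup.card_le_of_le
    (by rw [gen_gi]; exact gen_wds_le yl1e_lt _))
theorem x2_act {G Ω : Type*} [Group G] [MulAction G Ω] {g : ℕ → G} {pt : ℕ → Ω}
    (M : Md g pt H16.Suz.P 1782 7 H16.Suz.B 448345497600) : Act (wds (wds g H0.Sz.F_W) x2_W) pt x2_P 1782 7 :=
  (H0.Sz.F_act M).wds x2_lt _
theorem xq2 {G Ω : Type*} [Group G] [MulAction G Ω] {g : ℕ → G} {pt : ℕ → Ω}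
    (M : Md g pt H16.Suz.P 1782 7 H16.Suz.B 448345497600) : gen (wds (wds g H0.Sz.F_W) x2_W) 6 ≤ gen (rl [0, 1, 2, 3, 18, 19, 20] (wds g H0.Sz.F_W)) 7 :=
  M.gen_le (Q_act M) ((x2_act M).mono (by decide : 6 ≤ 7)) xq2_k
theorem xp2 {G Ω : Type*} [Group G] [MulAction G Ω] {g : ℕ → G} {pt : ℕ → Ω}
    (M : Md g pt H16.Suz.P 1782 7 H16.Suz.B 448345497600) : ∀ k < 6, (wds (wds g H0.Sz.F_W) x2_W) k ^ 2 = 1 :=
  H0.Fi.pw_all M ((x2_act M).mono (by decide : 6 ≤ 7)) xp2_k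
theorem xr2 {G Ω : Type*} [Group G] [MulAction G Ω] {g : ℕ → G} {pt : ℕ → Ω}
    (M : Md g pt H16.Suz.P 1782 7 H16.Suz.B 448345497600) : (wds (wds g H0.Sz.F_W) x2_W) 6 = evA (rl [7, 8, 14, 15, 16, 17] (wds g H0.Sz.F_W)) [5, 0, 5, 0, 2, 5, 2, 2, 4, 3] ∧ (wds (wds g H0.Sz.F_W) x2_W) 6 ∈ gen (rl [7, 8, 14, 15, 16, 17] (wds g H0.Sz.F_W)) 6 :=
  M.eqw (O_act M) (x2_act M) (by decide) xr2_k
theorem y2_act {G Ω : Type*} [Group G] [MulAction G Ω] {g : ℕ → G} {pt : ℕ → Ω}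
    (M : Md g pt H16.Suz.P 1782 7 H16.Suz.B 448345497600) : Act (wds (wds (wds g H0.Sz.F_W) x2_W) y2_W) pt y2_P 1782 6 :=
  (x2_act M).wds y2_lt _
theorem yl2e_act {G Ω : Type*} [Group G] [MulAction G Ω] {g : ℕ → G} {pt : ℕ → Ω}
    (M : Md g pt H16.Suz.P 1782 7 H16.Suz.B 448345497600) : Act (wds (wds (wds (wds g H0.Sz.F_W) x2_W) y2_W) yl2e_W) pt yl2e_P 1782 6 :=
  ((y2_act M).mono (by decide : 6 ≤ 6)).wds yl2e_lt _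
theorem yl2l0_e : ∀ i < 63, (dent yl2l0 yl2e_P (nat_lit 1782)) i = 0 := allZ_sound0 yl2l0_e_0
theorem yl2l0_ok : DOK yl2l0 yl2e_P 1782 := ⟨yl2l0_h, yl2l0_e⟩
theorem yl2l1_e : ∀ i < 1, (dent yl2l1 yl2e_P (nat_lit 1782)) i = 0 := allZ_sound0 yl2l1_e_0
theorem yl2l1_ok : DOK yl2l1 yl2e_P 1782 := ⟨yl2l1_h, yl2l1_e⟩
theorem yl2_low {G Ω : Type*} [Group G] [MulAction G Ω] {g : ℕ → G} {pt : ℕ → Ω}
    (M : Md g pt H16.Suz.P 1782 7 H16.Suz.B 448345497600) : SLow (gi (wds (wds (wds (wds g H0.Sz.F_W) x2_W) y2_W) yl2e_W)) pt 1782 [yl2l0, yl2l1] :=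
  ((SLow.nil).cons yl2l1_ok (yl2e_act M) yl2_f1).cons yl2l0_ok (yl2e_act M) yl2_f0
theorem yl2 {G Ω : Type*} [Group G] [MulAction G Ω] {g : ℕ → G} {pt : ℕ → Ω}
    (M : Md g pt H16.Suz.P 1782 7 H16.Suz.B 448345497600) : 128 ≤ Nat.card (gen (wds (wds (wds g H0.Sz.F_W) x2_W) y2_W) 6) :=
  have := M.fin
  yl2_c ▸ ((yl2_low M).card_ge M.inj).trans (Subgroup.card_le_of_le
    (by rw [gen_gi]; exact gen_wds_le yl2e_lt _))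
theorem x3_act {G Ω : Type*} [Group G] [MulAction G Ω] {g : ℕ → G} {pt : ℕ → Ω}
    (M : Md g pt H16.Suz.P 1782 7 H16.Suz.B 448345497600) : Act (wds (wds g H0.Sz.F_W) x3_W) pt x3_P 1782 7 :=
  (H0.Sz.F_act M).wds x3_lt _
theorem xq3 {G Ω : Type*} [Group G] [MulAction G Ω] {g : ℕ → G} {pt : ℕ → Ω}
    (M : Md g pt H16.Suz.P 1782 7 H16.Suz.B 448345497600) : gen (wds (wds g H0.Sz.F_W) x3_W) 6 ≤ gen (rl [0, 1, 2, 3, 18, 19, 20] (wds g H0.Sz.F_W)) 7 :=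
  M.gen_le (Q_act M) ((x3_act M).mono (by decide : 6 ≤ 7)) xq3_k
theorem xp3 {G Ω : Type*} [Group G] [MulAction G Ω] {g : ℕ → G} {pt : ℕ → Ω}
    (M : Md g pt H16.Suz.P 1782 7 H16.Suz.B 448345497600) : ∀ k < 6, (wds (wds g H0.Sz.F_W) x3_W) k ^ 2 = 1 :=
  H0.Fi.pw_all M ((x3_act M).mono (by decide : 6 ≤ 7)) xp3_k
theorem xr3 {G Ω : Type*} [Group G] [MulAction G Ω] {g : ℕ → G} {pt : ℕ → Ω}
    (M : Md g pt H16.Suz.P 1782 7 H16.Suz.B 448345497600) : (wds (wds g H0.Sz.F_W) x3_W) 6 = evA (rl [7, 8, 14, 15, 16, 17] (wds g H0.Sz.F_W)) [2, 4, 3, 4, 3, 0, 3, 5, 3, 3, 0, 5] ∧ (wds (wds g H0.Sz.F_W) x3_W) 6 ∈ gen (rl [7, 8, 14, 15, 16, 17] (wds g H0.Sz.F_W)) 6 :=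
  M.eqw (O_act M) (x3_act M) (by decide) xr3_k
theorem y3_act {G Ω : Type*} [Group G] [MulAction G Ω] {g : ℕ → G} {pt : ℕ → Ω}
    (M : Md g pt H16.Suz.P 1782 7 H16.Suz.B 448345497600) : Act (wds (wds (wds g H0.Sz.F_W) x3_W) y3_W) pt y3_P 1782 6 :=
  (x3_act M).wds y3_lt _
theorem yl3e_act {G Ω : Type*} [Group G] [MulAction G Ω] {g : ℕ → G} {pt : ℕ → Ω}
    (M : Md g pt H16.Suz.P 1782 7 H16.Suz.B 448345497600) : Act (wds (wds (wds (wds g H0.Sz.F_W) x3_W) y3_W) yl3e_W) pt yl3e_P 1782 4 :=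
  ((y3_act M).mono (by decide : 6 ≤ 6)).wds yl3e_lt _
theorem yl3l0_e : ∀ i < 31, (dent yl3l0 yl3e_P (nat_lit 1782)) i = 0 := allZ_sound0 yl3l0_e_0
theorem yl3l0_ok : DOK yl3l0 yl3e_P 1782 := ⟨yl3l0_h, yl3l0_e⟩
theorem yl3_low {G Ω : Type*} [Group G] [MulAction G Ω] {g : ℕ → G} {pt : ℕ → Ω}
    (M : Md g pt H16.Suz.P 1782 7 H16.Suz.B 448345497600) : SLow (gi (wds (wds (wds (wds g H0.Sz.F_W) x3_W) y3_W) yl3e_W)) pt 1782 [yl3l0] :=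
  (SLow.nil).cons yl3l0_ok (yl3e_act M) yl3_f0
theorem yl3 {G Ω : Type*} [Group G] [MulAction G Ω] {g : ℕ → G} {pt : ℕ → Ω}
    (M : Md g pt H16.Suz.P 1782 7 H16.Suz.B 448345497600) : 32 ≤ Nat.card (gen (wds (wds (wds g H0.Sz.F_W) x3_W) y3_W) 6) :=
  have := M.fin
  yl3_c ▸ ((yl3_low M).card_ge M.inj).trans (Subgroup.card_le_of_le
    (by rw [gen_gi]; exact gen_wds_le yl3e_lt _))
theorem A_act {G Ω : Type*} [Group G] [MulAction G Ω] {g : ℕ → G} {pt : ℕ → Ω}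
    (M : Md g pt H16.Suz.P 1782 7 H16.Suz.B 448345497600) : Act (rl [7] (wds g H0.Sz.F_W)) pt (rl [nat_lit 7] H0.Sz.F_P) 1782 1 :=
  (H0.Sz.F_act M).rl (by decide)
theorem cAth_act {G Ω : Type*} [Group G] [MulAction G Ω] {g : ℕ → G} {pt : ℕ → Ω}
    (M : Md g pt H16.Suz.P 1782 7 H16.Suz.B 448345497600) : Act (wds g cAth_W) pt cAth_P 1782 17 :=
  M.wact cAth_lt
theorem cAtl0_e : ∀ i < 1781, (dent cAtl0 cAth_P (nat_lit 1782)) i = 0 := allZ_sound0 cAtl0_e_0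
theorem cAtl0_ok : DOK cAtl0 cAth_P 1782 := ⟨cAtl0_h, cAtl0_e⟩
theorem cAtl1_e : ∀ i < 415, (dent cAtl1 cAth_P (nat_lit 1782)) i = 0 := allZ_sound0 cAtl1_e_0
theorem cAtl1_ok : DOK cAtl1 cAth_P 1782 := ⟨cAtl1_h, cAtl1_e⟩
theorem cAtl2_e : ∀ i < 99, (dent cAtl2 cAth_P (nat_lit 1782)) i = 0 := allZ_sound0 cAtl2_e_0
theorem cAtl2_ok : DOK cAtl2 cAth_P 1782 := ⟨cAtl2_h, cAtl2_e⟩
theorem cAtl3_e : ∀ i < 35, (dent cAtl3 cAth_P (nat_lit 1782)) i = 0 := allZ_sound0 cAtl3_e_0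
theorem cAtl3_ok : DOK cAtl3 cAth_P 1782 := ⟨cAtl3_h, cAtl3_e⟩
theorem cAtl4_e : ∀ i < 20, (dent cAtl4 cAth_P (nat_lit 1782)) i = 0 := allZ_sound0 cAtl4_e_0
theorem cAtl4_ok : DOK cAtl4 cAth_P 1782 := ⟨cAtl4_h, cAtl4_e⟩
theorem cAtl5_e : ∀ i < 1, (dent cAtl5 cAth_P (nat_lit 1782)) i = 0 := allZ_sound0 cAtl5_e_0
theorem cAtl5_ok : DOK cAtl5 cAth_P 1782 := ⟨cAtl5_h, cAtl5_e⟩
theorem cAtl6_e : ∀ i < 1, (dent cAtl6 cAth_P (nat_lit 1782)) i = 0 := allZ_sound0 cAtl6_e_0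
theorem cAtl6_ok : DOK cAtl6 cAth_P 1782 := ⟨cAtl6_h, cAtl6_e⟩
theorem cAtl7_e : ∀ i < 1, (dent cAtl7 cAth_P (nat_lit 1782)) i = 0 := allZ_sound0 cAtl7_e_0
theorem cAtl7_ok : DOK cAtl7 cAth_P 1782 := ⟨cAtl7_h, cAtl7_e⟩
theorem cAt_low {G Ω : Type*} [Group G] [MulAction G Ω] {g : ℕ → G} {pt : ℕ → Ω}
    (M : Md g pt H16.Suz.P 1782 7 H16.Suz.B 448345497600) : SLow (gi (wds g cAth_W)) pt 1782 [cAtl0, cAtl1, cAtl2, cAtl3, cAtl4, cAtl5, cAtl6, cAtl7] :=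
  ((((((((SLow.nil).cons cAtl7_ok (cAth_act M) cAt_f7).cons cAtl6_ok (cAth_act M) cAt_f6).cons cAtl5_ok (cAth_act M) cAt_f5).cons cAtl4_ok (cAth_act M) cAt_f4).cons cAtl3_ok (cAth_act M) cAt_f3).cons cAtl2_ok (cAth_act M) cAt_f2).cons cAtl1_ok (cAth_act M) cAt_f1).cons cAtl0_ok (cAth_act M) cAt_f0
theorem cAt_S0 {G Ω : Type*} [Group G] [MulAction G Ω] {g : ℕ → G} {pt : ℕ → Ω}
    (M : Md g pt H16.Suz.P 1782 7 H16.Suz.B 448345497600) : Stage ⊤ (wds g cAth_W) pt 1782 [cAtl0, cAtl1, cAtl2, cAtl3, cAtl4, cAtl5, cAtl6, cAtl7] [] :=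
  M.stage (cAt_low M) cAt_c
theorem cAt_S1 {G Ω : Type*} [Group G] [MulAction G Ω] {g : ℕ → G} {pt : ℕ → Ω}
    (M : Md g pt H16.Suz.P 1782 7 H16.Suz.B 448345497600) : Stage ⊤ (wds g cAth_W) pt 1782 [cAtl1, cAtl2, cAtl3, cAtl4, cAtl5, cAtl6, cAtl7] [cAtl0.Pt 0] :=
  (cAt_S0 M).next
theorem cAt_S2 {G Ω : Type*} [Group G] [MulAction G Ω] {g : ℕ → G} {pt : ℕ → Ω}
    (M : Md g pt H16.Suz.P 1782 7 H16.Suz.B 448345497600) : Stage ⊤ (wds g cAth_W) pt 1782 [cAtl2, cAtl3, cAtl4, cAtl5, cAtl6, cAtl7] [cAtl1.Pt 0, cAtl0.Pt 0] :=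
  (cAt_S1 M).next
theorem cAt_S3 {G Ω : Type*} [Group G] [MulAction G Ω] {g : ℕ → G} {pt : ℕ → Ω}
    (M : Md g pt H16.Suz.P 1782 7 H16.Suz.B 448345497600) : Stage ⊤ (wds g cAth_W) pt 1782 [cAtl3, cAtl4, cAtl5, cAtl6, cAtl7] [cAtl2.Pt 0, cAtl1.Pt 0, cAtl0.Pt 0] :=
  (cAt_S2 M).next
theorem cAt_S4 {G Ω : Type*} [Group G] [MulAction G Ω] {g : ℕ → G} {pt : ℕ → Ω}
    (M : Md g pt H16.Suz.P 1782 7 H16.Suz.B 448345497600) : Stage ⊤ (wds g cAth_W) pt 1782 [cAtl4, cAtl5, cAtl6, cAtl7] [cAtl3.Pt 0, cAtl2.Pt 0, cAtl1.Pt 0, cAtl0.Pt 0] :=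
  (cAt_S3 M).next
theorem cAt_S5 {G Ω : Type*} [Group G] [MulAction G Ω] {g : ℕ → G} {pt : ℕ → Ω}
    (M : Md g pt H16.Suz.P 1782 7 H16.Suz.B 448345497600) : Stage ⊤ (wds g cAth_W) pt 1782 [cAtl5, cAtl6, cAtl7] [cAtl4.Pt 0, cAtl3.Pt 0, cAtl2.Pt 0, cAtl1.Pt 0, cAtl0.Pt 0] :=
  (cAt_S4 M).next
theorem cAt_S6 {G Ω : Type*} [Group G] [MulAction G Ω] {g : ℕ → G} {pt : ℕ → Ω}
    (M : Md g pt H16.Suz.P 1782 7 H16.Suz.B 448345497600) : Stage ⊤ (wds g cAth_W) pt 1782 [cAtl6, cAtl7] [cAtl5.Pt 0, cAtl4.Pt 0, cAtl3.Pt 0, cAtl2.Pt 0, cAtl1.Pt 0, cAtl0.Pt 0] :=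
  (cAt_S5 M).next
theorem cAt_S7 {G Ω : Type*} [Group G] [MulAction G Ω] {g : ℕ → G} {pt : ℕ → Ω}
    (M : Md g pt H16.Suz.P 1782 7 H16.Suz.B 448345497600) : Stage ⊤ (wds g cAth_W) pt 1782 [cAtl7] [cAtl6.Pt 0, cAtl5.Pt 0, cAtl4.Pt 0, cAtl3.Pt 0, cAtl2.Pt 0, cAtl1.Pt 0, cAtl0.Pt 0] :=
  (cAt_S6 M).next
theorem cAt_S8 {G Ω : Type*} [Group G] [MulAction G Ω] {g : ℕ → G} {pt : ℕ → Ω}
    (M : Md g pt H16.Suz.P 1782 7 H16.Suz.B 448345497600) : Stage ⊤ (wds g cAth_W) pt 1782 [] [cAtl7.Pt 0, cAtl6.Pt 0, cAtl5.Pt 0, cAtl4.Pt 0, cAtl3.Pt 0, cAtl2.Pt 0, cAtl1.Pt 0, cAtl0.Pt 0] :=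
  (cAt_S7 M).next
theorem cAe_act {G Ω : Type*} [Group G] [MulAction G Ω] {g : ℕ → G} {pt : ℕ → Ω}
    (M : Md g pt H16.Suz.P 1782 7 H16.Suz.B 448345497600) : Act (wds g cAe_W) pt cAe_P 1782 8 :=
  M.wact cAe_lt
theorem cAc7_e : ∀ i < 1, (dent cAc7 cAe_P (nat_lit 1782)) i = 0 := allZ_sound0 cAc7_e_0
theorem cAc7_ok : DOK cAc7 cAe_P 1782 := ⟨cAc7_h, cAc7_e⟩
theorem cAtn0_1 : ∀ i < 2, (cAtn0.ent H16.Suz.P cAth_P (rl [nat_lit 7] H0.Sz.F_P) (rl [nat_lit 7] H0.Sz.F_P) cAe_P (nat_lit 7) (nat_lit 1) H16.Suz.B cAtl7 [] (memO cAc7)) i = 0 := allZ_sound0 cAtn0_1_0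
theorem cAtn0_t {G Ω : Type*} [Group G] [MulAction G Ω] {g : ℕ → G} {pt : ℕ → Ω}
    (M : Md g pt H16.Suz.P 1782 7 H16.Suz.B 448345497600) : TrO (gen (wds g cAth_W) cAtl7.K) (rl [7] (wds g H0.Sz.F_W)) (rl [7] (wds g H0.Sz.F_W)) 1 pt 1782 (cAtl7.Pt 0) (memO cAc7) :=
  node M (cAt_S7 M) (cAth_act M) (A_act M) (A_act M) cAtn0 ((cAe_act M).mono (by decide)) (fun _ _ => trivial) cAtn0_0 cAtn0_1 (List.forall_mem_nil _)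
theorem cAc6_e : ∀ i < 1, (dent cAc6 cAe_P (nat_lit 1782)) i = 0 := allZ_sound0 cAc6_e_0
theorem cAc6_ok : DOK cAc6 cAe_P 1782 := ⟨cAc6_h, cAc6_e⟩
theorem cAtn1_1 : ∀ i < 2, (cAtn1.ent H16.Suz.P cAth_P (rl [nat_lit 7] H0.Sz.F_P) (rl [nat_lit 7] H0.Sz.F_P) cAe_P (nat_lit 7) (nat_lit 1) H16.Suz.B cAtl6 [cAtl7] (memO cAc6)) i = 0 := allZ_sound0 cAtn1_1_0
theorem cAtn1_t {G Ω : Type*} [Group G] [MulAction G Ω] {g : ℕ → G} {pt : ℕ → Ω}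
    (M : Md g pt H16.Suz.P 1782 7 H16.Suz.B 448345497600) : TrO (gen (wds g cAth_W) cAtl6.K) (rl [7] (wds g H0.Sz.F_W)) (rl [7] (wds g H0.Sz.F_W)) 1 pt 1782 (cAtl6.Pt 0) (memO cAc6) :=
  node M (cAt_S6 M) (cAth_act M) (A_act M) (A_act M) cAtn1 ((cAe_act M).mono (by decide)) (fun _ _ => trivial) cAtn1_0 cAtn1_1 (List.forall_mem_nil _)
theorem cAc5_e : ∀ i < 1, (dent cAc5 cAe_P (nat_lit 1782)) i = 0 := allZ_sound0 cAc5_e_0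
theorem cAc5_ok : DOK cAc5 cAe_P 1782 := ⟨cAc5_h, cAc5_e⟩
theorem cAtn2_1 : ∀ i < 2, (cAtn2.ent H16.Suz.P cAth_P (rl [nat_lit 7] H0.Sz.F_P) (rl [nat_lit 7] H0.Sz.F_P) cAe_P (nat_lit 7) (nat_lit 1) H16.Suz.B cAtl5 [cAtl6, cAtl7] (memO cAc5)) i = 0 := allZ_sound0 cAtn2_1_0
theorem cAtn2_t {G Ω : Type*} [Group G] [MulAction G Ω] {g : ℕ → G} {pt : ℕ → Ω}
    (M : Md g pt H16.Suz.P 1782 7 H16.Suz.B 448345497600) : TrO (gen (wds g cAth_W) cAtl5.K) (rl [7] (wds g H0.Sz.F_W)) (rl [7] (wds g H0.Sz.F_W)) 1 pt 1782 (cAtl5.Pt 0) (memO cAc5) :=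
  node M (cAt_S5 M) (cAth_act M) (A_act M) (A_act M) cAtn2 ((cAe_act M).mono (by decide)) (fun _ _ => trivial) cAtn2_0 cAtn2_1 (List.forall_mem_nil _)
theorem cAc4_e : ∀ i < 20, (dent cAc4 cAe_P (nat_lit 1782)) i = 0 := allZ_sound0 cAc4_e_0
theorem cAc4_ok : DOK cAc4 cAe_P 1782 := ⟨cAc4_h, cAc4_e⟩
theorem cAtn3_1 : ∀ i < 21, (cAtn3.ent H16.Suz.P cAth_P (rl [nat_lit 7] H0.Sz.F_P) (rl [nat_lit 7] H0.Sz.F_P) cAe_P (nat_lit 7) (nat_lit 1) H16.Suz.B cAtl4 [cAtl5, cAtl6, cAtl7] (memO cAc4)) i = 0 := allZ_sound0 cAtn3_1_0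
theorem cAtn3_t {G Ω : Type*} [Group G] [MulAction G Ω] {g : ℕ → G} {pt : ℕ → Ω}
    (M : Md g pt H16.Suz.P 1782 7 H16.Suz.B 448345497600) : TrO (gen (wds g cAth_W) cAtl4.K) (rl [7] (wds g H0.Sz.F_W)) (rl [7] (wds g H0.Sz.F_W)) 1 pt 1782 (cAtl4.Pt 0) (memO cAc4) :=
  node M (cAt_S4 M) (cAth_act M) (A_act M) (A_act M) cAtn3 ((cAe_act M).mono (by decide)) (fun _ _ => trivial) cAtn3_0 cAtn3_1 (List.forall_mem_nil _)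
theorem cAc1_e : ∀ i < 359, (dent cAc1 cAe_P (nat_lit 1782)) i = 0 := allZ_sound0 cAc1_e_0
theorem cAc1_ok : DOK cAc1 cAe_P 1782 := ⟨cAc1_h, cAc1_e⟩
theorem cAtn4_1 : ∀ i < 416, (cAtn4.ent H16.Suz.P cAth_P (rl [nat_lit 7] H0.Sz.F_P) (rl [nat_lit 7] H0.Sz.F_P) cAe_P (nat_lit 7) (nat_lit 1) H16.Suz.B cAtl1 [cAtl2, cAtl3, cAtl4, cAtl5, cAtl6, cAtl7] (memO cAc1)) i = 0 := allZ_sound0 cAtn4_1_0
theorem cAtn4_t {G Ω : Type*} [Group G] [MulAction G Ω] {g : ℕ → G} {pt : ℕ → Ω}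
    (M : Md g pt H16.Suz.P 1782 7 H16.Suz.B 448345497600) : TrO (gen (wds g cAth_W) cAtl1.K) (rl [7] (wds g H0.Sz.F_W)) (rl [7] (wds g H0.Sz.F_W)) 1 pt 1782 (cAtl1.Pt 0) (memO cAc1) :=
  node M (cAt_S1 M) (cAth_act M) (A_act M) (A_act M) cAtn4 ((cAe_act M).mono (by decide)) (fun _ _ => trivial) cAtn4_0 cAtn4_1 (List.forall_mem_nil _)
theorem cAc0_e : ∀ i < 161, (dent cAc0 cAe_P (nat_lit 1782)) i = 0 := allZ_sound0 cAc0_e_0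
theorem cAc0_ok : DOK cAc0 cAe_P 1782 := ⟨cAc0_h, cAc0_e⟩
theorem cAtn5_1 : ∀ i < 1782, (cAtn5.ent H16.Suz.P cAth_P (rl [nat_lit 7] H0.Sz.F_P) (rl [nat_lit 7] H0.Sz.F_P) cAe_P (nat_lit 7) (nat_lit 1) H16.Suz.B cAtl0 [cAtl1, cAtl2, cAtl3, cAtl4, cAtl5, cAtl6, cAtl7] (memO cAc0)) i = 0 := allZ_sound0 cAtn5_1_0
theorem cAtn5_t {G Ω : Type*} [Group G] [MulAction G Ω] {g : ℕ → G} {pt : ℕ → Ω}
    (M : Md g pt H16.Suz.P 1782 7 H16.Suz.B 448345497600) : TrO (gen (wds g cAth_W) cAtl0.K) (rl [7] (wds g H0.Sz.F_W)) (rl [7] (wds g H0.Sz.F_W)) 1 pt 1782 (cAtl0.Pt 0) (memO cAc0) :=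
  node M (cAt_S0 M) (cAth_act M) (A_act M) (A_act M) cAtn5 ((cAe_act M).mono (by decide)) (fun _ _ => trivial) cAtn5_0 cAtn5_1 (List.forall_mem_nil _)
theorem cA {G Ω : Type*} [Group G] [MulAction G Ω] {g : ℕ → G} {pt : ℕ → Ω}
    (M : Md g pt H16.Suz.P 1782 7 H16.Suz.B 448345497600) : Cen ⊤ (rl [7] (wds g H0.Sz.F_W)) 1 (wds g cAe_W) pt 1782 [cAc0, cAc1, cAc4, cAc5, cAc6, cAc7] :=
  (cAt_S0 M).top ▸ Cen.lev M (cAt_S0 M) (Cen.lev M (cAt_S1 M) (Cen.triv (cAt_S2 M) (Cen.triv (cAt_S3 M) (Cen.lev M (cAt_S4 M) (Cen.lev M (cAt_S5 M) (Cen.lev M (cAt_S6 M) (Cen.lev M (cAt_S7 M) (Cen.bot) (cAtn0_t M) (A_act M) (cAe_act M) (fun _ _ => trivial) cAc7_ok cA_f7) (cAtn1_t M) (A_act M) (cAe_act M) (fun _ _ => trivial) cAc6_ok cA_f6) (cAtn2_t M) (A_act M) (cAe_act M) (fun _ _ => trivial) cAc5_ok cA_f5) (cAtn3_t M) (A_act M) (cAe_act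 M) (fun _ _ => trivial) cAc4_ok cA_f4) (forced (cAt_S3 M) (cAth_act M) (A_act M) _ _ cA_f3)) (forced (cAt_S2 M) (cAth_act M) (A_act M) _ _ cA_f2)) (cAtn4_t M) (A_act M) (cAe_act M) (fun _ _ => trivial) cAc1_ok cA_f1) (cAtn5_t M) (A_act M) (cAe_act M) (fun _ _ => trivial) cAc0_ok cA_f0
theorem cA_card {G Ω : Type*} [Group G] [MulAction G Ω] {g : ℕ → G} {pt : ℕ → Ω}
    (M : Md g pt H16.Suz.P 1782 7 H16.Suz.B 448345497600) : Nat.card (Subgroup.centralizer {(rl [7] (wds g H0.Sz.F_W)) 0}) = 9797760 :=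
  (cA M).card_cent1 M.inj cA_c.1
theorem cA_eq {G Ω : Type*} [Group G] [MulAction G Ω] {g : ℕ → G} {pt : ℕ → Ω}
    (M : Md g pt H16.Suz.P 1782 7 H16.Suz.B 448345497600) : Subgroup.centralizer (gen (rl [7] (wds g H0.Sz.F_W)) 1) = gen (wds g cAe_W) 8 ∧ Nat.card (gen (wds g cAe_W) 8) = 9797760 :=
  cA_c.1 ▸ cA_c.2 ▸ ⟨(cA M).cent, (cA M).card M.inj⟩
theorem u_act {G Ω : Type*} [Group G] [MulAction G Ω] {g : ℕ → G} {pt : ℕ → Ω}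
    (M : Md g pt H16.Suz.P 1782 7 H16.Suz.B 448345497600) : Act (wds g u_W) pt u_P 1782 12 :=
  M.wact u_lt
theorem ua {G Ω : Type*} [Group G] [MulAction G Ω] {g : ℕ → G} {pt : ℕ → Ω}
    (M : Md g pt H16.Suz.P 1782 7 H16.Suz.B 448345497600) : gen (wds g u_W) 12 ≤ Subgroup.centralizer (gen (rl [7] (wds g H0.Sz.F_W)) 1 : Set G) :=
  H0.Fi.comm_all M (A_act M) (u_act M) ua_k
theorem uc {G Ω : Type*} [Group G] [MulAction G Ω] {g : ℕ → G} {pt : ℕ → Ω}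
    (M : Md g pt H16.Suz.P 1782 7 H16.Suz.B 448345497600) : evA (wds g u_W) [11, 10] = evA (wds g u_W) [10, 11, 9] :=
  M.eq_of (u_act M) uc_k
theorem un {G Ω : Type*} [Group G] [MulAction G Ω] {g : ℕ → G} {pt : ℕ → Ω}
    (M : Md g pt H16.Suz.P 1782 7 H16.Suz.B 448345497600) : evA (wds g u_W) [8, 2] ≠ evA (wds g u_W) [2, 8] :=
  M.nrel (u_act M) _ un_k
theorem v_m_0 : ∀ i < 1782, (matEnt (wdsP H16.Suz.P v_W) v_P (nat_lit 0)) i = 0 := allZ_sound0 v_m_0_0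
theorem v_m_1 : ∀ i < 1782, (matEnt (wdsP H16.Suz.P v_W) v_P (nat_lit 1)) i = 0 := allZ_sound0 v_m_1_0
theorem v_m_2 : ∀ i < 1782, (matEnt (wdsP H16.Suz.P v_W) v_P (nat_lit 2)) i = 0 := allZ_sound0 v_m_2_0
theorem v_m_3 : ∀ i < 1782, (matEnt (wdsP H16.Suz.P v_W) v_P (nat_lit 3)) i = 0 := allZ_sound0 v_m_3_0
theorem v_m_4 : ∀ i < 1782, (matEnt (wdsP H16.Suz.P v_W) v_P (nat_lit 4)) i = 0 := allZ_sound0 v_m_4_0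
theorem v_m_5 : ∀ i < 1782, (matEnt (wdsP H16.Suz.P v_W) v_P (nat_lit 5)) i = 0 := allZ_sound0 v_m_5_0
theorem v_m_6 : ∀ i < 1782, (matEnt (wdsP H16.Suz.P v_W) v_P (nat_lit 6)) i = 0 := allZ_sound0 v_m_6_0
theorem v_m_7 : ∀ i < 1782, (matEnt (wdsP H16.Suz.P v_W) v_P (nat_lit 7)) i = 0 := allZ_sound0 v_m_7_0
theorem v_m_8 : ∀ i < 1782, (matEnt (wdsP H16.Suz.P v_W) v_P (nat_lit 8)) i = 0 := allZ_sound0 v_m_8_0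
theorem v_m_9 : ∀ i < 1782, (matEnt (wdsP H16.Suz.P v_W) v_P (nat_lit 9)) i = 0 := allZ_sound0 v_m_9_0
theorem v_m_10 : ∀ i < 1782, (matEnt (wdsP H16.Suz.P v_W) v_P (nat_lit 10)) i = 0 := allZ_sound0 v_m_10_0
theorem v_m_11 : ∀ i < 1782, (matEnt (wdsP H16.Suz.P v_W) v_P (nat_lit 11)) i = 0 := allZ_sound0 v_m_11_0
theorem v_m : ∀ k < 12, ∀ i < 1782, (matEnt (wdsP H16.Suz.P v_W) v_P) k i = 0 :=
  letters_glue (letters_glue (letters_glue (letters_glue (letters_glue (letters_glue (letters_glue (letters_glue (letters_glue (letters_glue (letters_glue (letters_glue (letters_nil) v_m_0) v_m_1) v_m_2) v_m_3) v_m_4) v_m_5) v_m_6) v_m_7) v_m_8) v_m_9) v_m_10) v_m_11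
theorem v_act {G Ω : Type*} [Group G] [MulAction G Ω] {g : ℕ → G} {pt : ℕ → Ω}
    (M : Md g pt H16.Suz.P 1782 7 H16.Suz.B 448345497600) : Act (wds g v_W) pt v_P 1782 12 :=
  act_mat (M.wact v_lt) v_m
theorem vA_act {G Ω : Type*} [Group G] [MulAction G Ω] {g : ℕ → G} {pt : ℕ → Ω}
    (M : Md g pt H16.Suz.P 1782 7 H16.Suz.B 448345497600) : Act (rl [7, 8, 9, 10, 11] (wds g v_W)) pt (rl [nat_lit 7, nat_lit 8, nat_lit 9, nat_lit 10, nat_lit 11] v_P) 1782 5 :=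
  (v_act M).rl (by decide)
theorem vpl0_e : ∀ i < 80, (dent vpl0 (wdsP (rl [nat_lit 7, nat_lit 8, nat_lit 9, nat_lit 10, nat_lit 11] v_P) vpe) (nat_lit 1782)) i = 0 := allZ_sound0 vpl0_e_0
theorem vpl0_ok : DOK vpl0 (wdsP (rl [nat_lit 7, nat_lit 8, nat_lit 9, nat_lit 10, nat_lit 11] v_P) vpe) 1782 := ⟨vpl0_h, vpl0_e⟩
theorem vpl1_e : ∀ i < 2, (dent vpl1 (wdsP (rl [nat_lit 7, nat_lit 8, nat_lit 9, nat_lit 10, nat_lit 11] v_P) vpe) (nat_lit 1782)) i = 0 := allZ_sound0 vpl1_e_0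
theorem vpl1_ok : DOK vpl1 (wdsP (rl [nat_lit 7, nat_lit 8, nat_lit 9, nat_lit 10, nat_lit 11] v_P) vpe) 1782 := ⟨vpl1_h, vpl1_e⟩
theorem vp_low {G Ω : Type*} [Group G] [MulAction G Ω] {g : ℕ → G} {pt : ℕ → Ω}
    (M : Md g pt H16.Suz.P 1782 7 H16.Suz.B 448345497600) : SLow (gi (wds (rl [7, 8, 9, 10, 11] (wds g v_W)) vpe)) pt 1782 [vpl0, vpl1] :=
  ((SLow.nil).cons vpl1_ok (((vA_act M).mono (by decide : 5 ≤ 5)).wds vp_e 10) vp_f1).cons vpl0_ok (((vA_act M).mono (by decide : 5 ≤ 5)).wds vp_e 10) vp_f0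
theorem vp {G Ω : Type*} [Group G] [MulAction G Ω] {g : ℕ → G} {pt : ℕ → Ω}
    (M : Md g pt H16.Suz.P 1782 7 H16.Suz.B 448345497600) : PC0 (rl [7, 8, 9, 10, 11] (wds g v_W)) 5 3 ∧ Nat.card (gen (rl [7, 8, 9, 10, 11] (wds g v_W)) 5) = 3 ^ 5 :=
  have := M.fin
  have h := (M.sm.of_act ((vA_act M).mono (by decide : 5 ≤ 5))).pc0 (by decide) vp_p
  ⟨h, le_antisymm (h.card_le' le_rfl) (vp_c ▸ ((vp_low M).card_ge M.inj).trans (Subgroup.card_le_of_le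
    (by rw [gen_gi]; exact gen_le.2 fun k _ => evA_mem_gen _ (nth_lt vp_e k))))⟩
theorem vc {G Ω : Type*} [Group G] [MulAction G Ω] {g : ℕ → G} {pt : ℕ → Ω}
    (M : Md g pt H16.Suz.P 1782 7 H16.Suz.B 448345497600) : gen (rl [7, 8, 9, 10, 11] (wds g v_W)) 5 ≤ Subgroup.centralizer (gen (rl [7, 8, 9, 10, 11] (wds g v_W)) 5 : Set G) :=
  H0.Fi.comm_all M (vA_act M) (vA_act M) vc_k
theorem vw {G Ω : Type*} [Group G] [MulAction G Ω] {g : ℕ → G} {pt : ℕ → Ω}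
    (M : Md g pt H16.Suz.P 1782 7 H16.Suz.B 448345497600) : ∀ k < 5, (rl [7, 8, 9, 10, 11] (wds g v_W)) k ^ 3 = 1 :=
  H0.Fi.pw_all M (vA_act M) vw_k
theorem vn {G Ω : Type*} [Group G] [MulAction G Ω] {g : ℕ → G} {pt : ℕ → Ω}
    (M : Md g pt H16.Suz.P 1782 7 H16.Suz.B 448345497600) : gen (wds g v_W) 12 ≤ Subgroup.normalizer (gen (rl [7, 8, 9, 10, 11] (wds g v_W)) 5 : Set G) :=
  H0.Fi.norm_all M (vA_act M) (v_act M) vn_k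
theorem vr {G Ω : Type*} [Group G] [MulAction G Ω] {g : ℕ → G} {pt : ℕ → Ω}
    (M : Md g pt H16.Suz.P 1782 7 H16.Suz.B 448345497600) : Rels (wds g v_W) H15.MM11.Rl :=
  rels_of_base (v_act M) M.ltB (M.base.mono le_top) vr_k
theorem vm {G Ω : Type*} [Group G] [MulAction G Ω] {g : ℕ → G} {pt : ℕ → Ω}
    (M : Md g pt H16.Suz.P 1782 7 H16.Suz.B 448345497600) : evA (wds g v_W) [4, 7] ≠ evA (wds g v_W) [7, 4] :=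
  M.nrel (v_act M) _ vm_k
theorem vo_e : ∀ i < 243, (H0.Fi.orbEnt (rl [nat_lit 7, nat_lit 8, nat_lit 9, nat_lit 10, nat_lit 11] v_P) v_P (nat_lit 3) (nat_lit 5) (nat_lit 7) H16.Suz.B voD voL vor voq voR) i = 0 := allZ_sound0 vo_e_0
theorem vo {G Ω : Type*} [Group G] [MulAction G Ω] {g : ℕ → G} {pt : ℕ → Ω}
    (M : Md g pt H16.Suz.P 1782 7 H16.Suz.B 448345497600) : ∀ c < 3 ^ 5, c ≠ 0 → ∃ a ∈ gen (wds g v_W) 7,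
      a * evA (rl [7, 8, 9, 10, 11] (wds g v_W)) (H0.Fi.digW 3 0 5 c) * a⁻¹ = evA (rl [7, 8, 9, 10, 11] (wds g v_W)) (H0.Fi.digW 3 0 5 (nth 0 voR (voq c))) :=
  H0.Fi.orb_sound M (vA_act M) ((v_act M).mono (by decide : 7 ≤ 12)) vo_e
theorem vCth_act {G Ω : Type*} [Group G] [MulAction G Ω] {g : ℕ → G} {pt : ℕ → Ω}
    (M : Md g pt H16.Suz.P 1782 7 H16.Suz.B 448345497600) : Act (wds g vCth_W) pt vCth_P 1782 15 :=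
  M.wact vCth_lt
theorem vCtl0_e : ∀ i < 1781, (dent vCtl0 vCth_P (nat_lit 1782)) i = 0 := allZ_sound0 vCtl0_e_0
theorem vCtl0_ok : DOK vCtl0 vCth_P 1782 := ⟨vCtl0_h, vCtl0_e⟩
theorem vCtl1_e : ∀ i < 415, (dent vCtl1 vCth_P (nat_lit 1782)) i = 0 := allZ_sound0 vCtl1_e_0
theorem vCtl1_ok : DOK vCtl1 vCth_P 1782 := ⟨vCtl1_h, vCtl1_e⟩
theorem vCtl2_e : ∀ i < 99, (dent vCtl2 vCth_P (nat_lit 1782)) i = 0 := allZ_sound0 vCtl2_e_0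
theorem vCtl2_ok : DOK vCtl2 vCth_P 1782 := ⟨vCtl2_h, vCtl2_e⟩
theorem vCtl3_e : ∀ i < 251, (dent vCtl3 vCth_P (nat_lit 1782)) i = 0 := allZ_sound0 vCtl3_e_0
theorem vCtl3_ok : DOK vCtl3 vCth_P 1782 := ⟨vCtl3_h, vCtl3_e⟩
theorem vCtl4_e : ∀ i < 7, (dent vCtl4 vCth_P (nat_lit 1782)) i = 0 := allZ_sound0 vCtl4_e_0
theorem vCtl4_ok : DOK vCtl4 vCth_P 1782 := ⟨vCtl4_h, vCtl4_e⟩
theorem vCtl5_e : ∀ i < 2, (dent vCtl5 vCth_P (nat_lit 1782)) i = 0 := allZ_sound0 vCtl5_e_0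
theorem vCtl5_ok : DOK vCtl5 vCth_P 1782 := ⟨vCtl5_h, vCtl5_e⟩
theorem vCt_low {G Ω : Type*} [Group G] [MulAction G Ω] {g : ℕ → G} {pt : ℕ → Ω}
    (M : Md g pt H16.Suz.P 1782 7 H16.Suz.B 448345497600) : SLow (gi (wds g vCth_W)) pt 1782 [vCtl0, vCtl1, vCtl2, vCtl3, vCtl4, vCtl5] :=
  ((((((SLow.nil).cons vCtl5_ok (vCth_act M) vCt_f5).cons vCtl4_ok (vCth_act M) vCt_f4).cons vCtl3_ok (vCth_act M) vCt_f3).cons vCtl2_ok (vCth_act M) vCt_f2).cons vCtl1_ok (vCth_act M) vCt_f1).cons vCtl0_ok (vCth_act M) vCt_f0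
theorem vCt_S0 {G Ω : Type*} [Group G] [MulAction G Ω] {g : ℕ → G} {pt : ℕ → Ω}
    (M : Md g pt H16.Suz.P 1782 7 H16.Suz.B 448345497600) : Stage ⊤ (wds g vCth_W) pt 1782 [vCtl0, vCtl1, vCtl2, vCtl3, vCtl4, vCtl5] [] :=
  M.stage (vCt_low M) vCt_c
theorem vCt_S1 {G Ω : Type*} [Group G] [MulAction G Ω] {g : ℕ → G} {pt : ℕ → Ω}
    (M : Md g pt H16.Suz.P 1782 7 H16.Suz.B 448345497600) : Stage ⊤ (wds g vCth_W) pt 1782 [vCtl1, vCtl2, vCtl3, vCtl4, vCtl5] [vCtl0.Pt 0] :=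
  (vCt_S0 M).next
theorem vCt_S2 {G Ω : Type*} [Group G] [MulAction G Ω] {g : ℕ → G} {pt : ℕ → Ω}
    (M : Md g pt H16.Suz.P 1782 7 H16.Suz.B 448345497600) : Stage ⊤ (wds g vCth_W) pt 1782 [vCtl2, vCtl3, vCtl4, vCtl5] [vCtl1.Pt 0, vCtl0.Pt 0] :=
  (vCt_S1 M).next
theorem vCt_S3 {G Ω : Type*} [Group G] [MulAction G Ω] {g : ℕ → G} {pt : ℕ → Ω}
    (M : Md g pt H16.Suz.P 1782 7 H16.Suz.B 448345497600) : Stage ⊤ (wds g vCth_W) pt 1782 [vCtl3, vCtl4, vCtl5] [vCtl2.Pt 0, vCtl1.Pt 0, vCtl0.Pt 0] :=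
  (vCt_S2 M).next
theorem vCt_S4 {G Ω : Type*} [Group G] [MulAction G Ω] {g : ℕ → G} {pt : ℕ → Ω}
    (M : Md g pt H16.Suz.P 1782 7 H16.Suz.B 448345497600) : Stage ⊤ (wds g vCth_W) pt 1782 [vCtl4, vCtl5] [vCtl3.Pt 0, vCtl2.Pt 0, vCtl1.Pt 0, vCtl0.Pt 0] :=
  (vCt_S3 M).next
theorem vCt_S5 {G Ω : Type*} [Group G] [MulAction G Ω] {g : ℕ → G} {pt : ℕ → Ω}
    (M : Md g pt H16.Suz.P 1782 7 H16.Suz.B 448345497600) : Stage ⊤ (wds g vCth_W) pt 1782 [vCtl5] [vCtl4.Pt 0, vCtl3.Pt 0, vCtl2.Pt 0, vCtl1.Pt 0, vCtl0.Pt 0] :=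
  (vCt_S4 M).next
theorem vCt_S6 {G Ω : Type*} [Group G] [MulAction G Ω] {g : ℕ → G} {pt : ℕ → Ω}
    (M : Md g pt H16.Suz.P 1782 7 H16.Suz.B 448345497600) : Stage ⊤ (wds g vCth_W) pt 1782 [] [vCtl5.Pt 0, vCtl4.Pt 0, vCtl3.Pt 0, vCtl2.Pt 0, vCtl1.Pt 0, vCtl0.Pt 0] :=
  (vCt_S5 M).next
theorem vCe_act {G Ω : Type*} [Group G] [MulAction G Ω] {g : ℕ → G} {pt : ℕ → Ω}
    (M : Md g pt H16.Suz.P 1782 7 H16.Suz.B 448345497600) : Act (wds g vCe_W) pt vCe_P 1782 7 :=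
  M.wact vCe_lt
theorem vCc5_e : ∀ i < 2, (dent vCc5 vCe_P (nat_lit 1782)) i = 0 := allZ_sound0 vCc5_e_0
theorem vCc5_ok : DOK vCc5 vCe_P 1782 := ⟨vCc5_h, vCc5_e⟩
theorem vCtn0_1 : ∀ i < 3, (vCtn0.ent H16.Suz.P vCth_P (rl [nat_lit 7, nat_lit 8, nat_lit 9, nat_lit 10, nat_lit 11] v_P) (rl [nat_lit 7, nat_lit 8, nat_lit 9, nat_lit 10, nat_lit 11] v_P) vCe_P (nat_lit 7) (nat_lit 3) H16.Suz.B vCtl5 [] (memO vCc5)) i = 0 := allZ_sound0 vCtn0_1_0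
theorem vCtn0_t {G Ω : Type*} [Group G] [MulAction G Ω] {g : ℕ → G} {pt : ℕ → Ω}
    (M : Md g pt H16.Suz.P 1782 7 H16.Suz.B 448345497600) : TrO (gen (wds g vCth_W) vCtl5.K) (rl [7, 8, 9, 10, 11] (wds g v_W)) (rl [7, 8, 9, 10, 11] (wds g v_W)) 3 pt 1782 (vCtl5.Pt 0) (memO vCc5) :=
  node M (vCt_S5 M) (vCth_act M) ((vA_act M).mono (by decide : 3 ≤ 5)) ((vA_act M).mono (by decide : 3 ≤ 5)) vCtn0 ((vCe_act M).mono (by decide)) (fun _ _ => trivial) vCtn0_0 vCtn0_1 (List.forall_mem_nil _)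
theorem vCc0_e : ∀ i < 161, (dent vCc0 vCe_P (nat_lit 1782)) i = 0 := allZ_sound0 vCc0_e_0
theorem vCc0_ok : DOK vCc0 vCe_P 1782 := ⟨vCc0_h, vCc0_e⟩
theorem vCtn1_1 : ∀ i < 1782, (vCtn1.ent H16.Suz.P vCth_P (rl [nat_lit 7, nat_lit 8, nat_lit 9, nat_lit 10, nat_lit 11] v_P) (rl [nat_lit 7, nat_lit 8, nat_lit 9, nat_lit 10, nat_lit 11] v_P) vCe_P (nat_lit 7) (nat_lit 3) H16.Suz.B vCtl0 [vCtl1, vCtl2, vCtl3, vCtl4, vCtl5] (memO vCc0)) i = 0 := allZ_sound0 vCtn1_1_0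
theorem vCtn1_t {G Ω : Type*} [Group G] [MulAction G Ω] {g : ℕ → G} {pt : ℕ → Ω}
    (M : Md g pt H16.Suz.P 1782 7 H16.Suz.B 448345497600) : TrO (gen (wds g vCth_W) vCtl0.K) (rl [7, 8, 9, 10, 11] (wds g v_W)) (rl [7, 8, 9, 10, 11] (wds g v_W)) 3 pt 1782 (vCtl0.Pt 0) (memO vCc0) :=
  node M (vCt_S0 M) (vCth_act M) ((vA_act M).mono (by decide : 3 ≤ 5)) ((vA_act M).mono (by decide : 3 ≤ 5)) vCtn1 ((vCe_act M).mono (by decide)) (fun _ _ => trivial) vCtn1_0 vCtn1_1 (List.forall_mem_nil _)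
theorem vC {G Ω : Type*} [Group G] [MulAction G Ω] {g : ℕ → G} {pt : ℕ → Ω}
    (M : Md g pt H16.Suz.P 1782 7 H16.Suz.B 448345497600) : Cen ⊤ (rl [7, 8, 9, 10, 11] (wds g v_W)) 3 (wds g vCe_W) pt 1782 [vCc0, vCc5] :=
  (vCt_S0 M).top ▸ Cen.lev M (vCt_S0 M) (Cen.triv (vCt_S1 M) (Cen.triv (vCt_S2 M) (Cen.triv (vCt_S3 M) (Cen.triv (vCt_S4 M) (Cen.lev M (vCt_S5 M) (Cen.bot) (vCtn0_t M) ((vA_act M).mono (by decide : 3 ≤ 5)) (vCe_act M) (fun _ _ => trivial) vCc5_ok vC_f5) (forced (vCt_S4 M) (vCth_act M) ((vA_act M).mono (by decide : 3 ≤ 5)) _ _ vC_f4)) (forced (vCt_S3 M) (vCth_act M) ((vA_act M).mono (by decide : 3 ≤ 5)) _ _ vC_f3)) (forced (vCt_S2 M) (vCth_act M) ((vA_act M).mono (by decide : 3 ≤ 5)) _ _ vC_f2)) (forced (vCt_S1 M) (vCth_act M) ((vA_act M).mono (by decide : 3 ≤ 5)) _ _ vC_f1)) (vCtn1_t M) ((vA_act M).mono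 (by decide : 3 ≤ 5)) (vCe_act M) (fun _ _ => trivial) vCc0_ok vC_f0
theorem vC_eq {G Ω : Type*} [Group G] [MulAction G Ω] {g : ℕ → G} {pt : ℕ → Ω}
    (M : Md g pt H16.Suz.P 1782 7 H16.Suz.B 448345497600) : Subgroup.centralizer (gen (rl [7, 8, 9, 10, 11] (wds g v_W)) 3) = gen (wds g vCe_W) 7 ∧ Nat.card (gen (wds g vCe_W) 7) = 486 :=
  vC_c.1 ▸ vC_c.2 ▸ ⟨(vC M).cent, (vC M).card M.inj⟩
theorem vy_act {G Ω : Type*} [Group G] [MulAction G Ω] {g : ℕ → G} {pt : ℕ → Ω}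
    (M : Md g pt H16.Suz.P 1782 7 H16.Suz.B 448345497600) : Act (wds (rl [7, 8, 9, 10, 11] (wds g v_W)) vy_W) pt vy_P 1782 3 :=
  (vA_act M).wds vy_lt _
theorem vCtr2k_act {G Ω : Type*} [Group G] [MulAction G Ω] {g : ℕ → G} {pt : ℕ → Ω}
    (M : Md g pt H16.Suz.P 1782 7 H16.Suz.B 448345497600) : Act (wds g vCtr2k_W) pt vCtr2k_P 1782 5 :=
  M.wact vCtr2k_lt
theorem vCtn2_1 : ∀ i < 1782, (vCtn2.ent H16.Suz.P vCth_P (rl [nat_lit 7, nat_lit 8, nat_lit 9, nat_lit 10, nat_lit 11] v_P) vy_P vCtr2k_P (nat_lit 7) (nat_lit 3) H16.Suz.B vCtl0 [vCtl1, vCtl2, vCtl3, vCtl4, vCtl5] (fun _ => nat_lit 1)) i = 0 := allZ_sound0 vCtn2_1_0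
theorem vCtn2_t {G Ω : Type*} [Group G] [MulAction G Ω] {g : ℕ → G} {pt : ℕ → Ω}
    (M : Md g pt H16.Suz.P 1782 7 H16.Suz.B 448345497600) : TrO (gen (wds g vCth_W) vCtl0.K) (rl [7, 8, 9, 10, 11] (wds g v_W)) (wds (rl [7, 8, 9, 10, 11] (wds g v_W)) vy_W) 3 pt 1782 (vCtl0.Pt 0) (fun _ => nat_lit 1) :=
  node M (vCt_S0 M) (vCth_act M) ((vA_act M).mono (by decide : 3 ≤ 5)) (vy_act M) vCtn2 ((vCtr2k_act M).mono (by decide)) (fun _ _ => trivial) vCtn2_0 vCtn2_1 (List.forall_mem_nil _)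
theorem vCtr2 {G Ω : Type*} [Group G] [MulAction G Ω] {g : ℕ → G} {pt : ℕ → Ω}
    (M : Md g pt H16.Suz.P 1782 7 H16.Suz.B 448345497600) : Ref (gen (wds g vCth_W) (topK [vCtl0, vCtl1, vCtl2, vCtl3, vCtl4, vCtl5])) (rl [7, 8, 9, 10, 11] (wds g v_W)) (wds (rl [7, 8, 9, 10, 11] (wds g v_W)) vy_W) 3 :=
  (vCtn2_t M).ref
theorem vq {G Ω : Type*} [Group G] [MulAction G Ω] {g : ℕ → G} {pt : ℕ → Ω}
    (M : Md g pt H16.Suz.P 1782 7 H16.Suz.B 448345497600) : Ref ⊤ (rl [7, 8, 9, 10, 11] (wds g v_W)) (wds (rl [7, 8, 9, 10, 11] (wds g v_W)) vy_W) 3 :=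
  (vCt_S0 M).top ▸ vCtr2 M
theorem vK_act {G Ω : Type*} [Group G] [MulAction G Ω] {g : ℕ → G} {pt : ℕ → Ω}
    (M : Md g pt H16.Suz.P 1782 7 H16.Suz.B 448345497600) : Act (wds (wds g v_W) vK_W) pt vK_P 1782 3 :=
  (v_act M).wds vK_lt _
theorem vL {G Ω : Type*} [Group G] [MulAction G Ω] {g : ℕ → G} {pt : ℕ → Ω}
    (M : Md g pt H16.Suz.P 1782 7 H16.Suz.B 448345497600) : gen (wds (wds g v_W) vK_W) 3 ≤ Subgroup.centralizer (gen (rl [7, 8, 9, 10, 11] (wds g v_W)) 2 : Set G) :=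
  H0.Fi.comm_all M ((vA_act M).mono (by decide : 2 ≤ 5)) (vK_act M) vL_k
theorem vs_e : ∀ i < 243, (H0.Fi.orbEnt (rl [nat_lit 7, nat_lit 8, nat_lit 9, nat_lit 10, nat_lit 11] v_P) vK_P (nat_lit 3) (nat_lit 5) (nat_lit 3) H16.Suz.B vsD vsL vsr vsq vsR) i = 0 := allZ_sound0 vs_e_0
theorem vs {G Ω : Type*} [Group G] [MulAction G Ω] {g : ℕ → G} {pt : ℕ → Ω}
    (M : Md g pt H16.Suz.P 1782 7 H16.Suz.B 448345497600) : ∀ c < 3 ^ 5, c ≠ 0 → ∃ a ∈ gen (wds (wds g v_W) vK_W) 3,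
      a * evA (rl [7, 8, 9, 10, 11] (wds g v_W)) (H0.Fi.digW 3 0 5 c) * a⁻¹ = evA (rl [7, 8, 9, 10, 11] (wds g v_W)) (H0.Fi.digW 3 0 5 (nth 0 vsR (vsq c))) :=
  H0.Fi.orb_sound M (vA_act M) (vK_act M) vs_e
theorem vb_act {G Ω : Type*} [Group G] [MulAction G Ω] {g : ℕ → G} {pt : ℕ → Ω}
    (M : Md g pt H16.Suz.P 1782 7 H16.Suz.B 448345497600) : Act (wds (rl [7, 8, 9, 10, 11] (wds g v_W)) vb_W) pt vb_P 1782 1 :=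
  (vA_act M).wds vb_lt _
theorem cAtr6k_act {G Ω : Type*} [Group G] [MulAction G Ω] {g : ℕ → G} {pt : ℕ → Ω}
    (M : Md g pt H16.Suz.P 1782 7 H16.Suz.B 448345497600) : Act (wds g cAtr6k_W) pt cAtr6k_P 1782 3 :=
  M.wact cAtr6k_lt
theorem cAtn6_1 : ∀ i < 1782, (cAtn6.ent H16.Suz.P cAth_P (rl [nat_lit 7] H0.Sz.F_P) vb_P cAtr6k_P (nat_lit 7) (nat_lit 1) H16.Suz.B cAtl0 [cAtl1, cAtl2, cAtl3, cAtl4, cAtl5, cAtl6, cAtl7] (fun _ => nat_lit 1)) i = 0 := allZ_sound0 cAtn6_1_0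
theorem cAtn6_t {G Ω : Type*} [Group G] [MulAction G Ω] {g : ℕ → G} {pt : ℕ → Ω}
    (M : Md g pt H16.Suz.P 1782 7 H16.Suz.B 448345497600) : TrO (gen (wds g cAth_W) cAtl0.K) (rl [7] (wds g H0.Sz.F_W)) (wds (rl [7, 8, 9, 10, 11] (wds g v_W)) vb_W) 1 pt 1782 (cAtl0.Pt 0) (fun _ => nat_lit 1) :=
  node M (cAt_S0 M) (cAth_act M) (A_act M) (vb_act M) cAtn6 ((cAtr6k_act M).mono (by decide)) (fun _ _ => trivial) cAtn6_0 cAtn6_1 (List.forall_mem_nil _)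
theorem cAtr6 {G Ω : Type*} [Group G] [MulAction G Ω] {g : ℕ → G} {pt : ℕ → Ω}
    (M : Md g pt H16.Suz.P 1782 7 H16.Suz.B 448345497600) : Ref (gen (wds g cAth_W) (topK [cAtl0, cAtl1, cAtl2, cAtl3, cAtl4, cAtl5, cAtl6, cAtl7])) (rl [7] (wds g H0.Sz.F_W)) (wds (rl [7, 8, 9, 10, 11] (wds g v_W)) vb_W) 1 :=
  (cAtn6_t M).ref
theorem vd {G Ω : Type*} [Group G] [MulAction G Ω] {g : ℕ → G} {pt : ℕ → Ω}
    (M : Md g pt H16.Suz.P 1782 7 H16.Suz.B 448345497600) : Ref ⊤ (rl [7] (wds g H0.Sz.F_W)) (wds (rl [7, 8, 9, 10, 11] (wds g v_W)) vb_W) 1 :=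
  (cAt_S0 M).top ▸ cAtr6 M
theorem w_act {G Ω : Type*} [Group G] [MulAction G Ω] {g : ℕ → G} {pt : ℕ → Ω}
    (M : Md g pt H16.Suz.P 1782 7 H16.Suz.B 448345497600) : Act (wds g w_W) pt w_P 1782 3 :=
  M.wact w_lt
theorem wp_r : ∀ k < 1, ∀ i < 35, (resEnt w_P wpP wpE wpI (nat_lit 1782) (nat_lit 35)) k i = 0 := allZ2_sound wp_r_a
theorem wp_sm {G Ω : Type*} [Group G] [MulAction G Ω] {g : ℕ → G} {pt : ℕ → Ω}
    (M : Md g pt H16.Suz.P 1782 7 H16.Suz.B 448345497600) : Sm (wds g w_W) (fun i => pt (wpE i)) wpP 35 1 wpB ∧ ∀ i < 35, wpE i < 1782 :=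
  M.res ((w_act M).mono (by decide : 1 ≤ 3)) (by decide) wp_r wp_b
theorem wpl0_e : ∀ i < 6, (dent wpl0 (wdsP wpP wpe) (nat_lit 35)) i = 0 := allZ_sound0 wpl0_e_0
theorem wpl0_ok : DOK wpl0 (wdsP wpP wpe) 35 := ⟨wpl0_h, wpl0_e⟩
theorem wp_low {G Ω : Type*} [Group G] [MulAction G Ω] {g : ℕ → G} {pt : ℕ → Ω}
    (M : Md g pt H16.Suz.P 1782 7 H16.Suz.B 448345497600) : SLow (gi (wds (wds g w_W) wpe)) (fun i => pt (wpE i)) 35 [wpl0] :=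
  (SLow.nil).cons wpl0_ok ((wp_sm M).1.act.wds wp_e 1) wp_f0
theorem wp_pc {G Ω : Type*} [Group G] [MulAction G Ω] {g : ℕ → G} {pt : ℕ → Ω}
    (M : Md g pt H16.Suz.P 1782 7 H16.Suz.B 448345497600) : PC (wds g w_W) 1 7 :=
  have := M.fin
  ((wp_sm M).1.pc0 (by decide) wp_p).pc (wp_low M) (wp_sm M).1.inj
    (fun k => evA_mem_gen _ (nth_lt wp_e k)) M.card ⟨by decide, wp_c⟩
theorem wCth_act {G Ω : Type*} [Group G] [MulAction G Ω] {g : ℕ → G} {pt : ℕ → Ω}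
    (M : Md g pt H16.Suz.P 1782 7 H16.Suz.B 448345497600) : Act (wds g wCth_W) pt wCth_P 1782 16 :=
  M.wact wCth_lt
theorem wCtl0_e : ∀ i < 1781, (dent wCtl0 wCth_P (nat_lit 1782)) i = 0 := allZ_sound0 wCtl0_e_0
theorem wCtl0_ok : DOK wCtl0 wCth_P 1782 := ⟨wCtl0_h, wCtl0_e⟩
theorem wCtl1_e : ∀ i < 415, (dent wCtl1 wCth_P (nat_lit 1782)) i = 0 := allZ_sound0 wCtl1_e_0
theorem wCtl1_ok : DOK wCtl1 wCth_P 1782 := ⟨wCtl1_h, wCtl1_e⟩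
theorem wCtl2_e : ∀ i < 99, (dent wCtl2 wCth_P (nat_lit 1782)) i = 0 := allZ_sound0 wCtl2_e_0
theorem wCtl2_ok : DOK wCtl2 wCth_P 1782 := ⟨wCtl2_h, wCtl2_e⟩
theorem wCtl3_e : ∀ i < 62, (dent wCtl3 wCth_P (nat_lit 1782)) i = 0 := allZ_sound0 wCtl3_e_0
theorem wCtl3_ok : DOK wCtl3 wCth_P 1782 := ⟨wCtl3_h, wCtl3_e⟩
theorem wCtl4_e : ∀ i < 31, (dent wCtl4 wCth_P (nat_lit 1782)) i = 0 := allZ_sound0 wCtl4_e_0
theorem wCtl4_ok : DOK wCtl4 wCth_P 1782 := ⟨wCtl4_h, wCtl4_e⟩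
theorem wCtl5_e : ∀ i < 2, (dent wCtl5 wCth_P (nat_lit 1782)) i = 0 := allZ_sound0 wCtl5_e_0
theorem wCtl5_ok : DOK wCtl5 wCth_P 1782 := ⟨wCtl5_h, wCtl5_e⟩
theorem wCt_low {G Ω : Type*} [Group G] [MulAction G Ω] {g : ℕ → G} {pt : ℕ → Ω}
    (M : Md g pt H16.Suz.P 1782 7 H16.Suz.B 448345497600) : SLow (gi (wds g wCth_W)) pt 1782 [wCtl0, wCtl1, wCtl2, wCtl3, wCtl4, wCtl5] :=
  ((((((SLow.nil).cons wCtl5_ok (wCth_act M) wCt_f5).cons wCtl4_ok (wCth_act M) wCt_f4).cons wCtl3_ok (wCth_act M) wCt_f3).cons wCtl2_ok (wCth_act M) wCt_f2).cons wCtl1_ok (wCth_act M) wCt_f1).cons wCtl0_ok (wCth_act M) wCt_f0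
theorem wCt_S0 {G Ω : Type*} [Group G] [MulAction G Ω] {g : ℕ → G} {pt : ℕ → Ω}
    (M : Md g pt H16.Suz.P 1782 7 H16.Suz.B 448345497600) : Stage ⊤ (wds g wCth_W) pt 1782 [wCtl0, wCtl1, wCtl2, wCtl3, wCtl4, wCtl5] [] :=
  M.stage (wCt_low M) wCt_c
theorem wCt_S1 {G Ω : Type*} [Group G] [MulAction G Ω] {g : ℕ → G} {pt : ℕ → Ω}
    (M : Md g pt H16.Suz.P 1782 7 H16.Suz.B 448345497600) : Stage ⊤ (wds g wCth_W) pt 1782 [wCtl1, wCtl2, wCtl3, wCtl4, wCtl5] [wCtl0.Pt 0] :=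
  (wCt_S0 M).next
theorem wCt_S2 {G Ω : Type*} [Group G] [MulAction G Ω] {g : ℕ → G} {pt : ℕ → Ω}
    (M : Md g pt H16.Suz.P 1782 7 H16.Suz.B 448345497600) : Stage ⊤ (wds g wCth_W) pt 1782 [wCtl2, wCtl3, wCtl4, wCtl5] [wCtl1.Pt 0, wCtl0.Pt 0] :=
  (wCt_S1 M).next
theorem wCt_S3 {G Ω : Type*} [Group G] [MulAction G Ω] {g : ℕ → G} {pt : ℕ → Ω}
    (M : Md g pt H16.Suz.P 1782 7 H16.Suz.B 448345497600) : Stage ⊤ (wds g wCth_W) pt 1782 [wCtl3, wCtl4, wCtl5] [wCtl2.Pt 0, wCtl1.Pt 0, wCtl0.Pt 0] :=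
  (wCt_S2 M).next
theorem wCt_S4 {G Ω : Type*} [Group G] [MulAction G Ω] {g : ℕ → G} {pt : ℕ → Ω}
    (M : Md g pt H16.Suz.P 1782 7 H16.Suz.B 448345497600) : Stage ⊤ (wds g wCth_W) pt 1782 [wCtl4, wCtl5] [wCtl3.Pt 0, wCtl2.Pt 0, wCtl1.Pt 0, wCtl0.Pt 0] :=
  (wCt_S3 M).next
theorem wCt_S5 {G Ω : Type*} [Group G] [MulAction G Ω] {g : ℕ → G} {pt : ℕ → Ω}
    (M : Md g pt H16.Suz.P 1782 7 H16.Suz.B 448345497600) : Stage ⊤ (wds g wCth_W) pt 1782 [wCtl5] [wCtl4.Pt 0, wCtl3.Pt 0, wCtl2.Pt 0, wCtl1.Pt 0, wCtl0.Pt 0] :=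
  (wCt_S4 M).next
theorem wCt_S6 {G Ω : Type*} [Group G] [MulAction G Ω] {g : ℕ → G} {pt : ℕ → Ω}
    (M : Md g pt H16.Suz.P 1782 7 H16.Suz.B 448345497600) : Stage ⊤ (wds g wCth_W) pt 1782 [] [wCtl5.Pt 0, wCtl4.Pt 0, wCtl3.Pt 0, wCtl2.Pt 0, wCtl1.Pt 0, wCtl0.Pt 0] :=
  (wCt_S5 M).next
theorem wCe_act {G Ω : Type*} [Group G] [MulAction G Ω] {g : ℕ → G} {pt : ℕ → Ω}
    (M : Md g pt H16.Suz.P 1782 7 H16.Suz.B 448345497600) : Act (wds g wCe_W) pt wCe_P 1782 3 :=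
  M.wact wCe_lt
theorem wCc2_e : ∀ i < 6, (dent wCc2 wCe_P (nat_lit 1782)) i = 0 := allZ_sound0 wCc2_e_0
theorem wCc2_ok : DOK wCc2 wCe_P 1782 := ⟨wCc2_h, wCc2_e⟩
theorem wCtn0_1 : ∀ i < 100, (wCtn0.ent H16.Suz.P wCth_P w_P w_P wCe_P (nat_lit 7) (nat_lit 1) H16.Suz.B wCtl2 [wCtl3, wCtl4, wCtl5] (memO wCc2)) i = 0 := allZ_sound0 wCtn0_1_0
theorem wCtn0_t {G Ω : Type*} [Group G] [MulAction G Ω] {g : ℕ → G} {pt : ℕ → Ω}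
    (M : Md g pt H16.Suz.P 1782 7 H16.Suz.B 448345497600) : TrO (gen (wds g wCth_W) wCtl2.K) (wds g w_W) (wds g w_W) 1 pt 1782 (wCtl2.Pt 0) (memO wCc2) :=
  node M (wCt_S2 M) (wCth_act M) ((w_act M).mono (by decide : 1 ≤ 3)) ((w_act M).mono (by decide : 1 ≤ 3)) wCtn0 ((wCe_act M).mono (by decide)) (fun _ _ => trivial) wCtn0_0 wCtn0_1 (List.forall_mem_nil _)
theorem wCc1_e : ∀ i < 2, (dent wCc1 wCe_P (nat_lit 1782)) i = 0 := allZ_sound0 wCc1_e_0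
theorem wCc1_ok : DOK wCc1 wCe_P 1782 := ⟨wCc1_h, wCc1_e⟩
theorem wCtn1_1 : ∀ i < 416, (wCtn1.ent H16.Suz.P wCth_P w_P w_P wCe_P (nat_lit 7) (nat_lit 1) H16.Suz.B wCtl1 [wCtl2, wCtl3, wCtl4, wCtl5] (memO wCc1)) i = 0 := allZ_sound0 wCtn1_1_0
theorem wCtn1_t {G Ω : Type*} [Group G] [MulAction G Ω] {g : ℕ → G} {pt : ℕ → Ω}
    (M : Md g pt H16.Suz.P 1782 7 H16.Suz.B 448345497600) : TrO (gen (wds g wCth_W) wCtl1.K) (wds g w_W) (wds g w_W) 1 pt 1782 (wCtl1.Pt 0) (memO wCc1) :=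
  node M (wCt_S1 M) (wCth_act M) ((w_act M).mono (by decide : 1 ≤ 3)) ((w_act M).mono (by decide : 1 ≤ 3)) wCtn1 ((wCe_act M).mono (by decide)) (fun _ _ => trivial) wCtn1_0 wCtn1_1 (List.forall_mem_nil _)
theorem wCc0_e : ∀ i < 3, (dent wCc0 wCe_P (nat_lit 1782)) i = 0 := allZ_sound0 wCc0_e_0
theorem wCc0_ok : DOK wCc0 wCe_P 1782 := ⟨wCc0_h, wCc0_e⟩
theorem wCtn2_1 : ∀ i < 1782, (wCtn2.ent H16.Suz.P wCth_P w_P w_P wCe_P (nat_lit 7) (nat_lit 1) H16.Suz.B wCtl0 [wCtl1, wCtl2, wCtl3, wCtl4, wCtl5] (memO wCc0)) i = 0 := allZ_sound0 wCtn2_1_0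
theorem wCtn2_t {G Ω : Type*} [Group G] [MulAction G Ω] {g : ℕ → G} {pt : ℕ → Ω}
    (M : Md g pt H16.Suz.P 1782 7 H16.Suz.B 448345497600) : TrO (gen (wds g wCth_W) wCtl0.K) (wds g w_W) (wds g w_W) 1 pt 1782 (wCtl0.Pt 0) (memO wCc0) :=
  node M (wCt_S0 M) (wCth_act M) ((w_act M).mono (by decide : 1 ≤ 3)) ((w_act M).mono (by decide : 1 ≤ 3)) wCtn2 ((wCe_act M).mono (by decide)) (fun _ _ => trivial) wCtn2_0 wCtn2_1 (List.forall_mem_nil _)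
theorem wC {G Ω : Type*} [Group G] [MulAction G Ω] {g : ℕ → G} {pt : ℕ → Ω}
    (M : Md g pt H16.Suz.P 1782 7 H16.Suz.B 448345497600) : Cen ⊤ (wds g w_W) 1 (wds g wCe_W) pt 1782 [wCc0, wCc1, wCc2] :=
  (wCt_S0 M).top ▸ Cen.lev M (wCt_S0 M) (Cen.lev M (wCt_S1 M) (Cen.lev M (wCt_S2 M) (Cen.triv (wCt_S3 M) (Cen.triv (wCt_S4 M) (Cen.triv (wCt_S5 M) (Cen.bot) (forced (wCt_S5 M) (wCth_act M) ((w_act M).mono (by decide : 1 ≤ 3)) _ _ wC_f5)) (forced (wCt_S4 M) (wCth_act M) ((w_act M).mono (by decide : 1 ≤ 3)) _ _ wC_f4)) (forced (wCt_S3 M) (wCth_act M) ((w_act M).mono (by decide : 1 ≤ 3)) _ _ wC_f3)) (wCtn0_t M) ((w_act M).mono (by decide : 1 ≤ 3)) (wCe_act M) (fun _ _ => trivial) wCc2_ok wC_f2) (wCtn1_t M) ((w_act M).mono (by decide : 1 ≤ 3)) (wCe_act M) (fun _ _ => trivial) wCc1_ok wC_f1) (wCtn2_t M) ((w_act M).mono (by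 decide : 1 ≤ 3)) (wCe_act M) (fun _ _ => trivial) wCc0_ok wC_f0
theorem wC_card {G Ω : Type*} [Group G] [MulAction G Ω] {g : ℕ → G} {pt : ℕ → Ω}
    (M : Md g pt H16.Suz.P 1782 7 H16.Suz.B 448345497600) : Nat.card (Subgroup.centralizer {(wds g w_W) 0}) = 84 :=
  (wC M).card_cent1 M.inj wC_c.1
theorem wC_eq {G Ω : Type*} [Group G] [MulAction G Ω] {g : ℕ → G} {pt : ℕ → Ω}
    (M : Md g pt H16.Suz.P 1782 7 H16.Suz.B 448345497600) : Subgroup.centralizer (gen (wds g w_W) 1) = gen (wds g wCe_W) 3 ∧ Nat.card (gen (wds g wCe_W) 3) = 84 :=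
  wC_c.1 ▸ wC_c.2 ▸ ⟨(wC M).cent, (wC M).card M.inj⟩
theorem wc {G Ω : Type*} [Group G] [MulAction G Ω] {g : ℕ → G} {pt : ℕ → Ω}
    (M : Md g pt H16.Suz.P 1782 7 H16.Suz.B 448345497600) : gen (wds g w_W) 3 ≤ Subgroup.centralizer (gen (wds g w_W) 1 : Set G) :=
  H0.Fi.comm_all M ((w_act M).mono (by decide : 1 ≤ 3)) (w_act M) wc_k
theorem wq1 {G Ω : Type*} [Group G] [MulAction G Ω] {g : ℕ → G} {pt : ℕ → Ω}
    (M : Md g pt H16.Suz.P 1782 7 H16.Suz.B 448345497600) : (wds g w_W) 1 ^ 2 = 1 :=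
  M.pw (w_act M) wq1_k
theorem wq2 {G Ω : Type*} [Group G] [MulAction G Ω] {g : ℕ → G} {pt : ℕ → Ω}
    (M : Md g pt H16.Suz.P 1782 7 H16.Suz.B 448345497600) : (wds g w_W) 2 ^ 3 = 1 :=
  M.pw (w_act M) wq2_k
theorem wq3 {G Ω : Type*} [Group G] [MulAction G Ω] {g : ℕ → G} {pt : ℕ → Ω}
    (M : Md g pt H16.Suz.P 1782 7 H16.Suz.B 448345497600) : evA (wds g w_W) [2, 1, 2, 1, 2, 1] = evA (wds g w_W) [] :=
  M.eq_of (w_act M) wq3_k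
theorem wq4 {G Ω : Type*} [Group G] [MulAction G Ω] {g : ℕ → G} {pt : ℕ → Ω}
    (M : Md g pt H16.Suz.P 1782 7 H16.Suz.B 448345497600) : (wds g w_W) 1 ^ 1 ≠ 1 :=
  M.npw (w_act M) _ wq4_k
theorem p_m : ∀ k < 5, ∀ i < 1782, (matEnt (wdsP H16.Suz.P p_W) p_P) k i = 0 := allZ2_sound p_m_a
theorem p_act {G Ω : Type*} [Group G] [MulAction G Ω] {g : ℕ → G} {pt : ℕ → Ω}
    (M : Md g pt H16.Suz.P 1782 7 H16.Suz.B 448345497600) : Act (wds g p_W) pt p_P 1782 5 :=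
  act_mat (M.wact p_lt) p_m
theorem pp_r : ∀ k < 2, ∀ i < 52, (resEnt p_P ppP ppE ppI (nat_lit 1782) (nat_lit 52)) k i = 0 := allZ2_sound pp_r_a
theorem pp_sm {G Ω : Type*} [Group G] [MulAction G Ω] {g : ℕ → G} {pt : ℕ → Ω}
    (M : Md g pt H16.Suz.P 1782 7 H16.Suz.B 448345497600) : Sm (wds g p_W) (fun i => pt (ppE i)) ppP 52 2 ppB ∧ ∀ i < 52, ppE i < 1782 :=
  M.res ((p_act M).mono (by decide : 2 ≤ 5)) (by decide) pp_r pp_b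
theorem ppl0_e : ∀ i < 24, (dent ppl0 (wdsP ppP ppe) (nat_lit 52)) i = 0 := allZ_sound0 ppl0_e_0
theorem ppl0_ok : DOK ppl0 (wdsP ppP ppe) 52 := ⟨ppl0_h, ppl0_e⟩
theorem pp_low {G Ω : Type*} [Group G] [MulAction G Ω] {g : ℕ → G} {pt : ℕ → Ω}
    (M : Md g pt H16.Suz.P 1782 7 H16.Suz.B 448345497600) : SLow (gi (wds (wds g p_W) ppe)) (fun i => pt (ppE i)) 52 [ppl0] :=
  (SLow.nil).cons ppl0_ok ((pp_sm M).1.act.wds pp_e 2) pp_f0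
theorem pp_pc {G Ω : Type*} [Group G] [MulAction G Ω] {g : ℕ → G} {pt : ℕ → Ω}
    (M : Md g pt H16.Suz.P 1782 7 H16.Suz.B 448345497600) : PC (wds g p_W) 2 5 :=
  have := M.fin
  ((pp_sm M).1.pc0 (by decide) pp_p).pc (pp_low M) (pp_sm M).1.inj
    (fun k => evA_mem_gen _ (nth_lt pp_e k)) M.card ⟨by decide, pp_c⟩
theorem pcr_act {G Ω : Type*} [Group G] [MulAction G Ω] {g : ℕ → G} {pt : ℕ → Ω}
    (M : Md g pt H16.Suz.P 1782 7 H16.Suz.B 448345497600) : Act (wds g pcr_W) pt pcr_P 1782 2 :=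
  M.wact pcr_lt
theorem pc_0 {G Ω : Type*} [Group G] [MulAction G Ω] {g : ℕ → G} {pt : ℕ → Ω}
    (M : Md g pt H16.Suz.P 1782 7 H16.Suz.B 448345497600) : Cov (wds g p_W) (wds g pcr_W) 5 2 2 (evA (wds g p_W) []) :=
  have := M.fin
  pcT0.cov M (pp_sm M).1 (pp_sm M).2 (pcr_act M) (pp_pc M) _ _ pc_c0
theorem pc {G Ω : Type*} [Group G] [MulAction G Ω] {g : ℕ → G} {pt : ℕ → Ω}
    (M : Md g pt H16.Suz.P 1782 7 H16.Suz.B 448345497600) {y : G} {e : ℕ} (hy : y ^ 5 ^ e = 1) (hq : y ^ 5 = 1) : Good (wds g pcr_W) 2 y :=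
  have := M.fin
  Cov.all (pp_pc M) (pc_0 M) hy hq
theorem pK_act {G Ω : Type*} [Group G] [MulAction G Ω] {g : ℕ → G} {pt : ℕ → Ω}
    (M : Md g pt H16.Suz.P 1782 7 H16.Suz.B 448345497600) : Act (rl [2, 3, 4] (wds g p_W)) pt (rl [nat_lit 2, nat_lit 3, nat_lit 4] p_P) 1782 3 :=
  (p_act M).rl (by decide)
theorem po_e : ∀ i < 25, (H0.Fi.orbEnt p_P (rl [nat_lit 2, nat_lit 3, nat_lit 4] p_P) (nat_lit 5) (nat_lit 2) (nat_lit 3) H16.Suz.B poD poL por poq poR) i = 0 := allZ_sound0 po_e_0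
theorem po {G Ω : Type*} [Group G] [MulAction G Ω] {g : ℕ → G} {pt : ℕ → Ω}
    (M : Md g pt H16.Suz.P 1782 7 H16.Suz.B 448345497600) : ∀ c < 5 ^ 2, c ≠ 0 → ∃ a ∈ gen (rl [2, 3, 4] (wds g p_W)) 3,
      a * evA (wds g p_W) (H0.Fi.digW 5 0 2 c) * a⁻¹ = evA (wds g p_W) (H0.Fi.digW 5 0 2 (nth 0 poR (poq c))) :=
  H0.Fi.orb_sound M ((p_act M).mono (by decide : 2 ≤ 5)) (pK_act M) po_e
theorem pCth_act {G Ω : Type*} [Group G] [MulAction G Ω] {g : ℕ → G} {pt : ℕ → Ω}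
    (M : Md g pt H16.Suz.P 1782 7 H16.Suz.B 448345497600) : Act (wds g pCth_W) pt pCth_P 1782 16 :=
  M.wact pCth_lt
theorem pCtl0_e : ∀ i < 1781, (dent pCtl0 pCth_P (nat_lit 1782)) i = 0 := allZ_sound0 pCtl0_e_0
theorem pCtl0_ok : DOK pCtl0 pCth_P 1782 := ⟨pCtl0_h, pCtl0_e⟩
theorem pCtl1_e : ∀ i < 1364, (dent pCtl1 pCth_P (nat_lit 1782)) i = 0 := allZ_sound0 pCtl1_e_0
theorem pCtl1_ok : DOK pCtl1 pCth_P 1782 := ⟨pCtl1_h, pCtl1_e⟩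
theorem pCtl2_e : ∀ i < 1023, (dent pCtl2 pCth_P (nat_lit 1782)) i = 0 := allZ_sound0 pCtl2_e_0
theorem pCtl2_ok : DOK pCtl2 pCth_P 1782 := ⟨pCtl2_h, pCtl2_e⟩
theorem pCtl3_e : ∀ i < 2, (dent pCtl3 pCth_P (nat_lit 1782)) i = 0 := allZ_sound0 pCtl3_e_0
theorem pCtl3_ok : DOK pCtl3 pCth_P 1782 := ⟨pCtl3_h, pCtl3_e⟩
theorem pCtl4_e : ∀ i < 4, (dent pCtl4 pCth_P (nat_lit 1782)) i = 0 := allZ_sound0 pCtl4_e_0
theorem pCtl4_ok : DOK pCtl4 pCth_P 1782 := ⟨pCtl4_h, pCtl4_e⟩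
theorem pCtl5_e : ∀ i < 3, (dent pCtl5 pCth_P (nat_lit 1782)) i = 0 := allZ_sound0 pCtl5_e_0
theorem pCtl5_ok : DOK pCtl5 pCth_P 1782 := ⟨pCtl5_h, pCtl5_e⟩
theorem pCtl6_e : ∀ i < 2, (dent pCtl6 pCth_P (nat_lit 1782)) i = 0 := allZ_sound0 pCtl6_e_0
theorem pCtl6_ok : DOK pCtl6 pCth_P 1782 := ⟨pCtl6_h, pCtl6_e⟩
theorem pCt_low {G Ω : Type*} [Group G] [MulAction G Ω] {g : ℕ → G} {pt : ℕ → Ω}
    (M : Md g pt H16.Suz.P 1782 7 H16.Suz.B 448345497600) : SLow (gi (wds g pCth_W)) pt 1782 [pCtl0, pCtl1, pCtl2, pCtl3, pCtl4, pCtl5, pCtl6] :=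
  (((((((SLow.nil).cons pCtl6_ok (pCth_act M) pCt_f6).cons pCtl5_ok (pCth_act M) pCt_f5).cons pCtl4_ok (pCth_act M) pCt_f4).cons pCtl3_ok (pCth_act M) pCt_f3).cons pCtl2_ok (pCth_act M) pCt_f2).cons pCtl1_ok (pCth_act M) pCt_f1).cons pCtl0_ok (pCth_act M) pCt_f0
theorem pCt_S0 {G Ω : Type*} [Group G] [MulAction G Ω] {g : ℕ → G} {pt : ℕ → Ω}
    (M : Md g pt H16.Suz.P 1782 7 H16.Suz.B 448345497600) : Stage ⊤ (wds g pCth_W) pt 1782 [pCtl0, pCtl1, pCtl2, pCtl3, pCtl4, pCtl5, pCtl6] [] :=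
  M.stage (pCt_low M) pCt_c
theorem pCt_S1 {G Ω : Type*} [Group G] [MulAction G Ω] {g : ℕ → G} {pt : ℕ → Ω}
    (M : Md g pt H16.Suz.P 1782 7 H16.Suz.B 448345497600) : Stage ⊤ (wds g pCth_W) pt 1782 [pCtl1, pCtl2, pCtl3, pCtl4, pCtl5, pCtl6] [pCtl0.Pt 0] :=
  (pCt_S0 M).next
theorem pCt_S2 {G Ω : Type*} [Group G] [MulAction G Ω] {g : ℕ → G} {pt : ℕ → Ω}
    (M : Md g pt H16.Suz.P 1782 7 H16.Suz.B 448345497600) : Stage ⊤ (wds g pCth_W) pt 1782 [pCtl2, pCtl3, pCtl4, pCtl5, pCtl6] [pCtl1.Pt 0, pCtl0.Pt 0] :=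
  (pCt_S1 M).next
theorem pCt_S3 {G Ω : Type*} [Group G] [MulAction G Ω] {g : ℕ → G} {pt : ℕ → Ω}
    (M : Md g pt H16.Suz.P 1782 7 H16.Suz.B 448345497600) : Stage ⊤ (wds g pCth_W) pt 1782 [pCtl3, pCtl4, pCtl5, pCtl6] [pCtl2.Pt 0, pCtl1.Pt 0, pCtl0.Pt 0] :=
  (pCt_S2 M).next
theorem pCt_S4 {G Ω : Type*} [Group G] [MulAction G Ω] {g : ℕ → G} {pt : ℕ → Ω}
    (M : Md g pt H16.Suz.P 1782 7 H16.Suz.B 448345497600) : Stage ⊤ (wds g pCth_W) pt 1782 [pCtl4, pCtl5, pCtl6] [pCtl3.Pt 0, pCtl2.Pt 0, pCtl1.Pt 0, pCtl0.Pt 0] :=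
  (pCt_S3 M).next
theorem pCt_S5 {G Ω : Type*} [Group G] [MulAction G Ω] {g : ℕ → G} {pt : ℕ → Ω}
    (M : Md g pt H16.Suz.P 1782 7 H16.Suz.B 448345497600) : Stage ⊤ (wds g pCth_W) pt 1782 [pCtl5, pCtl6] [pCtl4.Pt 0, pCtl3.Pt 0, pCtl2.Pt 0, pCtl1.Pt 0, pCtl0.Pt 0] :=
  (pCt_S4 M).next
theorem pCt_S6 {G Ω : Type*} [Group G] [MulAction G Ω] {g : ℕ → G} {pt : ℕ → Ω}
    (M : Md g pt H16.Suz.P 1782 7 H16.Suz.B 448345497600) : Stage ⊤ (wds g pCth_W) pt 1782 [pCtl6] [pCtl5.Pt 0, pCtl4.Pt 0, pCtl3.Pt 0, pCtl2.Pt 0, pCtl1.Pt 0, pCtl0.Pt 0] :=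
  (pCt_S5 M).next
theorem pCt_S7 {G Ω : Type*} [Group G] [MulAction G Ω] {g : ℕ → G} {pt : ℕ → Ω}
    (M : Md g pt H16.Suz.P 1782 7 H16.Suz.B 448345497600) : Stage ⊤ (wds g pCth_W) pt 1782 [] [pCtl6.Pt 0, pCtl5.Pt 0, pCtl4.Pt 0, pCtl3.Pt 0, pCtl2.Pt 0, pCtl1.Pt 0, pCtl0.Pt 0] :=
  (pCt_S6 M).next
theorem pCe_act {G Ω : Type*} [Group G] [MulAction G Ω] {g : ℕ → G} {pt : ℕ → Ω}
    (M : Md g pt H16.Suz.P 1782 7 H16.Suz.B 448345497600) : Act (wds g pCe_W) pt pCe_P 1782 2 :=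
  M.wact pCe_lt
theorem pCc4_e : ∀ i < 4, (dent pCc4 pCe_P (nat_lit 1782)) i = 0 := allZ_sound0 pCc4_e_0
theorem pCc4_ok : DOK pCc4 pCe_P 1782 := ⟨pCc4_h, pCc4_e⟩
theorem pCtn0_1 : ∀ i < 5, (pCtn0.ent H16.Suz.P pCth_P p_P p_P pCe_P (nat_lit 7) (nat_lit 2) H16.Suz.B pCtl4 [pCtl5, pCtl6] (memO pCc4)) i = 0 := allZ_sound0 pCtn0_1_0
theorem pCtn0_t {G Ω : Type*} [Group G] [MulAction G Ω] {g : ℕ → G} {pt : ℕ → Ω}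
    (M : Md g pt H16.Suz.P 1782 7 H16.Suz.B 448345497600) : TrO (gen (wds g pCth_W) pCtl4.K) (wds g p_W) (wds g p_W) 2 pt 1782 (pCtl4.Pt 0) (memO pCc4) :=
  node M (pCt_S4 M) (pCth_act M) ((p_act M).mono (by decide : 2 ≤ 5)) ((p_act M).mono (by decide : 2 ≤ 5)) pCtn0 ((pCe_act M).mono (by decide)) (fun _ _ => trivial) pCtn0_0 pCtn0_1 (List.forall_mem_nil _)
theorem pCc0_e : ∀ i < 4, (dent pCc0 pCe_P (nat_lit 1782)) i = 0 := allZ_sound0 pCc0_e_0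
theorem pCc0_ok : DOK pCc0 pCe_P 1782 := ⟨pCc0_h, pCc0_e⟩
theorem pCtn1_1 : ∀ i < 1782, (pCtn1.ent H16.Suz.P pCth_P p_P p_P pCe_P (nat_lit 7) (nat_lit 2) H16.Suz.B pCtl0 [pCtl1, pCtl2, pCtl3, pCtl4, pCtl5, pCtl6] (memO pCc0)) i = 0 := allZ_sound0 pCtn1_1_0
theorem pCtn1_t {G Ω : Type*} [Group G] [MulAction G Ω] {g : ℕ → G} {pt : ℕ → Ω}
    (M : Md g pt H16.Suz.P 1782 7 H16.Suz.B 448345497600) : TrO (gen (wds g pCth_W) pCtl0.K) (wds g p_W) (wds g p_W) 2 pt 1782 (pCtl0.Pt 0) (memO pCc0) :=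
  node M (pCt_S0 M) (pCth_act M) ((p_act M).mono (by decide : 2 ≤ 5)) ((p_act M).mono (by decide : 2 ≤ 5)) pCtn1 ((pCe_act M).mono (by decide)) (fun _ _ => trivial) pCtn1_0 pCtn1_1 (List.forall_mem_nil _)
theorem pC {G Ω : Type*} [Group G] [MulAction G Ω] {g : ℕ → G} {pt : ℕ → Ω}
    (M : Md g pt H16.Suz.P 1782 7 H16.Suz.B 448345497600) : Cen ⊤ (wds g p_W) 2 (wds g pCe_W) pt 1782 [pCc0, pCc4] :=
  (pCt_S0 M).top ▸ Cen.lev M (pCt_S0 M) (Cen.triv (pCt_S1 M) (Cen.triv (pCt_S2 M) (Cen.triv (pCt_S3 M) (Cen.lev M (pCt_S4 M) (Cen.triv (pCt_S5 M) (Cen.triv (pCt_S6 M) (Cen.bot) (forced (pCt_S6 M) (pCth_act M) ((p_act M).mono (by decide : 2 ≤ 5)) _ _ pC_f6)) (forced (pCt_S5 M) (pCth_act M) ((p_act M).mono (by decide : 2 ≤ 5)) _ _ pC_f5)) (pCtn0_t M) ((p_act M).mono (by decide : 2 ≤ 5)) (pCe_act M) (fun _ _ => trivial) pCc4_ok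 pC_f4) (forced (pCt_S3 M) (pCth_act M) ((p_act M).mono (by decide : 2 ≤ 5)) _ _ pC_f3)) (forced (pCt_S2 M) (pCth_act M) ((p_act M).mono (by decide : 2 ≤ 5)) _ _ pC_f2)) (forced (pCt_S1 M) (pCth_act M) ((p_act M).mono (by decide : 2 ≤ 5)) _ _ pC_f1)) (pCtn1_t M) ((p_act M).mono (by decide : 2 ≤ 5)) (pCe_act M) (fun _ _ => trivial) pCc0_ok pC_f0
theorem pC_eq {G Ω : Type*} [Group G] [MulAction G Ω] {g : ℕ → G} {pt : ℕ → Ω}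
    (M : Md g pt H16.Suz.P 1782 7 H16.Suz.B 448345497600) : Subgroup.centralizer (gen (wds g p_W) 2) = gen (wds g pCe_W) 2 ∧ Nat.card (gen (wds g pCe_W) 2) = 25 :=
  pC_c.1 ▸ pC_c.2 ▸ ⟨(pC M).cent, (pC M).card M.inj⟩
theorem pn {G Ω : Type*} [Group G] [MulAction G Ω] {g : ℕ → G} {pt : ℕ → Ω}
    (M : Md g pt H16.Suz.P 1782 7 H16.Suz.B 448345497600) : gen (wds g p_W) 5 ≤ Subgroup.normalizer (gen (wds g p_W) 2 : Set G) :=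
  H0.Fi.norm_all M ((p_act M).mono (by decide : 2 ≤ 5)) (p_act M) pn_k
theorem peh_act {G Ω : Type*} [Group G] [MulAction G Ω] {g : ℕ → G} {pt : ℕ → Ω}
    (M : Md g pt H16.Suz.P 1782 7 H16.Suz.B 448345497600) : Act (wds g peh_W) pt peh_P 1782 15 :=
  M.wact peh_lt
theorem pel0_e : ∀ i < 1781, (dent pel0 peh_P (nat_lit 1782)) i = 0 := allZ_sound0 pel0_e_0
theorem pel0_ok : DOK pel0 peh_P 1782 := ⟨pel0_h, pel0_e⟩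
theorem pel1_e : ∀ i < 415, (dent pel1 peh_P (nat_lit 1782)) i = 0 := allZ_sound0 pel1_e_0
theorem pel1_ok : DOK pel1 peh_P 1782 := ⟨pel1_h, pel1_e⟩
theorem pel2_e : ∀ i < 99, (dent pel2 peh_P (nat_lit 1782)) i = 0 := allZ_sound0 pel2_e_0
theorem pel2_ok : DOK pel2 peh_P 1782 := ⟨pel2_h, pel2_e⟩
theorem pel3_e : ∀ i < 62, (dent pel3 peh_P (nat_lit 1782)) i = 0 := allZ_sound0 pel3_e_0
theorem pel3_ok : DOK pel3 peh_P 1782 := ⟨pel3_h, pel3_e⟩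
theorem pel4_e : ∀ i < 23, (dent pel4 peh_P (nat_lit 1782)) i = 0 := allZ_sound0 pel4_e_0
theorem pel4_ok : DOK pel4 peh_P 1782 := ⟨pel4_h, pel4_e⟩
theorem pel5_e : ∀ i < 1, (dent pel5 peh_P (nat_lit 1782)) i = 0 := allZ_sound0 pel5_e_0
theorem pel5_ok : DOK pel5 peh_P 1782 := ⟨pel5_h, pel5_e⟩
theorem pel6_e : ∀ i < 1, (dent pel6 peh_P (nat_lit 1782)) i = 0 := allZ_sound0 pel6_e_0
theorem pel6_ok : DOK pel6 peh_P 1782 := ⟨pel6_h, pel6_e⟩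
theorem pe_low {G Ω : Type*} [Group G] [MulAction G Ω] {g : ℕ → G} {pt : ℕ → Ω}
    (M : Md g pt H16.Suz.P 1782 7 H16.Suz.B 448345497600) : SLow (gi (wds g peh_W)) pt 1782 [pel0, pel1, pel2, pel3, pel4, pel5, pel6] :=
  (((((((SLow.nil).cons pel6_ok (peh_act M) pe_f6).cons pel5_ok (peh_act M) pe_f5).cons pel4_ok (peh_act M) pe_f4).cons pel3_ok (peh_act M) pe_f3).cons pel2_ok (peh_act M) pe_f2).cons pel1_ok (peh_act M) pe_f1).cons pel0_ok (peh_act M) pe_f0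
theorem pe_S0 {G Ω : Type*} [Group G] [MulAction G Ω] {g : ℕ → G} {pt : ℕ → Ω}
    (M : Md g pt H16.Suz.P 1782 7 H16.Suz.B 448345497600) : Stage ⊤ (wds g peh_W) pt 1782 [pel0, pel1, pel2, pel3, pel4, pel5, pel6] [] :=
  M.stage (pe_low M) pe_c
theorem pe_S1 {G Ω : Type*} [Group G] [MulAction G Ω] {g : ℕ → G} {pt : ℕ → Ω}
    (M : Md g pt H16.Suz.P 1782 7 H16.Suz.B 448345497600) : Stage ⊤ (wds g peh_W) pt 1782 [pel1, pel2, pel3, pel4, pel5, pel6] [pel0.Pt 0] :=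
  (pe_S0 M).next
theorem pe_S2 {G Ω : Type*} [Group G] [MulAction G Ω] {g : ℕ → G} {pt : ℕ → Ω}
    (M : Md g pt H16.Suz.P 1782 7 H16.Suz.B 448345497600) : Stage ⊤ (wds g peh_W) pt 1782 [pel2, pel3, pel4, pel5, pel6] [pel1.Pt 0, pel0.Pt 0] :=
  (pe_S1 M).next
theorem pe_S3 {G Ω : Type*} [Group G] [MulAction G Ω] {g : ℕ → G} {pt : ℕ → Ω}
    (M : Md g pt H16.Suz.P 1782 7 H16.Suz.B 448345497600) : Stage ⊤ (wds g peh_W) pt 1782 [pel3, pel4, pel5, pel6] [pel2.Pt 0, pel1.Pt 0, pel0.Pt 0] :=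
  (pe_S2 M).next
theorem pe_S4 {G Ω : Type*} [Group G] [MulAction G Ω] {g : ℕ → G} {pt : ℕ → Ω}
    (M : Md g pt H16.Suz.P 1782 7 H16.Suz.B 448345497600) : Stage ⊤ (wds g peh_W) pt 1782 [pel4, pel5, pel6] [pel3.Pt 0, pel2.Pt 0, pel1.Pt 0, pel0.Pt 0] :=
  (pe_S3 M).next
theorem pe_S5 {G Ω : Type*} [Group G] [MulAction G Ω] {g : ℕ → G} {pt : ℕ → Ω}
    (M : Md g pt H16.Suz.P 1782 7 H16.Suz.B 448345497600) : Stage ⊤ (wds g peh_W) pt 1782 [pel5, pel6] [pel4.Pt 0, pel3.Pt 0, pel2.Pt 0, pel1.Pt 0, pel0.Pt 0] :=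
  (pe_S4 M).next
theorem pe_S6 {G Ω : Type*} [Group G] [MulAction G Ω] {g : ℕ → G} {pt : ℕ → Ω}
    (M : Md g pt H16.Suz.P 1782 7 H16.Suz.B 448345497600) : Stage ⊤ (wds g peh_W) pt 1782 [pel6] [pel5.Pt 0, pel4.Pt 0, pel3.Pt 0, pel2.Pt 0, pel1.Pt 0, pel0.Pt 0] :=
  (pe_S5 M).next
theorem pe_S7 {G Ω : Type*} [Group G] [MulAction G Ω] {g : ℕ → G} {pt : ℕ → Ω}
    (M : Md g pt H16.Suz.P 1782 7 H16.Suz.B 448345497600) : Stage ⊤ (wds g peh_W) pt 1782 [] [pel6.Pt 0, pel5.Pt 0, pel4.Pt 0, pel3.Pt 0, pel2.Pt 0, pel1.Pt 0, pel0.Pt 0] :=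
  (pe_S6 M).next
theorem pb_act {G Ω : Type*} [Group G] [MulAction G Ω] {g : ℕ → G} {pt : ℕ → Ω}
    (M : Md g pt H16.Suz.P 1782 7 H16.Suz.B 448345497600) : Act (wds (wds g p_W) pb_W) pt pb_P 1782 1 :=
  (p_act M).wds pb_lt _
theorem per0k_act {G Ω : Type*} [Group G] [MulAction G Ω] {g : ℕ → G} {pt : ℕ → Ω}
    (M : Md g pt H16.Suz.P 1782 7 H16.Suz.B 448345497600) : Act (wds g per0k_W) pt per0k_P 1782 3 :=
  M.wact per0k_lt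
theorem pen0y0_act {G Ω : Type*} [Group G] [MulAction G Ω] {g : ℕ → G} {pt : ℕ → Ω}
    (M : Md g pt H16.Suz.P 1782 7 H16.Suz.B 448345497600) : Act (wds g pen0y0_W) pt pen0y0_P 1782 1 :=
  M.wact pen0y0_lt
theorem per1k_act {G Ω : Type*} [Group G] [MulAction G Ω] {g : ℕ → G} {pt : ℕ → Ω}
    (M : Md g pt H16.Suz.P 1782 7 H16.Suz.B 448345497600) : Act (wds g per1k_W) pt per1k_P 1782 3 :=
  M.wact per1k_lt
theorem pen1y1_act {G Ω : Type*} [Group G] [MulAction G Ω] {g : ℕ → G} {pt : ℕ → Ω}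
    (M : Md g pt H16.Suz.P 1782 7 H16.Suz.B 448345497600) : Act (wds g pen1y1_W) pt pen1y1_P 1782 1 :=
  M.wact pen1y1_lt
theorem per2k_act {G Ω : Type*} [Group G] [MulAction G Ω] {g : ℕ → G} {pt : ℕ → Ω}
    (M : Md g pt H16.Suz.P 1782 7 H16.Suz.B 448345497600) : Act (wds g per2k_W) pt per2k_P 1782 3 :=
  M.wact per2k_lt
theorem pen2_1 : ∀ i < 100, (pen2.ent H16.Suz.P peh_P p_P pen1y1_P per2k_P (nat_lit 7) (nat_lit 1) H16.Suz.B pel2 [pel3, pel4, pel5, pel6] (fun _ => nat_lit 1)) i = 0 := allZ_sound0 pen2_1_0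
theorem pen2_t {G Ω : Type*} [Group G] [MulAction G Ω] {g : ℕ → G} {pt : ℕ → Ω}
    (M : Md g pt H16.Suz.P 1782 7 H16.Suz.B 448345497600) : TrO (gen (wds g peh_W) pel2.K) (wds g p_W) (wds g pen1y1_W) 1 pt 1782 (pel2.Pt 0) (fun _ => nat_lit 1) :=
  node M (pe_S2 M) (peh_act M) ((p_act M).mono (by decide : 1 ≤ 5)) (pen1y1_act M) pen2 ((per2k_act M).mono (by decide)) (fun _ _ => trivial) pen2_0 pen2_1 (List.forall_mem_nil _)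
theorem per2 {G Ω : Type*} [Group G] [MulAction G Ω] {g : ℕ → G} {pt : ℕ → Ω}
    (M : Md g pt H16.Suz.P 1782 7 H16.Suz.B 448345497600) : Ref (gen (wds g peh_W) (topK [pel2, pel3, pel4, pel5, pel6])) (wds g p_W) (wds g pen1y1_W) 1 :=
  (pen2_t M).ref
theorem pen1_1 : ∀ i < 416, (pen1.ent H16.Suz.P peh_P p_P pen0y0_P per1k_P (nat_lit 7) (nat_lit 1) H16.Suz.B pel1 [pel2, pel3, pel4, pel5, pel6] (fun _ => nat_lit 1)) i = 0 := allZ_sound0 pen1_1_0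
theorem pen1_t {G Ω : Type*} [Group G] [MulAction G Ω] {g : ℕ → G} {pt : ℕ → Ω}
    (M : Md g pt H16.Suz.P 1782 7 H16.Suz.B 448345497600) : TrO (gen (wds g peh_W) pel1.K) (wds g p_W) (wds g pen0y0_W) 1 pt 1782 (pel1.Pt 0) (fun _ => nat_lit 1) :=
  node M (pe_S1 M) (peh_act M) ((p_act M).mono (by decide : 1 ≤ 5)) (pen0y0_act M) pen1 ((per1k_act M).mono (by decide)) (fun _ _ => trivial) pen1_0 pen1_1 (List.forall_mem_cons.2 ⟨per2 M, List.forall_mem_nil _⟩)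
theorem per1 {G Ω : Type*} [Group G] [MulAction G Ω] {g : ℕ → G} {pt : ℕ → Ω}
    (M : Md g pt H16.Suz.P 1782 7 H16.Suz.B 448345497600) : Ref (gen (wds g peh_W) (topK [pel1, pel2, pel3, pel4, pel5, pel6])) (wds g p_W) (wds g pen0y0_W) 1 :=
  (pen1_t M).ref
theorem pen0y1_act {G Ω : Type*} [Group G] [MulAction G Ω] {g : ℕ → G} {pt : ℕ → Ω}
    (M : Md g pt H16.Suz.P 1782 7 H16.Suz.B 448345497600) : Act (wds g pen0y1_W) pt pen0y1_P 1782 1 :=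
  M.wact pen0y1_lt
theorem per3k_act {G Ω : Type*} [Group G] [MulAction G Ω] {g : ℕ → G} {pt : ℕ → Ω}
    (M : Md g pt H16.Suz.P 1782 7 H16.Suz.B 448345497600) : Act (wds g per3k_W) pt per3k_P 1782 3 :=
  M.wact per3k_lt
theorem pen3y1_act {G Ω : Type*} [Group G] [MulAction G Ω] {g : ℕ → G} {pt : ℕ → Ω}
    (M : Md g pt H16.Suz.P 1782 7 H16.Suz.B 448345497600) : Act (wds g pen3y1_W) pt pen3y1_P 1782 1 :=
  M.wact pen3y1_lt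
theorem per4k_act {G Ω : Type*} [Group G] [MulAction G Ω] {g : ℕ → G} {pt : ℕ → Ω}
    (M : Md g pt H16.Suz.P 1782 7 H16.Suz.B 448345497600) : Act (wds g per4k_W) pt per4k_P 1782 3 :=
  M.wact per4k_lt
theorem pen4_1 : ∀ i < 100, (pen4.ent H16.Suz.P peh_P p_P pen3y1_P per4k_P (nat_lit 7) (nat_lit 1) H16.Suz.B pel2 [pel3, pel4, pel5, pel6] (fun _ => nat_lit 1)) i = 0 := allZ_sound0 pen4_1_0
theorem pen4_t {G Ω : Type*} [Group G] [MulAction G Ω] {g : ℕ → G} {pt : ℕ → Ω}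
    (M : Md g pt H16.Suz.P 1782 7 H16.Suz.B 448345497600) : TrO (gen (wds g peh_W) pel2.K) (wds g p_W) (wds g pen3y1_W) 1 pt 1782 (pel2.Pt 0) (fun _ => nat_lit 1) :=
  node M (pe_S2 M) (peh_act M) ((p_act M).mono (by decide : 1 ≤ 5)) (pen3y1_act M) pen4 ((per4k_act M).mono (by decide)) (fun _ _ => trivial) pen4_0 pen4_1 (List.forall_mem_nil _)
theorem per4 {G Ω : Type*} [Group G] [MulAction G Ω] {g : ℕ → G} {pt : ℕ → Ω}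
    (M : Md g pt H16.Suz.P 1782 7 H16.Suz.B 448345497600) : Ref (gen (wds g peh_W) (topK [pel2, pel3, pel4, pel5, pel6])) (wds g p_W) (wds g pen3y1_W) 1 :=
  (pen4_t M).ref
theorem pen3_1 : ∀ i < 416, (pen3.ent H16.Suz.P peh_P p_P pen0y1_P per3k_P (nat_lit 7) (nat_lit 1) H16.Suz.B pel1 [pel2, pel3, pel4, pel5, pel6] (fun _ => nat_lit 1)) i = 0 := allZ_sound0 pen3_1_0
theorem pen3_t {G Ω : Type*} [Group G] [MulAction G Ω] {g : ℕ → G} {pt : ℕ → Ω}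
    (M : Md g pt H16.Suz.P 1782 7 H16.Suz.B 448345497600) : TrO (gen (wds g peh_W) pel1.K) (wds g p_W) (wds g pen0y1_W) 1 pt 1782 (pel1.Pt 0) (fun _ => nat_lit 1) :=
  node M (pe_S1 M) (peh_act M) ((p_act M).mono (by decide : 1 ≤ 5)) (pen0y1_act M) pen3 ((per3k_act M).mono (by decide)) (fun _ _ => trivial) pen3_0 pen3_1 (List.forall_mem_cons.2 ⟨per4 M, List.forall_mem_nil _⟩)
theorem per3 {G Ω : Type*} [Group G] [MulAction G Ω] {g : ℕ → G} {pt : ℕ → Ω}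
    (M : Md g pt H16.Suz.P 1782 7 H16.Suz.B 448345497600) : Ref (gen (wds g peh_W) (topK [pel1, pel2, pel3, pel4, pel5, pel6])) (wds g p_W) (wds g pen0y1_W) 1 :=
  (pen3_t M).ref
theorem pen0_1 : ∀ i < 1782, (pen0.ent H16.Suz.P peh_P p_P pb_P per0k_P (nat_lit 7) (nat_lit 1) H16.Suz.B pel0 [pel1, pel2, pel3, pel4, pel5, pel6] (fun _ => nat_lit 1)) i = 0 := allZ_sound0 pen0_1_0
theorem pen0_t {G Ω : Type*} [Group G] [MulAction G Ω] {g : ℕ → G} {pt : ℕ → Ω}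
    (M : Md g pt H16.Suz.P 1782 7 H16.Suz.B 448345497600) : TrO (gen (wds g peh_W) pel0.K) (wds g p_W) (wds (wds g p_W) pb_W) 1 pt 1782 (pel0.Pt 0) (fun _ => nat_lit 1) :=
  node M (pe_S0 M) (peh_act M) ((p_act M).mono (by decide : 1 ≤ 5)) (pb_act M) pen0 ((per0k_act M).mono (by decide)) (fun _ _ => trivial) pen0_0 pen0_1 (List.forall_mem_cons.2 ⟨per1 M, List.forall_mem_cons.2 ⟨per3 M, List.forall_mem_nil _⟩⟩)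
theorem per0 {G Ω : Type*} [Group G] [MulAction G Ω] {g : ℕ → G} {pt : ℕ → Ω}
    (M : Md g pt H16.Suz.P 1782 7 H16.Suz.B 448345497600) : Ref (gen (wds g peh_W) (topK [pel0, pel1, pel2, pel3, pel4, pel5, pel6])) (wds g p_W) (wds (wds g p_W) pb_W) 1 :=
  (pen0_t M).ref
theorem pf {G Ω : Type*} [Group G] [MulAction G Ω] {g : ℕ → G} {pt : ℕ → Ω}
    (M : Md g pt H16.Suz.P 1782 7 H16.Suz.B 448345497600) : Ref ⊤ (wds g p_W) (wds (wds g p_W) pb_W) 1 :=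
  (pe_S0 M).top ▸ per0 M
theorem p1 {G Ω : Type*} [Group G] [MulAction G Ω] {g : ℕ → G} {pt : ℕ → Ω}
    (M : Md g pt H16.Suz.P 1782 7 H16.Suz.B 448345497600) : evA (wds g p_W) [4, 3, 4] = evA (wds g p_W) [3, 4, 3] :=
  M.eq_of (p_act M) p1_k
theorem pR_act {G Ω : Type*} [Group G] [MulAction G Ω] {g : ℕ → G} {pt : ℕ → Ω}
    (M : Md g pt H16.Suz.P 1782 7 H16.Suz.B 448345497600) : Act (rl [2] (wds g p_W)) pt (rl [nat_lit 2] p_P) 1782 1 :=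
  (p_act M).rl (by decide)
theorem pS_act {G Ω : Type*} [Group G] [MulAction G Ω] {g : ℕ → G} {pt : ℕ → Ω}
    (M : Md g pt H16.Suz.P 1782 7 H16.Suz.B 448345497600) : Act (rl [3, 4] (wds g p_W)) pt (rl [nat_lit 3, nat_lit 4] p_P) 1782 2 :=
  (p_act M).rl (by decide)
theorem p2 {G Ω : Type*} [Group G] [MulAction G Ω] {g : ℕ → G} {pt : ℕ → Ω}
    (M : Md g pt H16.Suz.P 1782 7 H16.Suz.B 448345497600) : gen (rl [3, 4] (wds g p_W)) 2 ≤ Subgroup.centralizer (gen (rl [2] (wds g p_W)) 1 : Set G) :=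
  H0.Fi.comm_all M (pR_act M) (pS_act M) p2_k
theorem p3 {G Ω : Type*} [Group G] [MulAction G Ω] {g : ℕ → G} {pt : ℕ → Ω}
    (M : Md g pt H16.Suz.P 1782 7 H16.Suz.B 448345497600) : (wds g p_W) 2 ^ 4 = 1 :=
  M.pw (p_act M) p3_k
theorem p4 {G Ω : Type*} [Group G] [MulAction G Ω] {g : ℕ → G} {pt : ℕ → Ω}
    (M : Md g pt H16.Suz.P 1782 7 H16.Suz.B 448345497600) : (wds g p_W) 2 ^ 2 ≠ 1 :=
  M.npw (p_act M) _ p4_k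
theorem p5 {G Ω : Type*} [Group G] [MulAction G Ω] {g : ℕ → G} {pt : ℕ → Ω}
    (M : Md g pt H16.Suz.P 1782 7 H16.Suz.B 448345497600) : (wds g p_W) 3 ^ 2 = 1 :=
  M.pw (p_act M) p5_k
theorem p6 {G Ω : Type*} [Group G] [MulAction G Ω] {g : ℕ → G} {pt : ℕ → Ω}
    (M : Md g pt H16.Suz.P 1782 7 H16.Suz.B 448345497600) : (wds g p_W) 4 ^ 2 = 1 :=
  M.pw (p_act M) p6_k
theorem p7 {G Ω : Type*} [Group G] [MulAction G Ω] {g : ℕ → G} {pt : ℕ → Ω}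
    (M : Md g pt H16.Suz.P 1782 7 H16.Suz.B 448345497600) : evA (wds g p_W) [3] ≠ evA (wds g p_W) [4] :=
  M.nrel (p_act M) _ p7_k

end H0.Sz
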